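import Cfsg.Agent.Lib.Char.MTwentyThreeOrder.Local.IndexPoints
import Cfsg.Agent.Lib.Spor.Golay.Unique23
import Cfsg.Agent.Lib.Spor.M24Transitive
import Cfsg.Agent.S0376
import Cfsg.Prelude.Def_Spor_Mathieu

/-!
# The Steiner system S(4,7,23) and the identification with the Mathieu group of degree 23
-/

set_option autoImplicit false
set_option linter.all false

open Subgroup MulAction

namespace CfsgLib.Char.MTwentyThreeOrder

universe u

variable {G : Type u} [Group G] [Finite G]

/-- A group of order 10200960 acting faithfully on an S(4,7,23) is the Mathieu group. -/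
theorem isoM23_of_embedding {α : Type u} [Fintype α] [DecidableEq α] {B : Set (Finset α)}
    (hα : Fintype.card α = 23) (hB : Cfsg.IsSteinerSystem 4 7 B) (hG : Nat.card G = 10200960)
    (ι : G →* Equiv.Perm α) (hι : Function.Injective ι) (hmem : ∀ x, ι x ∈ Cfsg.setSystemAut B) :
    Cfsg.Spor.IsoM23 G := by
  obtain ⟨⟨φ⟩, -⟩ := CfsgLib.Spor.Golay.aut23 hα hB none
  let ι' := ι.codRestrict (Cfsg.setSystemAut B) hmem
  have hι' : Function.Injective ι' := fun a b h => hι (congrArg Subtype.val h)
  have hcard : Nat.card (Cfsg.setSystemAut B) = 10200960 := by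
    rw [Nat.card_congr φ.toEquiv]
    exact Cfsg.Agent.S0376.result none
  have hbij : Function.Bijective ι' := by
    refine ⟨hι', ?_⟩
    have hr : ι'.range = ⊤ := Subgroup.eq_top_of_card_eq _ (by
      rw [Nat.card_congr (MonoidHom.ofInjective hι').symm.toEquiv, hG, hcard])
    exact MonoidHom.range_eq_top.1 hr
  refine ⟨(MulEquiv.ofBijective ι' hbij).trans (φ.trans
    ((Subgroup.equivMapOfInjective _ _ Cfsg.M24.subtype_injective).trans (MulEquiv.subgroupCongr ?_)))⟩
  ext g
  rw [CfsgLib.Spor.mem_map_stabilizer]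
  exact ⟨fun h => ⟨h.1, h.2⟩, fun h => ⟨h.1, h.2⟩⟩

variable {E : Subgroup G}

section design

variable (M : Subgroup G) (O : Set (Blk E))

/-- Incidence of a conjugate of the core and a point. -/
def Inc (p : G ⧸ M) (x : Blk E) : Prop := ∃ g : G, (g : G ⧸ M) = p ∧ g⁻¹ • x ∈ O

variable {M O} (hinv : ∀ m ∈ M, ∀ x, m • x ∈ O ↔ x ∈ O)
include hinv

theorem inc_mk {g : G} {x : Blk E} : Inc M O (g : G ⧸ M) x ↔ g⁻¹ • x ∈ O := by
  refine ⟨?_, fun h => ⟨g, rfl, h⟩⟩
  rintro ⟨k, hk, h⟩
  have hm := QuotientGroup.eq.1 hk.symm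
  have h1 := (hinv _ hm (k⁻¹ • x)).2 h
  rwa [smul_smul, mul_assoc, mul_inv_cancel, mul_one] at h1

theorem inc_smul {g : G} {p : G ⧸ M} {x : Blk E} : Inc M O (g • p) (g • x) ↔ Inc M O p x := by
  induction p using QuotientGroup.induction_on with
  | H k =>
    rw [MulAction.Quotient.smul_coe, smul_eq_mul, inc_mk hinv, inc_mk hinv, smul_smul,
      show (g * k)⁻¹ * g = k⁻¹ by group]

end design

/-- The facts identify the Mathieu group of degree 23. -/
theorem isoM23_of_facts [IsSimpleGroup G] (hF : Facts G) : Cfsg.Spor.IsoM23 G := by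
  classical
  obtain ⟨t, ht⟩ : ∃ t : G, orderOf t = 2 :=
    haveI := Fact.mk Nat.prime_two
    exists_prime_orderOf_dvd_card' 2 (by rw [hF.card_eq]; norm_num)
  obtain ⟨E, hE⟩ := exists_isE hF ht
  haveI := Fintype.ofFinite (Blk E)
  obtain ⟨x₀, hx₀⟩ : ∃ x₀ : Blk E, Far E x₀ := by
    by_contra hc
    push Not at hc
    have h := card_far hF ht hE
    haveI : IsEmpty {x : Blk E // Far E x} := ⟨fun x => hc x.1 x.2⟩
    rw [Nat.card_of_isEmpty] at h
    omega
  obtain ⟨M, O, hidx, hO, hb0, hx₀O, hinv⟩ := exists_index_twenty_three hF ht hE hx₀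
  haveI := Fintype.ofFinite (G ⧸ M)
  have h23 : Fintype.card (G ⧸ M) = 23 := by rw [← Nat.card_eq_fintype_card, ← Subgroup.index_eq_card, hidx]
  set blk : Blk E → Finset (G ⧸ M) := fun x => Finset.univ.filter fun p => Inc M O p x with hblk
  have hblk_smul : ∀ (g : G) x, blk (g • x) = (blk x).image (g • ·) := by
    intro g x
    ext p
    simp only [hblk, Finset.mem_filter, Finset.mem_univ, true_and, Finset.mem_image]
    refine ⟨fun h => ⟨g⁻¹ • p, ?_, smul_inv_smul g p⟩, ?_⟩
    · rw [← inc_smul hinv (g := g), smul_inv_smul]; exact h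
    · rintro ⟨q, hq, rfl⟩
      exact (inc_smul hinv).2 hq
  have hrow : ∀ p : G ⧸ M, (Finset.univ.filter fun x => Inc M O p x).card = 77 := by
    intro p
    induction p using QuotientGroup.induction_on with
    | H g =>
      rw [← hO, Set.ncard_eq_toFinset_card']
      refine Finset.card_bij' (fun x _ => g⁻¹ • x) (fun x _ => g • x) ?_ ?_ (fun x _ => smul_inv_smul g x)
        (fun x _ => inv_smul_smul g x)
      · intro x hx
        exact Set.mem_toFinset.2 ((inc_mk hinv).1 (Finset.mem_filter.1 hx).2)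
      · intro x hx
        refine Finset.mem_filter.2 ⟨Finset.mem_univ _, (inc_mk hinv).2 ?_⟩
        rw [inv_smul_smul]
        exact Set.mem_toFinset.1 hx
  have hcol : ∀ x, (blk x).card = (blk (blk0 E)).card := by
    intro x
    obtain ⟨g, rfl⟩ := MulAction.exists_smul_eq G (blk0 E) x
    rw [hblk_smul, Finset.card_image_of_injective _ (MulAction.injective g)]
  have h253 : Fintype.card (Blk E) = 253 := by rw [← Nat.card_eq_fintype_card, card_blk hF ht hE]
  have hseven : ∀ x, (blk x).card = 7 := by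
    have hdc := Finset.sum_card_bipartiteAbove_eq_sum_card_bipartiteBelow (r := fun p x => Inc M O p x)
      (s := (Finset.univ : Finset (G ⧸ M))) (t := (Finset.univ : Finset (Blk E)))
    simp only [Finset.bipartiteAbove, Finset.bipartiteBelow] at hdc
    rw [Finset.sum_congr rfl fun p _ => hrow p, Finset.sum_congr rfl fun x _ => hcol x, Finset.sum_const,
      Finset.sum_const, Finset.card_univ, Finset.card_univ, h23, h253, smul_eq_mul, smul_eq_mul] at hdc
    intro x
    rw [hcol x]
    omega
  -- intersections with the first block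
  set f : Blk E → ℕ := fun x => (blk (blk0 E) ∩ blk x).card with hf
  have hfh : ∀ h ∈ normalizer (E : Set G), ∀ x, f (h • x) = f x := by
    intro h hh x
    conv_lhs => rw [hf]
    dsimp only
    rw [← smul_blk0_iff.2 hh, hblk_smul, hblk_smul, ← Finset.image_inter _ _ (MulAction.injective h),
      Finset.card_image_of_injective _ (MulAction.injective h)]
  have hsum : ∑ x ∈ Finset.univ.erase (blk0 E), f x = 532 := by
    have h1 : ∀ x, f x = ((blk (blk0 E)).filter fun p => Inc M O p x).card := fun x => by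
      simp only [hf, hblk]
      congr 1
      ext p
      simp
    have hdc := Finset.sum_card_bipartiteAbove_eq_sum_card_bipartiteBelow (r := fun p x => Inc M O p x)
      (s := blk (blk0 E)) (t := Finset.univ.erase (blk0 E))
    simp only [Finset.bipartiteAbove, Finset.bipartiteBelow] at hdc
    rw [Finset.sum_congr rfl fun x _ => h1 x, ← hdc, Finset.sum_congr rfl (g := fun _ => 76) fun p hp => by
      rw [Finset.filter_erase, Finset.card_erase_of_mem (Finset.mem_filter.2 ⟨Finset.mem_univ _,
        (Finset.mem_filter.1 hp).2⟩), hrow p], Finset.sum_const, hseven, smul_eq_mul]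
  obtain ⟨y₀, hy₀⟩ : ∃ y₀ : Blk E, Near E y₀ := by
    by_contra hc
    push Not at hc
    have h := card_near hF ht hE
    haveI : IsEmpty {x : Blk E // Near E x} := ⟨fun x => hc x.1 x.2⟩
    rw [Nat.card_of_isEmpty] at h
    omega
  have hfar : ∀ x, Far E x → f x = f x₀ := fun x hx => by
    obtain ⟨h, hh, rfl⟩ := far_transitive hF ht hE hx₀ hx
    exact hfh h hh x₀
  have hnear : ∀ x, Near E x → f x = f y₀ := fun x hx => by
    obtain ⟨h, hh, rfl⟩ := near_transitive hF ht hE hy₀ hx
    exact hfh h hh y₀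
  have hsplit : Finset.univ.erase (blk0 E) = (Finset.univ.filter fun x => Far E x) ∪ Finset.univ.filter fun x => Near E x := by
    ext x
    simp only [Finset.mem_erase, Finset.mem_univ, and_true, Finset.mem_union, Finset.mem_filter, true_and]
    refine ⟨fun h => ?_, ?_⟩
    · by_cases hn : Near E x
      exacts [Or.inr hn, Or.inl ⟨h, hn⟩]
    · rintro (h | h)
      exacts [h.1, h.1]
  have h112 : (Finset.univ.filter fun x : Blk E => Far E x).card = 112 := by
    have h := card_far hF ht hE
    rwa [Nat.card_eq_fintype_card, Fintype.card_subtype] at h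
  have h140 : (Finset.univ.filter fun x : Blk E => Near E x).card = 140 := by
    have h := card_near hF ht hE
    rwa [Nat.card_eq_fintype_card, Fintype.card_subtype] at h
  rw [hsplit, Finset.sum_union (Finset.disjoint_left.2 fun x h1 h2 => (Finset.mem_filter.1 h1).2.2
      (Finset.mem_filter.1 h2).2),
    Finset.sum_congr rfl (g := fun _ => f x₀) fun x hx => hfar x (Finset.mem_filter.1 hx).2,
    Finset.sum_congr rfl (g := fun _ => f y₀) fun x hx => hnear x (Finset.mem_filter.1 hx).2,
    Finset.sum_const, Finset.sum_const, h112, h140, smul_eq_mul, smul_eq_mul] at hsum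
  have hx₀pos : 1 ≤ f x₀ := by
    refine Finset.card_pos.2 ⟨((1 : G) : G ⧸ M), Finset.mem_inter.2 ⟨?_, ?_⟩⟩ <;>
      refine Finset.mem_filter.2 ⟨Finset.mem_univ _, (inc_mk hinv).2 ?_⟩ <;>
      rw [inv_one, one_smul] <;> assumption
  have hle3 : ∀ x, x ≠ blk0 E → f x ≤ 3 := by
    intro x hx
    have h1 : f x₀ ≤ 4 := by omega
    have h2 : f x₀ = 1 ∧ f y₀ = 3 := by
      interval_cases hq : f x₀ <;> omega
    by_cases hn : Near E x
    · rw [hnear x hn, h2.2]
    · rw [hfar x ⟨hx, hn⟩, h2.1]
      norm_num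
  have hle : ∀ x y, x ≠ y → (blk x ∩ blk y).card ≤ 3 := by
    intro x y hxy
    obtain ⟨g, rfl⟩ := MulAction.exists_smul_eq G (blk0 E) x
    rw [← smul_inv_smul g y, hblk_smul g, hblk_smul g, ← Finset.image_inter _ _ (MulAction.injective g),
      Finset.card_image_of_injective _ (MulAction.injective g)]
    exact hle3 _ fun e => hxy (by rw [← e, smul_inv_smul])
  -- every four points lie in exactly one block
  set P4 := (Finset.univ : Finset (G ⧸ M)).powersetCard 4 with hP4
  have hP4c : P4.card = 8855 := by rw [hP4, Finset.card_powersetCard, Finset.card_univ, h23]; rfl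
  have hdisj : ∀ x ∈ (Finset.univ : Finset (Blk E)), ∀ y ∈ (Finset.univ : Finset (Blk E)), x ≠ y →
      Disjoint ((blk x).powersetCard 4) ((blk y).powersetCard 4) := by
    intro x _ y _ hxy
    refine Finset.disjoint_left.2 fun s hs hs' => ?_
    rw [Finset.mem_powersetCard] at hs hs'
    have := (Finset.card_le_card (Finset.subset_inter hs.1 hs'.1)).trans (hle x y hxy)
    omega
  have hcover : (Finset.univ : Finset (Blk E)).biUnion (fun x => (blk x).powersetCard 4) = P4 := by
    refine Finset.eq_of_subset_of_card_le (fun s hs => ?_) ?_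
    · obtain ⟨x, -, hx⟩ := Finset.mem_biUnion.1 hs
      exact Finset.mem_powersetCard.2 ⟨Finset.subset_univ _, (Finset.mem_powersetCard.1 hx).2⟩
    · rw [Finset.card_biUnion hdisj, Finset.sum_congr rfl (g := fun _ => 35) fun x _ => by
        rw [Finset.card_powersetCard, hseven]; rfl, Finset.sum_const, Finset.card_univ, h253, hP4c, smul_eq_mul]
  have hB : Cfsg.IsSteinerSystem 4 7 (Set.range blk) := by
    refine ⟨?_, fun s hs => ?_⟩
    · rintro _ ⟨x, rfl⟩
      exact hseven x
    · have : s ∈ P4 := Finset.mem_powersetCard.2 ⟨Finset.subset_univ _, hs⟩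
      rw [← hcover, Finset.mem_biUnion] at this
      obtain ⟨x, -, hx⟩ := this
      refine ⟨blk x, ⟨⟨x, rfl⟩, (Finset.mem_powersetCard.1 hx).1⟩, ?_⟩
      rintro _ ⟨⟨y, rfl⟩, hsy⟩
      by_contra hne
      have hxy : y ≠ x := fun e => hne (by rw [e])
      have := (Finset.card_le_card (Finset.subset_inter hsy (Finset.mem_powersetCard.1 hx).1)).trans (hle y x hxy)
      omega
  refine isoM23_of_embedding h23 hB hF.card_eq (MulAction.toPermHom G (G ⧸ M)) ?_ fun g => ?_
  · rw [← MonoidHom.ker_eq_bot_iff]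
    refine ((MulAction.toPermHom G (G ⧸ M)).normal_ker.eq_bot_or_eq_top).resolve_right fun htop => ?_
    have hM : M = ⊤ := eq_top_iff.2 fun g _ => by
      have h1 : MulAction.toPermHom G (G ⧸ M) g = 1 := MonoidHom.mem_ker.1 (htop ▸ Subgroup.mem_top g)
      have h2 : g • ((1 : G) : G ⧸ M) = ((1 : G) : G ⧸ M) := DFunLike.congr_fun h1 ((1 : G) : G ⧸ M)
      rw [MulAction.Quotient.smul_coe, smul_eq_mul, mul_one, QuotientGroup.eq, mul_one, inv_mem_iff] at h2
      exact h2
    rw [hM, Subgroup.index_top] at hidx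
    omega
  · rw [CfsgLib.Spor.mem_setSystemAut, ← Set.range_comp]
    refine Set.ext fun b => ⟨?_, ?_⟩
    · rintro ⟨x, rfl⟩
      exact ⟨g • x, (hblk_smul g x).trans rfl⟩
    · rintro ⟨x, rfl⟩
      refine ⟨g⁻¹ • x, ?_⟩
      show (blk (g⁻¹ • x)).image (g • ·) = blk x
      rw [← hblk_smul, smul_inv_smul]

end CfsgLib.Char.MTwentyThreeOrder
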