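import Cfsg.Agent.Lib.Char.MTwentyThreeOrder.Local.Outside

/-!
# The 253 conjugates of the core
-/

set_option autoImplicit false
set_option linter.all false

open Subgroup MulAction
open CfsgLib.Char.MTwentyTwoOrder (card_modEq_fixed conj_mem_of_mem_normalizer mem_normalizer_of_map_mem)

namespace CfsgLib.Char.MTwentyThreeOrder

universe u

variable {G : Type u} [Group G] [Finite G]

/-- The conjugates of a subgroup, as cosets of its normalizer. -/
abbrev Blk (E : Subgroup G) : Type u := G ⧸ normalizer (E : Set G)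

/-- The conjugate given by the identity. -/
def blk0 (E : Subgroup G) : Blk E := ((1 : G) : G ⧸ normalizer (E : Set G))

/-- Membership in a conjugate of the core. -/
def InCore (E : Subgroup G) (x : Blk E) (s : G) : Prop :=
  ∃ g : G, (g : Blk E) = x ∧ g⁻¹ * s * g ∈ E

/-- The conjugates meeting the normalizer of the core nontrivially. -/
def Near (E : Subgroup G) (x : Blk E) : Prop :=
  x ≠ blk0 E ∧ ∃ s : G, s ≠ 1 ∧ InCore E x s ∧ s ∈ normalizer (E : Set G)

/-- The conjugates meeting it trivially. -/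
def Far (E : Subgroup G) (x : Blk E) : Prop := x ≠ blk0 E ∧ ¬ Near E x

variable {E : Subgroup G}

theorem inCore_mk {g s : G} : InCore E (g : Blk E) s ↔ g⁻¹ * s * g ∈ E := by
  refine ⟨?_, fun h => ⟨g, rfl, h⟩⟩
  rintro ⟨k, hk, h⟩
  have hn := QuotientGroup.eq.1 hk
  have := conj_mem_of_mem_normalizer (inv_mem hn) h
  rwa [show (k⁻¹ * g)⁻¹ * (k⁻¹ * s * k) * (k⁻¹ * g)⁻¹⁻¹ = g⁻¹ * s * g by group] at this

theorem inCore_smul {g s : G} {x : Blk E} : InCore E (g • x) (g * s * g⁻¹) ↔ InCore E x s := by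
  induction x using QuotientGroup.induction_on with
  | H k =>
    rw [MulAction.Quotient.smul_coe, smul_eq_mul, inCore_mk, inCore_mk,
      show (g * k)⁻¹ * (g * s * g⁻¹) * (g * k) = k⁻¹ * s * k by group]

theorem smul_mk_eq_iff {g y : G} : y • (g : Blk E) = (g : Blk E) ↔ g⁻¹ * y * g ∈ normalizer (E : Set G) := by
  rw [MulAction.Quotient.smul_coe, smul_eq_mul, QuotientGroup.eq]
  constructor <;> intro h <;> have := inv_mem h <;>
    simpa [mul_assoc] using this

theorem InCore.fix {x : Blk E} {s : G} (h : InCore E x s) : s • x = x := by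
  obtain ⟨g, rfl, h⟩ := h
  exact smul_mk_eq_iff.2 (le_normalizer h)

theorem smul_blk0_iff {y : G} : y • blk0 E = blk0 E ↔ y ∈ normalizer (E : Set G) := by
  rw [blk0, smul_mk_eq_iff, inv_one, one_mul, mul_one]

theorem inCore_blk0 {s : G} : InCore E (blk0 E) s ↔ s ∈ E := by
  rw [blk0, inCore_mk, inv_one, one_mul, mul_one]

theorem Near.smul {x : Blk E} {h : G} (hh : h ∈ normalizer (E : Set G)) (hx : Near E x) : Near E (h • x) := by
  obtain ⟨hx0, s, hs1, hs, hsH⟩ := hx
  refine ⟨fun e => hx0 ?_, h * s * h⁻¹, fun e => hs1 (conj_eq_one_iff.1 e), inCore_smul.2 hs,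
    mul_mem (mul_mem hh hsH) (inv_mem hh)⟩
  rw [← inv_smul_smul h x, e, smul_blk0_iff]
  exact inv_mem hh

theorem Far.smul {x : Blk E} {h : G} (hh : h ∈ normalizer (E : Set G)) (hx : Far E x) : Far E (h • x) :=
  ⟨fun e => hx.1 (by rw [← inv_smul_smul h x, e, smul_blk0_iff]; exact inv_mem hh),
    fun hn => hx.2 (by have := hn.smul (inv_mem hh); rwa [inv_smul_smul] at this)⟩

theorem orbit_mul_stab (H : Subgroup G) {α : Type u} [MulAction G α] (x : α) :
    (MulAction.orbit H x).ncard * Nat.card ↥(H ⊓ stabilizer G x) = Nat.card H := by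
  have h : Nat.card (stabilizer H x) = Nat.card ↥(H ⊓ stabilizer G x) :=
    Nat.card_congr
      { toFun := fun a => ⟨(a : H), (a : H).2, a.2⟩
        invFun := fun a => ⟨⟨a, a.2.1⟩, a.2.2⟩
        left_inv := fun a => rfl
        right_inv := fun a => rfl }
  rw [← h, ← MulAction.index_stabilizer, mul_comm, Subgroup.card_mul_index]

variable (hF : Facts G)
include hF

variable {t : G}

theorem card_blk (ht : orderOf t = 2) (hE : IsE t E) : Nat.card (Blk E) = 253 := by
  have h := (normalizer (E : Set G)).card_mul_index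
  rw [hE.card_normalizer hF ht, hF.card_eq, Subgroup.index_eq_card] at h
  change 40320 * Nat.card (Blk E) = 10200960 at h
  omega

theorem IsE.conjugate (ht : orderOf t = 2) (hE : IsE t E) (g : G) :
    orderOf (g * t * g⁻¹) = 2 ∧ IsE (g * t * g⁻¹) (E.map (MulAut.conj g).toMonoidHom) :=
  ⟨by rw [show g * t * g⁻¹ = MulAut.conj g t from rfl, MulEquiv.orderOf_eq, ht], hE.map hF ht g⟩

theorem mem_map_conj {g y : G} : y ∈ E.map (MulAut.conj g).toMonoidHom ↔ g⁻¹ * y * g ∈ E := by
  constructor
  · rintro ⟨e, he, rfl⟩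
    show g⁻¹ * (g * e * g⁻¹) * g ∈ E
    rwa [show g⁻¹ * (g * e * g⁻¹) * g = e by group]
  · exact fun h => ⟨_, h, by show g * (g⁻¹ * y * g) * g⁻¹ = y; group⟩

theorem mem_normalizer_map {g y : G} :
    y ∈ normalizer ((E.map (MulAut.conj g).toMonoidHom : Subgroup G) : Set G) ↔
      g⁻¹ * y * g ∈ normalizer (E : Set G) := by
  constructor
  · intro h
    refine mem_normalizer_of_map_mem fun e he => ?_
    have := conj_mem_of_mem_normalizer h (show g * e * g⁻¹ ∈ E.map (MulAut.conj g).toMonoidHom from ⟨e, he, rfl⟩)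
    rw [mem_map_conj hF] at this
    rwa [show g⁻¹ * (y * (g * e * g⁻¹) * y⁻¹) * g = g⁻¹ * y * g * e * (g⁻¹ * y * g)⁻¹ by group] at this
  · intro h
    refine mem_normalizer_of_map_mem fun e he => ?_
    rw [mem_map_conj hF] at he ⊢
    have := conj_mem_of_mem_normalizer h he
    rwa [show g⁻¹ * y * g * (g⁻¹ * e * g) * (g⁻¹ * y * g)⁻¹ = g⁻¹ * (y * e * y⁻¹) * g by group] at this

theorem mk_ne_blk0 (ht : orderOf t = 2) (hE : IsE t E) {g : G} :
    (g : Blk E) ≠ blk0 E ↔ E.map (MulAut.conj g).toMonoidHom ≠ E := by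
  refine not_congr ⟨fun h => ?_, fun h => ?_⟩
  · have hg : g ∈ normalizer (E : Set G) := by
      have := QuotientGroup.eq.1 h.symm
      rwa [inv_one, one_mul] at this
    refine Subgroup.eq_of_le_of_card_ge ?_ (le_of_eq (Subgroup.card_map_of_injective (MulAut.conj g).injective).symm)
    rintro _ ⟨e, he, rfl⟩
    exact conj_mem_of_mem_normalizer hg he
  · refine (QuotientGroup.eq.2 ?_).symm
    rw [inv_one, one_mul]
    exact mem_normalizer_of_map_mem fun e he => h.le ⟨e, he, rfl⟩

theorem exists_inCore (ht : orderOf t = 2) (hE : IsE t E) {s : G} (hs : orderOf s = 2) :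
    ∃ x : Blk E, InCore E x s := by
  obtain ⟨g, hg⟩ := isConj_iff.1 (hF.invol_conj t s ht hs)
  exact ⟨(g : Blk E), inCore_mk.2 (by rw [← hg, show g⁻¹ * (g * t * g⁻¹) * g = t by group]; exact hE.mem)⟩

theorem inCore_unique (ht : orderOf t = 2) (hE : IsE t E) {s : G} (hs : s ≠ 1) {x y : Blk E}
    (hx : InCore E x s) (hy : InCore E y s) : x = y := by
  obtain ⟨g, rfl, hg⟩ := hx
  obtain ⟨k, rfl, hk⟩ := hy
  obtain ⟨h1, h2⟩ := hE.conjugate hF ht g
  obtain ⟨h3, h4⟩ := hE.conjugate hF ht k
  have he := h2.unique_of_mem hF h1 h3 h4 ((mem_map_conj hF).2 hg) ((mem_map_conj hF).2 hk) hs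
  refine QuotientGroup.eq.2 (mem_normalizer_of_map_mem fun e he' => ?_)
  have : k * e * k⁻¹ ∈ E.map (MulAut.conj g).toMonoidHom := he ▸ ⟨e, he', rfl⟩
  rw [mem_map_conj hF] at this
  rwa [show g⁻¹ * (k * e * k⁻¹) * g = g⁻¹ * k * e * (g⁻¹ * k)⁻¹ by group] at this

theorem InCore.orderOf_eq (ht : orderOf t = 2) (hE : IsE t E) {x : Blk E} {s : G} (h : InCore E x s)
    (hs : s ≠ 1) : orderOf s = 2 := by
  obtain ⟨g, rfl, hg⟩ := h
  refine orderOf_eq_prime ?_ hs
  have := hE.elem _ hg
  calc s ^ 2 = g * (g⁻¹ * s * g * (g⁻¹ * s * g)) * g⁻¹ := by rw [pow_two]; group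
    _ = 1 := by rw [this]; group

/-- Three involutions of a near conjugate normalize the core. -/
theorem card_near_fibre (ht : orderOf t = 2) (hE : IsE t E) {x : Blk E} (hx : Near E x) :
    Nat.card {s : G // orderOf s = 2 ∧ s ∈ normalizer (E : Set G) ∧ InCore E x s} = 3 := by
  classical
  haveI := Fintype.ofFinite G
  obtain ⟨hx0, s, hs1, hs, hsH⟩ := hx
  obtain ⟨g, rfl, hg⟩ := hs
  obtain ⟨h1, h2⟩ := hE.conjugate hF ht g
  have h4 := hE.card_meet hF ht h1 h2 ((mk_ne_blk0 hF ht hE).1 hx0)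
    (fun hbot => hs1 (mem_bot.1 (hbot ▸ ⟨(mem_map_conj hF).2 hg, hsH⟩ :
      s ∈ (⊥ : Subgroup G))))
  rw [Nat.card_eq_fintype_card, Fintype.card_subtype] at h4 ⊢
  rw [show (Finset.univ.filter fun s => orderOf s = 2 ∧ s ∈ normalizer (E : Set G) ∧ InCore E (g : Blk E) s) =
    (Finset.univ.filter fun s => s ∈ E.map (MulAut.conj g).toMonoidHom ⊓ normalizer (E : Set G)).erase 1 from ?_,
    Finset.card_erase_of_mem (Finset.mem_filter.2 ⟨Finset.mem_univ _, one_mem _⟩), h4]
  ext y
  simp only [Finset.mem_filter, Finset.mem_univ, true_and, Finset.mem_erase, Subgroup.mem_inf, mem_map_conj hF,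
    inCore_mk]
  refine ⟨fun h => ⟨fun e => ?_, h.2.2, h.2.1⟩, fun h => ⟨?_, h.2.2, h.2.1⟩⟩
  · have := h.1
    rw [e, orderOf_one] at this
    omega
  · exact InCore.orderOf_eq hF ht hE (inCore_mk.2 h.2.1) h.1

theorem card_near (ht : orderOf t = 2) (hE : IsE t E) : Nat.card {x : Blk E // Near E x} = 140 := by
  classical
  haveI := Fintype.ofFinite G
  haveI := Fintype.ofFinite (Blk E)
  have h := hE.card_outside hF ht
  rw [Nat.card_eq_fintype_card, Fintype.card_subtype] at h ⊢
  set S := Finset.univ.filter fun s => orderOf s = 2 ∧ s ∈ normalizer (E : Set G) ∧ s ∉ E with hS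
  have hch : ∀ s ∈ S, ∃ x : Blk E, InCore E x s := fun s hs => exists_inCore hF ht hE (Finset.mem_filter.1 hs).2.1
  set pick : G → Blk E := fun s => if hs : ∃ x : Blk E, InCore E x s then hs.choose else blk0 E with hp
  have hpick : ∀ s ∈ S, InCore E (pick s) s := fun s hs => by
    have := hch s hs
    simp only [hp, dif_pos this]
    exact this.choose_spec
  rw [Finset.card_eq_sum_card_fiberwise (f := pick) (t := Finset.univ.filter fun x => Near E x) ?_] at h
  · rw [Finset.sum_congr rfl (g := fun _ => 3) ?_, Finset.sum_const, smul_eq_mul] at h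
    · omega
    intro x hx
    have hxn := (Finset.mem_filter.1 hx).2
    rw [← card_near_fibre hF ht hE hxn, Nat.card_eq_fintype_card, Fintype.card_subtype]
    congr 1
    ext s
    simp only [hS, Finset.mem_filter, Finset.mem_univ, true_and]
    constructor
    · rintro ⟨⟨h1, h2, h3⟩, h4⟩
      exact ⟨h1, h2, h4 ▸ hpick s (Finset.mem_filter.2 ⟨Finset.mem_univ _, h1, h2, h3⟩)⟩
    · rintro ⟨h1, h2, h3⟩
      have hs1 : s ≠ 1 := fun e => by rw [e, orderOf_one] at h1; omega
      have hsE : s ∉ E := fun hsE => hxn.1 (inCore_unique hF ht hE hs1 h3 (inCore_blk0.2 hsE))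
      exact ⟨⟨h1, h2, hsE⟩,
        inCore_unique hF ht hE hs1 (hpick s (Finset.mem_filter.2 ⟨Finset.mem_univ _, h1, h2, hsE⟩)) h3⟩
  · intro s hs
    have h0 := hpick s hs
    obtain ⟨-, h1, h2, h3⟩ := Finset.mem_filter.1 hs
    refine Finset.mem_filter.2 ⟨Finset.mem_univ _, fun e => h3 (inCore_blk0.1 (e ▸ h0)), s, fun e => ?_, h0, h2⟩
    rw [e, orderOf_one] at h1
    omega

theorem card_far (ht : orderOf t = 2) (hE : IsE t E) : Nat.card {x : Blk E // Far E x} = 112 := by
  classical
  haveI := Fintype.ofFinite (Blk E)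
  have h1 := card_blk hF ht hE
  have h2 := card_near hF ht hE
  rw [Nat.card_eq_fintype_card] at h1
  rw [Nat.card_eq_fintype_card, Fintype.card_subtype] at h2 ⊢
  rw [show (Finset.univ.filter fun x : Blk E => Far E x) =
    (Finset.univ \ Finset.univ.filter fun x => Near E x).erase (blk0 E) from by
      ext x; simp [Far, and_comm],
    Finset.card_erase_of_mem (Finset.mem_sdiff.2 ⟨Finset.mem_univ _, fun h => (Finset.mem_filter.1 h).2.1 rfl⟩), Finset.card_sdiff_of_subset (Finset.subset_univ _), h2,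
    Finset.card_univ, h1]

theorem near_transitive (ht : orderOf t = 2) (hE : IsE t E) {x y : Blk E} (hx : Near E x) (hy : Near E y) :
    ∃ h ∈ normalizer (E : Set G), h • x = y := by
  obtain ⟨hx0, s, hs1, hs, hsH⟩ := hx
  obtain ⟨hy0, r, hr1, hr, hrH⟩ := hy
  have hsE : s ∉ E := fun h => hx0 (inCore_unique hF ht hE hs1 hs (inCore_blk0.2 h))
  have hrE : r ∉ E := fun h => hy0 (inCore_unique hF ht hE hr1 hr (inCore_blk0.2 h))
  obtain ⟨h, hh, hhs⟩ := hE.conj_outside hF ht (InCore.orderOf_eq hF ht hE hs hs1)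
    (InCore.orderOf_eq hF ht hE hr hr1) hsH hrH hsE hrE
  exact ⟨h, hh, inCore_unique hF ht hE hr1 (hhs ▸ inCore_smul.2 hs) hr⟩

/-- A near conjugate is fixed by a four group of the core. -/
theorem Near.card_stab_core (ht : orderOf t = 2) (hE : IsE t E) {x : Blk E} (hx : Near E x) :
    Nat.card ↥(E ⊓ stabilizer G x) = 4 := by
  obtain ⟨hx0, s, hs1, hs, hsH⟩ := hx
  obtain ⟨g, rfl, hg⟩ := hs
  obtain ⟨h1, h2⟩ := hE.conjugate hF ht g
  have hne := (mk_ne_blk0 hF ht hE).1 hx0
  have hb := hE.meet_ne_bot hF ht h1 h2 hne (fun hbot => hs1 (mem_bot.1 (hbot ▸ ⟨(mem_map_conj hF).2 hg, hsH⟩ :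
    s ∈ (⊥ : Subgroup G))))
  have h4 := h2.card_meet hF h1 ht hE hne.symm hb
  rw [show normalizer ((E.map (MulAut.conj g).toMonoidHom : Subgroup G) : Set G) = stabilizer G (g : Blk E) from
    Subgroup.ext fun y => (mem_normalizer_map hF).trans (smul_mk_eq_iff.symm.trans mem_stabilizer_iff.symm)] at h4
  exact h4

/-- The core acts freely on the far conjugates. -/
theorem Far.stab_core (ht : orderOf t = 2) (hE : IsE t E) {x : Blk E} (hx : Far E x) {e : G} (he : e ∈ E)
    (hex : e • x = x) : e = 1 := by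
  by_contra he1
  obtain ⟨hx0, hnn⟩ := hx
  induction x using QuotientGroup.induction_on with
  | H g =>
    obtain ⟨h1, h2⟩ := hE.conjugate hF ht g
    have hne := (mk_ne_blk0 hF ht hE).1 hx0
    have heo : orderOf e = 2 := orderOf_eq_prime (by rw [pow_two, hE.elem e he]) he1
    obtain ⟨s, hs, hs1, hse⟩ := h2.exists_fixed hF h1 heo ((mem_normalizer_map hF).2 (smul_mk_eq_iff.1 hex))
    exact hnn ⟨hx0, s, hs1, inCore_mk.2 ((mem_map_conj hF).1 hs), (hE.of_mem hF ht he he1).norm
      (mem_centralizer_singleton_iff.2 (mem_centralizer_singleton_iff.1 hse).symm)⟩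

/-- Every involution fixes 29 conjugates. -/
theorem card_fixed_blk (ht : orderOf t = 2) (hE : IsE t E) {r : G} (hr : orderOf r = 2) :
    Nat.card {x : Blk E // r • x = x} = 29 := by
  classical
  haveI := Fintype.ofFinite G
  haveI := Fintype.ofFinite (Blk E)
  set I : Finset G := Finset.univ.filter fun s => orderOf s = 2 with hI
  have hIc : I.card = 3795 := by
    have h1 := CfsgLib.Invol.card_isConj_mul t
    rw [hF.cent_invol t ht, hF.card_eq, Nat.card_congr (Equiv.subtypeEquivRight fun y =>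
      ⟨fun hy => by
        obtain ⟨c, hc⟩ := isConj_iff.1 hy
        rw [← hc, show c * t * c⁻¹ = MulAut.conj c t from rfl, MulEquiv.orderOf_eq, ht],
      fun hy => hF.invol_conj t y ht hy⟩), Nat.card_eq_fintype_card, Fintype.card_subtype, ← hI] at h1
    omega
  have hfix : ∀ s ∈ I, (Finset.univ.filter fun x : Blk E => s • x = x).card =
      (Finset.univ.filter fun x : Blk E => r • x = x).card := by
    intro s hs
    obtain ⟨g, hg⟩ := isConj_iff.1 (hF.invol_conj s r (Finset.mem_filter.1 hs).2 hr)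
    refine Finset.card_bij' (fun x _ => g • x) (fun x _ => g⁻¹ • x) ?_ ?_ (fun x _ => inv_smul_smul g x)
      (fun x _ => smul_inv_smul g x)
    · intro x hx
      refine Finset.mem_filter.2 ⟨Finset.mem_univ _, ?_⟩
      rw [← hg, mul_smul, mul_smul, inv_smul_smul, (Finset.mem_filter.1 hx).2]
    · intro x hx
      refine Finset.mem_filter.2 ⟨Finset.mem_univ _, ?_⟩
      rw [show s = g⁻¹ * r * g by rw [← hg]; group, mul_smul, mul_smul, smul_inv_smul,
        (Finset.mem_filter.1 hx).2]
  have hstab : ∀ x ∈ (Finset.univ : Finset (Blk E)), (I.filter fun s => s • x = x).card = 435 := by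
    intro x _
    induction x using QuotientGroup.induction_on with
    | H g =>
      have h0 : (I.filter fun s => s • blk0 E = blk0 E).card = 435 := by
        have h1 := hE.card_outside hF ht
        rw [Nat.card_eq_fintype_card, Fintype.card_subtype] at h1
        have h2 : (Finset.univ.filter fun y => y ∈ E).card = 16 := by
          rw [← Fintype.card_subtype, ← Nat.card_eq_fintype_card]; exact hE.card
        rw [show (I.filter fun s => s • blk0 E = blk0 E) =
          ((Finset.univ.filter fun y => y ∈ E).erase 1) ∪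
            (Finset.univ.filter fun s => orderOf s = 2 ∧ s ∈ normalizer (E : Set G) ∧ s ∉ E) from ?_,
          Finset.card_union_of_disjoint ?_, h1,
          Finset.card_erase_of_mem (Finset.mem_filter.2 ⟨Finset.mem_univ _, one_mem E⟩), h2]
        · refine Finset.disjoint_left.2 fun s hs hs' => (Finset.mem_filter.1 hs').2.2.2 ?_
          exact (Finset.mem_filter.1 (Finset.mem_erase.1 hs).2).2
        · ext s
          simp only [hI, Finset.mem_filter, Finset.mem_univ, true_and, Finset.mem_union, Finset.mem_erase,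
            smul_blk0_iff]
          constructor
          · rintro ⟨h3, h4⟩
            by_cases hsE : s ∈ E
            · refine Or.inl ⟨fun e => ?_, hsE⟩
              rw [e, orderOf_one] at h3
              omega
            · exact Or.inr ⟨h3, h4, hsE⟩
          · rintro (⟨h3, h4⟩ | ⟨h3, h4, -⟩)
            · exact ⟨orderOf_eq_prime (by rw [pow_two, hE.elem s h4]) h3, le_normalizer h4⟩
            · exact ⟨h3, h4⟩
      rw [← h0]
      refine Finset.card_bij' (fun s _ => g⁻¹ * s * g) (fun s _ => g * s * g⁻¹) ?_ ?_ (fun s _ => by group)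
        (fun s _ => by group)
      · intro s hs
        obtain ⟨h1, h2⟩ := Finset.mem_filter.1 hs
        refine Finset.mem_filter.2 ⟨Finset.mem_filter.2 ⟨Finset.mem_univ _, ?_⟩, smul_blk0_iff.2 (smul_mk_eq_iff.1 h2)⟩
        rw [show g⁻¹ * s * g = MulAut.conj g⁻¹ s by simp, MulEquiv.orderOf_eq]
        exact (Finset.mem_filter.1 h1).2
      · intro s hs
        obtain ⟨h1, h2⟩ := Finset.mem_filter.1 hs
        refine Finset.mem_filter.2 ⟨Finset.mem_filter.2 ⟨Finset.mem_univ _, ?_⟩, smul_mk_eq_iff.2 ?_⟩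
        · rw [show g * s * g⁻¹ = MulAut.conj g s from rfl, MulEquiv.orderOf_eq]
          exact (Finset.mem_filter.1 h1).2
        · rw [show g⁻¹ * (g * s * g⁻¹) * g = s by group]
          exact smul_blk0_iff.1 h2
  have hdc := Finset.sum_card_bipartiteAbove_eq_sum_card_bipartiteBelow (r := fun (s : G) (x : Blk E) => s • x = x)
    (s := I) (t := Finset.univ)
  simp only [Finset.bipartiteAbove, Finset.bipartiteBelow] at hdc
  have h253 := card_blk hF ht hE
  rw [Nat.card_eq_fintype_card] at h253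
  rw [Finset.sum_congr rfl hfix, Finset.sum_congr rfl hstab, Finset.sum_const, Finset.sum_const, hIc,
    Finset.card_univ, h253, smul_eq_mul, smul_eq_mul] at hdc
  rw [Nat.card_eq_fintype_card, Fintype.card_subtype]
  omega

end CfsgLib.Char.MTwentyThreeOrder
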