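import Cfsg.Agent.Lib.Char.MTwentyThreeOrder.Local.General
import Cfsg.Agent.Lib.Perm.Small.MidSylowPrimes
import Cfsg.Agent.S1005
import Cfsg.Agent.S1006

/-!
# The structure of a group of order 2688 shaped like an involution centralizer of M23
-/

set_option autoImplicit false
set_option linter.all false

open Subgroup MulAction
open CfsgLib.Char.MTwentyTwoOrder (card_modEq_fixed conj_mem_of_mem_normalizer card_sylow_eq)

namespace CfsgLib.Char.MTwentyThreeOrder

universe u

variable {K : Type u} [Group K] [Finite K]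

/-- The hypotheses on the centralizer of an involution. -/
structure CentHyp (K : Type u) [Group K] [Finite K] (t : K) : Prop where
  card_eq : Nat.card K = 2688
  ord : orderOf t = 2
  central : t ∈ center K
  cent_seven : ∀ x : K, orderOf x = 7 → Nat.card (centralizer ({x} : Set K)) = 14
  norm_seven : ∀ P : Subgroup K, Nat.card P = 7 → Nat.card (normalizer (P : Set K)) = 42
  invols : Nat.card {s : K // orderOf s = 2} = 99

variable {t : K} (h : CentHyp K t)
include h

theorem CentHyp.exists_seven : ∃ x : K, orderOf x = 7 := by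
  haveI : Fact (Nat.Prime 7) := ⟨by norm_num⟩
  exact exists_prime_orderOf_dvd_card' 7 (by rw [h.card_eq]; norm_num)

theorem CentHyp.comm (g : K) : Commute g t := (mem_center_iff.1 h.central g)

theorem CentHyp.zpowers_normal : (zpowers t).Normal :=
  ⟨fun n hn g => by
    obtain ⟨k, rfl⟩ := mem_zpowers_iff.1 hn
    rw [((h.comm g).zpow_right k).eq, mul_inv_cancel_right]
    exact hn⟩

theorem CentHyp.card_invol_le : Nat.card {g : K // g * g = 1} = 100 := by
  classical
  haveI := Fintype.ofFinite K
  have h1 := h.invols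
  rw [Nat.card_eq_fintype_card, Fintype.card_subtype] at h1 ⊢
  rw [show (Finset.univ.filter fun g : K => g * g = 1) =
    insert 1 (Finset.univ.filter fun s : K => orderOf s = 2) from ?_,
    Finset.card_insert_of_notMem (by simp), h1]
  ext g
  simp only [Finset.mem_insert, Finset.mem_filter, Finset.mem_univ, true_and]
  constructor
  · intro hg
    by_cases h1 : g = 1
    · exact Or.inl h1
    · exact Or.inr (orderOf_eq_prime (by rw [pow_two, hg]) h1)
  · rintro (rfl | hg)
    · exact one_mul 1
    · rw [← pow_two, ← hg, pow_orderOf_eq_one]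

/-- A subgroup without elements of order 7 normalized by one has order congruent to its fixed part. -/
theorem CentHyp.mod_seven {X : Subgroup K} (ht : t ∈ X) {x : K} (hx : orderOf x = 7)
    (hX : x ∈ normalizer (X : Set K)) (h7 : ∀ y ∈ X, orderOf y ≠ 7) : Nat.card X % 7 = 2 := by
  haveI : Fact (Nat.Prime 7) := ⟨by norm_num⟩
  have h1 := card_modEq_fixed X hx hX
  suffices h2 : Nat.card ↥(X ⊓ centralizer ({x} : Set K)) = 2 by
    rw [h2] at h1
    exact h1
  have hd : Nat.card ↥(X ⊓ centralizer ({x} : Set K)) ∣ 2 * 7 := by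
    have := Subgroup.card_dvd_of_le (inf_le_right : X ⊓ centralizer ({x} : Set K) ≤ centralizer {x})
    rwa [h.cent_seven x hx] at this
  have h7' : ¬ 7 ∣ Nat.card ↥(X ⊓ centralizer ({x} : Set K)) := fun hdvd => by
    obtain ⟨y, hy⟩ := exists_prime_orderOf_dvd_card' 7 hdvd
    exact h7 y y.2.1 (by rw [Subgroup.orderOf_coe, hy])
  refine Nat.dvd_antisymm (((Nat.Prime.coprime_iff_not_dvd (by norm_num)).2 h7').symm.dvd_of_dvd_mul_right hd) ?_
  have h2 : orderOf t ∣ _ := Subgroup.orderOf_dvd_natCard (X ⊓ centralizer ({x} : Set K))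
    ⟨ht, mem_centralizer_singleton_iff.2 (h.comm x).eq.symm⟩
  rwa [h.ord] at h2

/-- No normal subgroup of order 128. -/
theorem CentHyp.not_128 (S : Subgroup K) [hS : S.Normal] : Nat.card S ≠ 128 := by
  intro hc
  have hmem : ∀ g : K, g * g = 1 → g ∈ S := by
    intro g hg
    have hi : S.index = 21 := by
      have := S.card_mul_index
      rw [hc, h.card_eq] at this
      omega
    have h1 : (g : K ⧸ S) ^ 21 = 1 := by
      rw [← hi, Subgroup.index_eq_card]
      exact pow_card_eq_one'
    rw [← QuotientGroup.mk_pow, QuotientGroup.eq_one_iff,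
      show g ^ 21 = (g * g) ^ 10 * g by rw [← pow_two, ← pow_mul, ← pow_succ], hg, one_pow, one_mul] at h1
    exact h1
  have he : Nat.card {g : S // g * g = 1} = 100 := by
    rw [← h.card_invol_le]
    exact Nat.card_congr
      { toFun := fun g => ⟨g.1, by simpa using congrArg Subtype.val g.2⟩
        invFun := fun g => ⟨⟨g.1, hmem _ g.2⟩, Subtype.ext g.2⟩
        left_inv := fun g => rfl
        right_inv := fun g => rfl }
  have hall := sq_eq_one_of_many (G := S) (by rw [he, hc]; norm_num)
  have : Nat.card {g : S // g * g = 1} = Nat.card S := Nat.card_congr (Equiv.subtypeUnivEquiv hall)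
  rw [he, hc] at this
  omega

/-- A normal subgroup containing the involution. -/
theorem CentHyp.normal_cases (N : Subgroup K) [hN : N.Normal] (ht : t ∈ N) :
    (IsPGroup 2 N ∧ (Nat.card N = 2 ∨ Nat.card N = 16)) ∨ N = ⊤ := by
  classical
  haveI : Fact (Nat.Prime 7) := ⟨by norm_num⟩
  haveI : Fact (Nat.Prime 3) := ⟨by norm_num⟩
  obtain ⟨x, hx⟩ := h.exists_seven
  have hNd : Nat.card N ∣ 2688 := h.card_eq ▸ N.card_subgroup_dvd_card
  have frat : ∀ {p : ℕ} [Fact p.Prime] (Q : Sylow p N),
      Nat.card N * Nat.card (normalizer ((Q : Subgroup N).map N.subtype : Set K)) =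
        2688 * Nat.card ↥(N ⊓ normalizer ((Q : Subgroup N).map N.subtype : Set K)) := by
    intro p _ Q
    set M := normalizer ((Q : Subgroup N).map N.subtype : Set K)
    have h1 : M ⊔ N = ⊤ := Sylow.normalizer_sup_eq_top Q
    have h2 : N.relIndex M = N.index := by
      rw [← Subgroup.relIndex_sup_right M N, h1, Subgroup.relIndex_top_right]
    have h3 : Nat.card ↥(N ⊓ M) * N.relIndex M = Nat.card M := by
      rw [← Subgroup.inf_relIndex_right N M, Subgroup.relIndex, ← Nat.card_congr
        (Subgroup.subgroupOfEquivOfLe (inf_le_right : N ⊓ M ≤ M)).toEquiv]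
      exact Subgroup.card_mul_index _
    have h4 := N.card_mul_index
    rw [h.card_eq] at h4
    rw [← h3, h2, ← h4]
    ring
  by_cases h7 : ∀ y ∈ N, orderOf y ≠ 7
  · left
    have h7' : ¬ 7 ∣ Nat.card N := fun hdvd => by
      obtain ⟨y, hy⟩ := exists_prime_orderOf_dvd_card' 7 hdvd
      exact h7 y y.2 (by rw [Subgroup.orderOf_coe, hy])
    have h3' : ¬ 3 ∣ Nat.card N := fun hdvd => by
      obtain ⟨Q⟩ : Nonempty (Sylow 3 N) := inferInstance
      have hQc : Nat.card (Q : Subgroup N) = 3 := by
        obtain ⟨m, hm⟩ := hdvd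
        refine card_sylow_eq (a := 1) (m := m) Q (by rw [hm, pow_one]) fun h3 => ?_
        have h9 : 9 ∣ 2688 := (show 9 ∣ Nat.card N by rw [hm]; exact mul_dvd_mul_left 3 h3).trans hNd
        norm_num at h9
      have hQ' : Nat.card ((Q : Subgroup N).map N.subtype) = 3 := by
        rw [Subgroup.card_map_of_injective N.subtype_injective, hQc]
      have h1 := frat Q
      have h7M : 7 ∣ Nat.card (normalizer ((Q : Subgroup N).map N.subtype : Set K)) := by
        have hd : 7 ∣ Nat.card N * Nat.card (normalizer ((Q : Subgroup N).map N.subtype : Set K)) :=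
          h1 ▸ (show 7 ∣ 2688 by norm_num).mul_right _
        exact ((Nat.Prime.dvd_mul (by norm_num)).1 hd).resolve_left h7'
      obtain ⟨y, hy⟩ := exists_prime_orderOf_dvd_card' 7 h7M
      have hy' : orderOf (y : K) = 7 := by rw [Subgroup.orderOf_coe, hy]
      have h2 := card_modEq_fixed ((Q : Subgroup N).map N.subtype) hy' y.2
      rw [hQ'] at h2
      have hd := Subgroup.card_dvd_of_le (inf_le_left :
        (Q : Subgroup N).map N.subtype ⊓ centralizer ({(y : K)} : Set K) ≤ _)
      rw [hQ'] at hd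
      rcases (Nat.dvd_prime Nat.prime_three).1 hd with h3 | h3 <;> rw [h3] at h2
      · exact absurd h2 (by decide)
      · have := Subgroup.card_dvd_of_le (inf_le_right :
          (Q : Subgroup N).map N.subtype ⊓ centralizer ({(y : K)} : Set K) ≤ _)
        rw [h3, h.cent_seven _ hy'] at this
        norm_num at this
    have hd : Nat.card N ∣ 2 ^ 7 := by
      have e : Nat.Coprime (Nat.card N) 21 := by
        rw [show (21 : ℕ) = 3 * 7 by norm_num]
        exact Nat.Coprime.mul_right ((Nat.Prime.coprime_iff_not_dvd Nat.prime_three).2 h3').symm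
          ((Nat.Prime.coprime_iff_not_dvd (by norm_num)).2 h7').symm
      exact e.dvd_of_dvd_mul_right (by norm_num; exact hNd)
    obtain ⟨a, ha, hac⟩ := (Nat.dvd_prime_pow Nat.prime_two).1 hd
    refine ⟨IsPGroup.of_card hac, ?_⟩
    have hm := h.mod_seven ht hx (by rw [normalizer_eq_top]; exact mem_top x) h7
    have h128 := h.not_128 N
    rw [hac] at hm h128 ⊢
    interval_cases a <;> simp_all
  · push Not at h7
    obtain ⟨y, hyN, hy⟩ := h7
    right
    obtain ⟨Q⟩ : Nonempty (Sylow 7 N) := inferInstance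
    have h7N : 7 ∣ Nat.card N := hy ▸ Subgroup.orderOf_dvd_natCard N hyN
    have hQc : Nat.card (Q : Subgroup N) = 7 := by
      obtain ⟨m, hm⟩ := h7N
      refine card_sylow_eq (a := 1) (m := m) Q (by rw [hm, pow_one]) fun h7 => ?_
      have h49 : 49 ∣ 2688 := (show 49 ∣ Nat.card N by rw [hm]; exact mul_dvd_mul_left 7 h7).trans hNd
      norm_num at h49
    have hQ' : Nat.card ((Q : Subgroup N).map N.subtype) = 7 := by
      rw [Subgroup.card_map_of_injective N.subtype_injective, hQc]
    set M := normalizer ((Q : Subgroup N).map N.subtype : Set K) with hM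
    have hMc : Nat.card M = 42 := h.norm_seven _ hQ'
    have h1 := frat Q
    rw [← hM, hMc] at h1
    -- the normalizer in the normal subgroup contains the centralizer
    obtain ⟨z', hz'⟩ := exists_prime_orderOf_dvd_card' (G := (Q : Subgroup N)) 7 (by rw [hQc])
    set z : K := ((z' : N) : K) with hz
    have hzo : orderOf z = 7 := by rw [hz, Subgroup.orderOf_coe, Subgroup.orderOf_coe, hz']
    have hQz : (Q : Subgroup N).map N.subtype = zpowers z := by
      refine (Subgroup.eq_of_le_of_card_ge (show zpowers z ≤ _ from zpowers_le.2 (Subgroup.mem_map.2 ⟨_, z'.2, rfl⟩)) ?_).symm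
      rw [Nat.card_zpowers, hzo, hQ']
    have hzN : z ∈ N := (z' : N).2
    have hC : centralizer ({z} : Set K) = zpowers t ⊔ zpowers z := by
      refine (Subgroup.eq_of_le_of_card_ge (sup_le (zpowers_le.2 (mem_centralizer_singleton_iff.2
        (h.comm z).eq.symm)) (zpowers_le.2 (mem_centralizer_singleton_iff.2 rfl))) ?_).symm
      rw [h.cent_seven z hzo]
      refine Nat.le_of_dvd Nat.card_pos ((show Nat.Coprime 2 7 by norm_num).mul_dvd_of_dvd_of_dvd ?_ ?_)
      · exact h.ord ▸ Subgroup.orderOf_dvd_natCard _ (mem_sup_left (mem_zpowers t))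
      · exact hzo ▸ Subgroup.orderOf_dvd_natCard _ (mem_sup_right (mem_zpowers z))
    have hCN : centralizer ({z} : Set K) ≤ N ⊓ M := by
      rw [hC]
      refine sup_le (zpowers_le.2 (Subgroup.mem_inf.2 ⟨ht, ?_⟩)) (zpowers_le.2 (Subgroup.mem_inf.2 ⟨hzN, ?_⟩))
      · rw [hM, hQz]
        exact centralizer_le_normalizer _ (mem_centralizer_iff.2 fun w hw => (h.comm w).eq)
      · rw [hM, hQz]; exact le_normalizer (mem_zpowers z)
    have h14 : 14 ∣ Nat.card ↥(N ⊓ M) := h.cent_seven z hzo ▸ Subgroup.card_dvd_of_le hCN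
    have h42 : Nat.card ↥(N ⊓ M) ∣ 42 := hMc ▸ Subgroup.card_dvd_of_le inf_le_right
    by_contra hne
    obtain ⟨k, hk⟩ := h14
    rw [hk] at h42 h1
    have hk3 : k ∣ 3 := Nat.dvd_of_mul_dvd_mul_left (by norm_num : 0 < 14) (by simpa using h42)
    rcases (Nat.dvd_prime Nat.prime_three).1 hk3 with rfl | rfl
    swap
    · exact hne (Subgroup.eq_top_of_card_eq _ (by rw [h.card_eq]; omega))
    have hNc : Nat.card N = 896 := by omega
    have hNM : N ⊓ M = centralizer ({z} : Set K) :=
      (Subgroup.eq_of_le_of_card_ge hCN (by rw [hk, h.cent_seven z hzo])).symm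
    -- transfer gives a normal complement
    have hle : normalizer ((Q : Subgroup N) : Set N) ≤ centralizer ((Q : Subgroup N) : Set N) := by
      intro g hg
      have hgM : (g : K) ∈ N ⊓ M := by
        refine ⟨g.2, mem_normalizer_iff.2 fun w => ⟨?_, ?_⟩⟩
        · rintro ⟨q, hq, rfl⟩
          exact ⟨_, (mem_normalizer_iff.1 hg q).1 hq, rfl⟩
        · rintro ⟨q, hq, he⟩
          exact ⟨g⁻¹ * q * g, (mem_normalizer_iff''.1 hg q).1 hq, by
            show (g : K)⁻¹ * (q : K) * g = w
            rw [show (q : K) = (g : K) * w * (g : K)⁻¹ from he]; group⟩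
      rw [hNM] at hgM
      refine mem_centralizer_iff.2 fun q hq => Subtype.ext ?_
      have hq' : (q : K) ∈ zpowers z := hQz ▸ (⟨q, hq, rfl⟩ : (q : K) ∈ (Q : Subgroup N).map N.subtype)
      obtain ⟨n, hn⟩ := mem_zpowers_iff.1 hq'
      rw [Subgroup.coe_mul, Subgroup.coe_mul, ← hn]
      exact ((Commute.zpow_right (show Commute (g : K) z from mem_centralizer_singleton_iff.1 hgM) n).eq).symm
    have hc := MonoidHom.ker_transferSylow_isComplement' Q hle
    set L := (MonoidHom.transferSylow Q hle).ker.map N.subtype with hL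
    have hLc : Nat.card L = 128 := by
      have := hc.card_mul
      rw [hQc, hNc] at this
      rw [hL, Subgroup.card_map_of_injective N.subtype_injective]
      omega
    have hLN : L.Normal := by
      refine ⟨fun w hw g => ?_⟩
      obtain ⟨⟨w', hwN⟩, hw', rfl⟩ := hw
      refine ⟨⟨_, hN.conj_mem w' hwN g⟩, ?_, rfl⟩
      rw [SetLike.mem_coe, MonoidHom.mem_ker]
      have hw128 : orderOf (MulAut.conj g w') ∣ 128 := by
        rw [MulEquiv.orderOf_eq]
        exact hLc ▸ Subgroup.orderOf_dvd_natCard L ⟨_, hw', rfl⟩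
      have ho : orderOf (⟨g * w' * g⁻¹, hN.conj_mem w' hwN g⟩ : N) ∣ 128 := by
        rw [← orderOf_injective N.subtype N.subtype_injective]
        exact hw128
      have h7d := orderOf_dvd_natCard (MonoidHom.transferSylow Q hle ⟨g * w' * g⁻¹, hN.conj_mem w' hwN g⟩)
      have hQ7 : Nat.card ↥(Q : Subgroup N) = 7 := hQc
      have h1 := Nat.dvd_gcd ((orderOf_map_dvd (MonoidHom.transferSylow Q hle) _).trans ho) (h7d.trans (dvd_of_eq hQ7))
      rwa [show Nat.gcd 128 7 = 1 from rfl, Nat.dvd_one, orderOf_eq_one_iff] at h1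
    haveI := hLN
    exact h.not_128 L hLc

end CfsgLib.Char.MTwentyThreeOrder
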