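import Cfsg.Agent.Lib.Char.MTwentyThreeOrder.Local.Core
import Cfsg.Agent.Lib.Invol.TwoClasses

/-!
# The elementary abelian core of order 16
-/

set_option autoImplicit false
set_option linter.all false

open Subgroup MulAction
open CfsgLib.Char.MTwentyTwoOrder (card_modEq_fixed conj_mem_of_mem_normalizer)

namespace CfsgLib.Char.MTwentyThreeOrder

universe u

variable {K : Type u} [Group K] [Finite K] {t : K} (h : CentHyp K t)
include h

theorem CentHyp.exists_sixteen : ∃ E : Subgroup K, E.Normal ∧ IsPGroup 2 E ∧ Nat.card E = 16 ∧ t ∈ E := by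
  haveI := h.zpowers_normal
  have hq : Nat.card (K ⧸ zpowers t) = 1344 := by
    have := (zpowers t).card_mul_index
    rw [Nat.card_zpowers, h.ord, h.card_eq, Subgroup.index_eq_card] at this
    omega
  haveI : Nontrivial (K ⧸ zpowers t) := Finite.one_lt_card_iff_nontrivial.1 (by rw [hq]; norm_num)
  obtain ⟨N, hN, hNb, hNt⟩ : ∃ N : Subgroup (K ⧸ zpowers t), N.Normal ∧ N ≠ ⊥ ∧ N ≠ ⊤ := by
    by_contra hno
    push Not at hno
    haveI : IsSimpleGroup (K ⧸ zpowers t) := ⟨fun H hH => or_iff_not_imp_left.2 (hno H hH)⟩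
    exact CfsgLib.Perm.MidPrimes.card_ne_1344 hq
  haveI := hN
  set E := N.comap (QuotientGroup.mk' (zpowers t))
  have htE : t ∈ E := by
    show QuotientGroup.mk' (zpowers t) t ∈ N
    rw [show QuotientGroup.mk' (zpowers t) t = 1 from (QuotientGroup.eq_one_iff t).2 (mem_zpowers t)]
    exact one_mem N
  rcases h.normal_cases E htE with ⟨hp, h2 | h16⟩ | htop
  · exfalso
    refine hNb ((eq_bot_iff).2 fun q hq' => ?_)
    obtain ⟨g, rfl⟩ := QuotientGroup.mk'_surjective (zpowers t) q
    have hle : zpowers t = E :=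
      Subgroup.eq_of_le_of_card_ge (zpowers_le.2 htE) (by rw [h2, Nat.card_zpowers, h.ord])
    rw [Subgroup.mem_bot]
    exact (QuotientGroup.eq_one_iff g).2 (hle ▸ (hq' : g ∈ E))
  · exact ⟨E, inferInstance, hp, h16, htE⟩
  · exfalso
    refine hNt (eq_top_iff.2 fun q _ => ?_)
    obtain ⟨g, rfl⟩ := QuotientGroup.mk'_surjective (zpowers t) q
    exact (htop ▸ mem_top g : g ∈ E)

theorem CentHyp.mem_zpowers_iff' {y : K} : y ∈ zpowers t ↔ y = 1 ∨ y = t := by
  constructor
  · intro hy
    obtain ⟨n, rfl⟩ := mem_zpowers_iff.1 hy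
    have t2 : t ^ (2 : ℤ) = 1 := by
      rw [show t ^ (2 : ℤ) = t ^ (2 : ℕ) by norm_cast, ← h.ord, pow_orderOf_eq_one]
    rcases Int.even_or_odd n with ⟨m, rfl⟩ | ⟨m, rfl⟩
    · left; rw [show m + m = 2 * m by ring, zpow_mul, t2, one_zpow]
    · right; rw [zpow_add_one, zpow_mul, t2, one_zpow, one_mul]
  · rintro (rfl | rfl)
    · exact one_mem _
    · exact mem_zpowers _

theorem CentHyp.t_ne_one : t ≠ 1 := fun e => by
  have h2 := h.ord
  rw [e, orderOf_one] at h2
  omega

theorem CentHyp.t_sq : t * t = 1 := by rw [← pow_two, ← h.ord, pow_orderOf_eq_one]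

/-- The core is elementary abelian. -/
theorem CentHyp.elementary {E : Subgroup K} (hE : E.Normal) (hEp : IsPGroup 2 E) (h16 : Nat.card E = 16)
    (ht : t ∈ E) : ∀ e ∈ E, e * e = 1 := by
  classical
  haveI := hE
  haveI := Fintype.ofFinite K
  obtain ⟨x, hx⟩ := h.exists_seven
  set R : Finset K := Finset.univ.filter fun e => e ∈ E ∧ e ∉ zpowers t with hR
  have hRc : R.card = 14 := by
    have h1 : (Finset.univ.filter fun e => e ∈ E).card = 16 := by
      rw [← Fintype.card_subtype, ← Nat.card_eq_fintype_card]; exact h16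
    have h2 : (Finset.univ.filter fun e => e ∈ E) = insert 1 (insert t R) := by
      ext e
      simp only [hR, Finset.mem_filter, Finset.mem_univ, true_and, Finset.mem_insert, h.mem_zpowers_iff']
      constructor
      · intro he; tauto
      · rintro (rfl | rfl | h')
        exacts [one_mem E, ht, h'.1]
    rw [h2, Finset.card_insert_of_notMem (by simp [hR, h.t_ne_one.symm]),
      Finset.card_insert_of_notMem (by simp [hR])] at h1
    omega
  -- a set of elements stable under conjugation and inversion without involutions has no element or all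
  have key : ∀ P : K → Prop, (∀ g e : K, P e → P (g * e * g⁻¹)) → (∀ e ∈ R, P e → P e⁻¹ ∧ e * e ≠ 1) →
      (∀ e ∈ R, ¬ P e) ∨ (∀ e ∈ R, P e) := by
    intro P hconj hinv
    set Q := R.filter P with hQ
    have heven : Even Q.card := by
      suffices (Q.card : ZMod 2) = 0 from (ZMod.natCast_eq_zero_iff_even).1 this
      rw [Finset.card_eq_sum_ones, Nat.cast_sum]
      refine Finset.sum_involution (fun e _ => e⁻¹) (fun e _ => by decide) (fun e he _ hee => ?_)
        (fun e he => ?_) (fun e _ => inv_inv e)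
      · obtain ⟨he1, he2⟩ := Finset.mem_filter.1 he
        exact (hinv e he1 he2).2 (by nth_rewrite 1 [← hee]; exact inv_mul_cancel e)
      · obtain ⟨he1, he2⟩ := Finset.mem_filter.1 he
        obtain ⟨-, he3, he4⟩ := Finset.mem_filter.1 he1
        exact Finset.mem_filter.2 ⟨Finset.mem_filter.2 ⟨Finset.mem_univ _, inv_mem he3,
          fun h' => he4 (inv_mem_iff.1 h')⟩, (hinv e he1 he2).1⟩
    have h7 : 7 ∣ Q.card := by
      have hd := CfsgLib.Char.MTwentyTwoOrder.card_dvd_of_free (zpowers x) (↑Q : Set K)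
        (fun a ha d hd => by
          obtain ⟨hd1, hd2⟩ := Finset.mem_filter.1 (Finset.mem_coe.1 hd)
          obtain ⟨-, hd3, hd4⟩ := Finset.mem_filter.1 hd1
          refine Finset.mem_coe.2 (Finset.mem_filter.2 ⟨Finset.mem_filter.2 ⟨Finset.mem_univ _,
            hE.conj_mem d hd3 a, fun h' => hd4 ?_⟩, hconj a d hd2⟩)
          have h2 := h.zpowers_normal.conj_mem _ h' a⁻¹
          rwa [show a⁻¹ * (a * d * a⁻¹) * a⁻¹⁻¹ = d by group] at h2)
        (fun a ha ha1 d hd he => by
          obtain ⟨-, hd3, hd4⟩ := Finset.mem_filter.1 (Finset.mem_filter.1 (Finset.mem_coe.1 hd)).1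
          have hao : orderOf a = 7 := by
            have h1 := Subgroup.orderOf_dvd_natCard (zpowers x) ha
            rw [Nat.card_zpowers, hx] at h1
            exact ((Nat.dvd_prime (by norm_num)).1 h1).resolve_left fun e => ha1 (orderOf_eq_one_iff.1 e)
          have hdc : d ∈ centralizer ({a} : Set K) := mem_centralizer_singleton_iff.2 (mul_inv_eq_iff_eq_mul.1 he).symm
          have h1 : orderOf d ∣ 14 := by
            have := Subgroup.orderOf_dvd_natCard _ hdc
            rwa [h.cent_seven a hao] at this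
          have h2 : orderOf d ∣ 16 := h16 ▸ Subgroup.orderOf_dvd_natCard E hd3
          have h3 : orderOf d ∣ 2 := Nat.dvd_gcd h1 h2
          -- the centralizer is cyclic of order fourteen
          refine hd4 ?_
          by_contra hdt
          have hD : ({1, t, d} : Finset K) ⊆ Finset.univ.filter fun y => y ∈ E ⊓ centralizer ({a} : Set K) := by
            intro y hy
            simp only [Finset.mem_insert, Finset.mem_singleton] at hy
            refine Finset.mem_filter.2 ⟨Finset.mem_univ _, ?_⟩
            rcases hy with rfl | rfl | rfl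
            · exact one_mem _
            · exact ⟨ht, mem_centralizer_singleton_iff.2 (h.comm a).eq.symm⟩
            · exact ⟨hd3, hdc⟩
          have h4 := Finset.card_le_card hD
          rw [h.mem_zpowers_iff'] at hdt
          push Not at hdt
          rw [← Fintype.card_subtype, ← Nat.card_eq_fintype_card, Finset.card_insert_of_notMem (by
              simp [h.t_ne_one.symm, hdt.1.symm]), Finset.card_pair hdt.2.symm] at h4
          have h5 := Nat.dvd_gcd (h16 ▸ Subgroup.card_dvd_of_le (inf_le_left : E ⊓ centralizer ({a} : Set K) ≤ E))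
            (h.cent_seven a hao ▸ Subgroup.card_dvd_of_le (inf_le_right : E ⊓ centralizer ({a} : Set K) ≤ _))
          rw [show Nat.gcd 16 14 = 2 from rfl] at h5
          have := Nat.le_of_dvd (by norm_num) h5
          change 2 + 1 ≤ Nat.card ↥(E ⊓ centralizer ({a} : Set K)) at h4
          omega)
      rwa [Nat.card_zpowers, hx, Set.ncard_coe_finset] at hd
    have hle : Q.card ≤ 14 := hRc ▸ Finset.card_filter_le _ _
    obtain ⟨m, hm⟩ := h7
    obtain ⟨k, hk⟩ := heven
    rcases (show Q.card = 0 ∨ Q.card = 14 by omega) with h0 | h0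
    · exact Or.inl fun e he hP => by
        rw [Finset.card_eq_zero, Finset.filter_eq_empty_iff] at h0
        exact h0 he hP
    · exact Or.inr fun e he => by
        have := Finset.eq_of_subset_of_card_le (Finset.filter_subset P R) (by rw [hRc, ← hQ, h0])
        exact (Finset.mem_filter.1 (this.ge he)).2
  have memR : ∀ {e : K}, e ∈ R ↔ e ∈ E ∧ e ∉ zpowers t := by simp [hR]
  -- some element outside `t` squares to one or all square to `t`
  rcases key (fun e => e * e ∉ zpowers t) (fun g e he h' => he (by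
      have h2 := h.zpowers_normal.conj_mem _ h' g⁻¹
      rwa [show g⁻¹ * (g * e * g⁻¹ * (g * e * g⁻¹)) * g⁻¹⁻¹ = e * e by group] at h2))
    (fun e he hP => ⟨fun h' => hP (by simpa [mul_inv_rev] using inv_mem h'), fun h1 => hP (by
      rw [h1]; exact one_mem _)⟩) with hin | hout
  swap
  · exfalso
    obtain ⟨e, he⟩ := Finset.card_pos.1 (show 0 < R.card by omega)
    have hstep : ∀ n, e ^ 2 ^ n ∈ R := fun n => by
      induction n with
      | zero => simpa using he
      | succ n ih =>
        rw [pow_succ, pow_mul, pow_two]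
        exact memR.2 ⟨mul_mem (memR.1 ih).1 (memR.1 ih).1, hout _ ih⟩
    have h4 := hstep 4
    rw [show (2 : ℕ) ^ 4 = Nat.card E by rw [h16]; rfl,
      orderOf_dvd_iff_pow_eq_one.1 (Subgroup.orderOf_dvd_natCard E (memR.1 he).1)] at h4
    exact (memR.1 h4).2 (one_mem _)
  push Not at hin
  rcases key (fun e => e * e ≠ 1) (fun g e he h' => he (by
      have : g⁻¹ * (g * e * g⁻¹ * (g * e * g⁻¹)) * g = e * e := by group
      rw [← this, h', mul_one, inv_mul_cancel]))
    (fun e he hP => ⟨fun h' => hP (by rwa [← mul_inv_rev, inv_eq_one] at h'), hP⟩) with hone | hall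
  · intro e he
    by_cases het : e ∈ zpowers t
    · rcases h.mem_zpowers_iff'.1 het with rfl | rfl
      · exact one_mul 1
      · exact h.t_sq
    · exact not_not.1 (hone e (memR.2 ⟨he, het⟩))
  exfalso
  have hsq : ∀ e ∈ R, e * e = t := fun e he =>
    (h.mem_zpowers_iff'.1 (hin e he)).resolve_left (hall e he)
  -- distinct elements anticommute
  have hanti : ∀ a ∈ R, ∀ b ∈ R, a * b ∈ R → b * a = t * (a * b) := fun a ha b hb hab => by
    have h1 := hsq _ hab
    have ha' := hsq a ha
    have hb' := hsq b hb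
    calc b * a = a⁻¹ * (a * b * (a * b)) * b⁻¹ := by group
      _ = a⁻¹ * t * b⁻¹ := by rw [h1]
      _ = t * (a⁻¹ * b⁻¹) := by rw [(h.comm a⁻¹).eq, mul_assoc]
      _ = t * (a * (a⁻¹ * a⁻¹) * ((b⁻¹ * b⁻¹) * b)) := by group
      _ = t * (a * b) := by
        rw [← mul_inv_rev, ha', ← mul_inv_rev, hb', show t⁻¹ = t from inv_eq_of_mul_eq_one_right h.t_sq]
        have hc : a * t * (t * b) = a * (t * t) * b := by group
        rw [hc, h.t_sq, mul_one]
  obtain ⟨a, ha⟩ := Finset.card_pos.1 (show 0 < R.card by omega)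
  obtain ⟨b, hb, hba⟩ : ∃ b ∈ R, b ∉ ({a, t * a} : Finset K) := by
    by_contra hno
    push Not at hno
    have := (Finset.card_le_card (show R ⊆ {a, t * a} from hno)).trans Finset.card_le_two
    omega
  obtain ⟨c, hc, hcn⟩ : ∃ c ∈ R, c ∉ ({a, t * a, b, t * b, a * b, t * (a * b)} : Finset K) := by
    by_contra hno
    push Not at hno
    have := (Finset.card_le_card (show R ⊆ {a, t * a, b, t * b, a * b, t * (a * b)} from hno)).trans
      Finset.card_le_six
    omega
  simp only [Finset.mem_insert, Finset.mem_singleton, not_or] at hba hcn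
  have t2 := h.t_sq
  have hR2 : ∀ p ∈ R, ∀ q ∈ R, q ≠ p → q ≠ t * p → p * q ∈ R := by
    intro p hp q hq h1 h2
    refine memR.2 ⟨mul_mem (memR.1 hp).1 (memR.1 hq).1, fun hz => ?_⟩
    rcases h.mem_zpowers_iff'.1 hz with hz | hz
    · refine h2 ?_
      calc q = p⁻¹ * (p * q) := by group
        _ = p⁻¹ := by rw [hz, mul_one]
        _ = t * p := eq_comm.1 (eq_inv_of_mul_eq_one_left (by rw [mul_assoc, hsq p hp, t2]))
    · refine h1 ?_
      calc q = p⁻¹ * (p * q) := by group
        _ = p⁻¹ * (p * p) := by rw [hz, hsq p hp]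
        _ = p := by group
  have hab := hR2 a ha b hb hba.1 hba.2
  have hac := hR2 a ha c hc hcn.1 hcn.2.1
  have hbc := hR2 b hb c hc hcn.2.2.1 hcn.2.2.2.1
  have habc := hR2 _ hab c hc hcn.2.2.2.2.1 hcn.2.2.2.2.2
  have h1 := hanti _ hab c hc habc
  have h2 : c * (a * b) = a * b * c := by
    calc c * (a * b) = c * a * b := by group
      _ = t * (a * c) * b := by rw [hanti a ha c hc hac]
      _ = t * a * (c * b) := by group
      _ = t * a * (t * (b * c)) := by rw [hanti b hb c hc hbc]
      _ = t * (a * t) * (b * c) := by group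
      _ = t * (t * a) * (b * c) := by rw [(h.comm a).eq]
      _ = a * b * c := by rw [← mul_assoc t t a, t2]; group
  rw [h2] at h1
  exact h.t_ne_one (mul_right_cancel (((one_mul _).trans h1).symm))

end CfsgLib.Char.MTwentyThreeOrder
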