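import Cfsg.Agent.Lib.Char.MTwentyThreeOrder.Local.CoreE

/-!
# The quotient by the core of order 16
-/

set_option autoImplicit false
set_option linter.all false

open Subgroup MulAction
open CfsgLib.Char.MTwentyTwoOrder (card_modEq_fixed conj_mem_of_mem_normalizer)

namespace CfsgLib.Char.MTwentyThreeOrder

universe u

/-- The facts on the core of order 16. -/
structure IsCentCore {K : Type u} [Group K] [Finite K] (t : K) (E : Subgroup K) : Prop where
  normal : E.Normal
  card_eq : Nat.card E = 16
  mem : t ∈ E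
  elem : ∀ e ∈ E, e * e = 1
  cent : centralizer (E : Set K) = E
  invol : ∀ s : K, s ∉ E → orderOf s = 2 → Nat.card ↥(E ⊓ centralizer ({s} : Set K)) = 4
  three : ∀ u : K, orderOf u = 3 → Nat.card ↥(E ⊓ centralizer ({u} : Set K)) = 4
  cent_three : ∀ u : K, orderOf u = 3 → Nat.card (centralizer ({u} : Set K)) = 12
  exists_outside : ∃ s : K, s ∉ E ∧ orderOf s = 2
  trans : ∀ X : Subgroup K, X.Normal → t ∈ X → X ≤ E → X = zpowers t ∨ X = E
  above : ∀ X : Subgroup K, X.Normal → E ≤ X → X = E ∨ X = ⊤
  conj_out : ∀ s r : K, s ∉ E → r ∉ E → orderOf s = 2 → orderOf r = 2 → ∃ c : K, c * s * c⁻¹ * r ∈ E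

variable {K : Type u} [Group K] [Finite K] {t : K} (h : CentHyp K t)
include h

theorem CentHyp.exists_core : ∃ E : Subgroup K, IsCentCore t E := by
  classical
  haveI := Fintype.ofFinite K
  obtain ⟨E, hE, hEp, h16, ht⟩ := h.exists_sixteen
  haveI := hE
  have helem := h.elementary hE hEp h16 ht
  have hcomm : ∀ a ∈ E, ∀ b ∈ E, a * b = b * a := fun a ha b hb => by
    have e1 := helem _ (mul_mem ha hb)
    calc a * b = a * (a * b * (a * b)) * b := by rw [e1, mul_one]
      _ = (a * a) * (b * a) * (b * b) := by group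
      _ = b * a := by rw [helem a ha, helem b hb, one_mul, mul_one]
  have hEC : E ≤ centralizer (E : Set K) := fun a ha => mem_centralizer_iff.2 fun b hb => hcomm b hb a ha
  have hcent : centralizer (E : Set K) = E := by
    haveI : (centralizer (E : Set K)).Normal := Subgroup.normal_centralizer
    rcases h.normal_cases _ (hEC ht) with ⟨-, h2 | h2⟩ | htop
    · have := Subgroup.card_le_of_le hEC; omega
    · exact (Subgroup.eq_of_le_of_card_ge hEC (by omega)).symm
    · exfalso
      obtain ⟨x, hx⟩ := h.exists_seven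
      have hle : E ≤ centralizer ({x} : Set K) := fun a ha => mem_centralizer_singleton_iff.2
        (mem_centralizer_iff.1 (htop ▸ mem_top x : x ∈ centralizer (E : Set K)) a ha)
      have := Subgroup.card_dvd_of_le hle
      rw [h16, h.cent_seven x hx] at this
      norm_num at this
  have hQ : Nat.card (K ⧸ E) = 168 := by
    have := E.card_mul_index
    rw [h16, h.card_eq, Subgroup.index_eq_card] at this
    omega
  haveI : Nontrivial (K ⧸ E) := Finite.one_lt_card_iff_nontrivial.1 (by rw [hQ]; norm_num)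
  haveI : IsSimpleGroup (K ⧸ E) := ⟨fun N hN => by
    haveI := hN
    have hle : E ≤ N.comap (QuotientGroup.mk' E) := fun g hg => by
      show QuotientGroup.mk' E g ∈ N
      rw [show QuotientGroup.mk' E g = 1 from (QuotientGroup.eq_one_iff g).2 hg]
      exact one_mem N
    rcases h.normal_cases (N.comap (QuotientGroup.mk' E)) (hle ht) with ⟨-, h2 | h2⟩ | htop
    · have := Subgroup.card_le_of_le hle; omega
    · left
      refine (eq_bot_iff).2 fun q hq => ?_
      obtain ⟨g, rfl⟩ := QuotientGroup.mk'_surjective E q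
      exact mem_bot.2 ((QuotientGroup.eq_one_iff g).2
        ((Subgroup.eq_of_le_of_card_ge hle (by omega)).ge hq))
    · right
      refine eq_top_iff.2 fun q _ => ?_
      obtain ⟨g, rfl⟩ := QuotientGroup.mk'_surjective E q
      exact (htop ▸ mem_top g : g ∈ N.comap (QuotientGroup.mk' E))⟩
  obtain ⟨-, h21, hconj⟩ := Cfsg.Agent.S1005.result hQ
  obtain ⟨h56, hconj3, -⟩ := Cfsg.Agent.S1006.result hQ
  -- the involutions in a coset
  set f : K ⧸ E → ℕ := fun q => Nat.card {s : K // orderOf s = 2 ∧ (s : K ⧸ E) = q} with hf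
  have hfib : ∀ s : K, s ∉ E → orderOf s = 2 → f s = Nat.card ↥(E ⊓ centralizer ({s} : Set K)) := by
    intro s hs hso
    have s2 : s * s = 1 := by rw [← pow_two, ← hso, pow_orderOf_eq_one]
    refine Nat.card_congr
      { toFun := fun r => ⟨s * r.1, ?_, ?_⟩
        invFun := fun e => ⟨s * e.1, ?_, ?_⟩
        left_inv := fun r => Subtype.ext (show s * (s * r.1) = r.1 by rw [← mul_assoc, s2, one_mul])
        right_inv := fun e => Subtype.ext (show s * (s * e.1) = e.1 by rw [← mul_assoc, s2, one_mul]) }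
    · have hr : s⁻¹ * r.1 ∈ E := QuotientGroup.eq.1 r.2.2.symm
      rwa [inv_eq_of_mul_eq_one_right s2] at hr
    · have r2 : r.1 * r.1 = 1 := by
        have := pow_orderOf_eq_one r.1
        rwa [r.2.1, pow_two] at this
      have hr : s * r.1 ∈ E := by
        have hr : s⁻¹ * r.1 ∈ E := QuotientGroup.eq.1 r.2.2.symm
        rwa [inv_eq_of_mul_eq_one_right s2] at hr
      have e1 := helem _ hr
      refine mem_centralizer_singleton_iff.2 ?_
      calc s * r.1 * s = s * r.1 * s * (r.1 * r.1) := by rw [r2, mul_one]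
        _ = (s * r.1) * (s * r.1) * r.1 := by group
        _ = r.1 := by rw [e1, one_mul]
        _ = s * (s * r.1) := by rw [← mul_assoc, s2, one_mul]
    · refine orderOf_eq_prime ?_ fun e' => hs ?_
      · rw [pow_two]
        calc s * e.1 * (s * e.1) = s * (e.1 * s) * e.1 := by group
          _ = (s * s) * (e.1 * e.1) := by rw [mem_centralizer_singleton_iff.1 e.2.2]; group
          _ = 1 := by rw [s2, helem _ e.2.1, one_mul]
      · rw [eq_inv_of_mul_eq_one_left e']; exact inv_mem e.2.1
    · exact QuotientGroup.eq.2 (by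
        show (s * e.1)⁻¹ * s ∈ E
        rw [mul_inv_rev, mul_assoc, inv_mul_cancel, mul_one]; exact inv_mem e.2.1)
  have hfeq : ∀ q q' : K ⧸ E, IsConj q q' → f q = f q' := by
    intro q q' hqq
    obtain ⟨c', hc⟩ := isConj_iff.1 hqq
    obtain ⟨c, rfl⟩ := QuotientGroup.mk'_surjective E c'
    refine Nat.card_congr
      { toFun := fun r => ⟨c * r.1 * c⁻¹, ?_, ?_⟩
        invFun := fun r => ⟨c⁻¹ * r.1 * c, ?_, ?_⟩
        left_inv := fun r => Subtype.ext (by group)
        right_inv := fun r => Subtype.ext (by group) }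
    · rw [show c * r.1 * c⁻¹ = MulAut.conj c r.1 from rfl, MulEquiv.orderOf_eq, r.2.1]
    · show ((c * r.1 * c⁻¹ : K) : K ⧸ E) = q'
      rw [QuotientGroup.mk_mul, QuotientGroup.mk_mul, QuotientGroup.mk_inv, r.2.2]
      exact hc
    · rw [show c⁻¹ * r.1 * c = MulAut.conj c⁻¹ r.1 by simp, MulEquiv.orderOf_eq, r.2.1]
    · have e1 : (r.1 : K ⧸ E) = QuotientGroup.mk' E c * q * (QuotientGroup.mk' E c)⁻¹ := r.2.2.trans hc.symm
      show ((c⁻¹ * r.1 * c : K) : K ⧸ E) = q
      rw [QuotientGroup.mk_mul, QuotientGroup.mk_mul, QuotientGroup.mk_inv, e1]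
      simp only [QuotientGroup.mk'_apply]
      group
  haveI : Fintype (K ⧸ E) := Fintype.ofFinite _
  have hsum : ∑ q : K ⧸ E, f q = 99 := by
    rw [← h.invols, Nat.card_eq_fintype_card, Fintype.card_subtype,
      Finset.card_eq_sum_card_fiberwise (f := fun s : K => (s : K ⧸ E)) (t := Finset.univ)
        (fun s _ => Finset.mem_univ _)]
    refine Finset.sum_congr rfl fun q _ => ?_
    rw [hf]
    dsimp only
    rw [Nat.card_eq_fintype_card, Fintype.card_subtype, Finset.filter_filter]
  obtain ⟨q0, hq0⟩ : ∃ q : K ⧸ E, orderOf q = 2 :=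
    haveI := Fact.mk Nat.prime_two
    exists_prime_orderOf_dvd_card' 2 (by rw [hQ]; norm_num)
  have hone : f 1 = 15 := by
    have e : f 1 + 1 = 16 := by
      rw [← h16, hf]
      dsimp only
      rw [Nat.card_eq_fintype_card, Nat.card_eq_fintype_card, Fintype.card_subtype, Fintype.card_subtype]
      rw [show (Finset.univ.filter fun g : K => g ∈ E) =
        insert 1 (Finset.univ.filter fun s : K => orderOf s = 2 ∧ (s : K ⧸ E) = 1) from ?_,
        Finset.card_insert_of_notMem (by simp)]
      ext g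
      simp only [Finset.mem_insert, Finset.mem_filter, Finset.mem_univ, true_and, QuotientGroup.eq_one_iff]
      constructor
      · intro hg
        by_cases h1 : g = 1
        · exact Or.inl h1
        · exact Or.inr ⟨orderOf_eq_prime (by rw [pow_two, helem g hg]) h1, hg⟩
      · rintro (rfl | hg)
        exacts [one_mem E, hg.2]
    omega
  have hfour : f q0 = 4 := by
    have hzero : ∀ q : K ⧸ E, orderOf q ≠ 2 → q ≠ 1 → f q = 0 := by
      intro q hq hq1
      by_contra hne
      obtain ⟨r⟩ : Nonempty {s : K // orderOf s = 2 ∧ (s : K ⧸ E) = q} := by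
        by_contra hem
        rw [not_nonempty_iff] at hem
        exact hne Nat.card_of_isEmpty
      have hd : orderOf q ∣ 2 := by
        have h1 := orderOf_map_dvd (QuotientGroup.mk' E) r.1
        rw [QuotientGroup.mk'_apply, r.2.2, r.2.1] at h1
        exact h1
      rcases (Nat.dvd_prime Nat.prime_two).1 hd with e | e
      exacts [hq1 (orderOf_eq_one_iff.1 e), hq e]
    have h1 : ∑ q : K ⧸ E, f q = f 1 + ∑ q ∈ Finset.univ.filter (fun q : K ⧸ E => orderOf q = 2), f q := by
      rw [← Finset.sum_subset (Finset.subset_univ (insert 1 (Finset.univ.filter fun q : K ⧸ E => orderOf q = 2)))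
        (fun q _ hq => by
          simp only [Finset.mem_insert, Finset.mem_filter, Finset.mem_univ, true_and, not_or] at hq
          exact hzero q hq.2 hq.1), Finset.sum_insert (by simp)]
    rw [Finset.sum_congr rfl fun q hq => hfeq q q0 (hconj q q0 (Finset.mem_filter.1 hq).2 hq0),
      Finset.sum_const, smul_eq_mul, hsum, hone, ← Fintype.card_subtype, ← Nat.card_eq_fintype_card, h21] at h1
    omega
  have hout : ∀ s : K, s ∉ E → orderOf s = 2 → Nat.card ↥(E ⊓ centralizer ({s} : Set K)) = 4 := by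
    intro s hs hso
    have hq : orderOf (s : K ⧸ E) = 2 := orderOf_eq_prime (by
      rw [← QuotientGroup.mk_pow, ← hso, pow_orderOf_eq_one, QuotientGroup.mk_one])
      fun e => hs ((QuotientGroup.eq_one_iff s).1 e)
    rw [← hfib s hs hso, hfeq _ q0 (hconj _ q0 hq hq0), hfour]
  have hex : ∃ s : K, s ∉ E ∧ orderOf s = 2 := by
    obtain ⟨⟨r, hr, hrq⟩⟩ : Nonempty {s : K // orderOf s = 2 ∧ (s : K ⧸ E) = q0} := by
      by_contra hem
      rw [not_nonempty_iff] at hem
      have : f q0 = 0 := Nat.card_of_isEmpty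
      omega
    refine ⟨r, fun hrE => ?_, hr⟩
    rw [(QuotientGroup.eq_one_iff r).2 hrE] at hrq
    rw [← hrq, orderOf_one] at hq0
    omega
  have hthree : ∀ u : K, orderOf u = 3 → Nat.card ↥(E ⊓ centralizer ({u} : Set K)) = 4 := by
    intro u hu
    haveI : Fact (Nat.Prime 3) := ⟨Nat.prime_three⟩
    have h1 := card_modEq_fixed E hu (normalizer_eq_top (H := E) ▸ mem_top u)
    have hd := h16 ▸ Subgroup.card_dvd_of_le (inf_le_left : E ⊓ centralizer ({u} : Set K) ≤ E)
    have hlt : Nat.card ↥(E ⊓ centralizer ({u} : Set K)) ≠ 16 := fun e => by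
      have hle : E ≤ centralizer ({u} : Set K) :=
        (Subgroup.eq_of_le_of_card_ge inf_le_left (by omega) : E ⊓ centralizer ({u} : Set K) = E) ▸ inf_le_right
      have : u ∈ E := hcent.le (mem_centralizer_iff.2 fun a ha => mem_centralizer_singleton_iff.1 (hle ha))
      have h3 := h16 ▸ Subgroup.orderOf_dvd_natCard E this
      rw [hu] at h3
      norm_num at h3
    have ht' : 2 ∣ Nat.card ↥(E ⊓ centralizer ({u} : Set K)) := h.ord ▸
      Subgroup.orderOf_dvd_natCard _ ⟨ht, mem_centralizer_singleton_iff.2 (h.comm u).eq.symm⟩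
    rw [h16] at h1
    obtain ⟨k, hk, hkc⟩ := (Nat.dvd_prime_pow Nat.prime_two (m := 4)).1 hd
    rw [hkc] at h1 hlt ht' ⊢
    interval_cases k <;> simp [Nat.ModEq] at h1 hlt ht' ⊢
  have habove : ∀ X : Subgroup K, X.Normal → E ≤ X → X = E ∨ X = ⊤ := by
    intro X hX hEX
    haveI := hX
    rcases h.normal_cases X (hEX ht) with ⟨-, h2 | h16'⟩ | htop
    · have := Subgroup.card_le_of_le hEX
      omega
    · exact Or.inl (Subgroup.eq_of_le_of_card_ge hEX (by omega)).symm
    · exact Or.inr htop
  have hclass : ∀ s r : K, s ∉ E → r ∉ E → orderOf s = 2 → orderOf r = 2 → ∃ c : K, c * s * c⁻¹ * r ∈ E := by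
    intro s r hs hr hso hro
    have hord : ∀ y : K, y ∉ E → orderOf y = 2 → orderOf (y : K ⧸ E) = 2 := fun y hy hyo => orderOf_eq_prime
      (by rw [← QuotientGroup.mk_pow, ← hyo, pow_orderOf_eq_one, QuotientGroup.mk_one])
      fun e => hy ((QuotientGroup.eq_one_iff y).1 e)
    obtain ⟨c', hc⟩ := isConj_iff.1 (hconj _ _ (hord s hs hso) (hord r hr hro))
    obtain ⟨c, rfl⟩ := QuotientGroup.mk'_surjective E c'
    refine ⟨c, (QuotientGroup.eq_one_iff _).1 ?_⟩
    rw [QuotientGroup.mk_mul, QuotientGroup.mk_mul, QuotientGroup.mk_mul, QuotientGroup.mk_inv]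
    rw [QuotientGroup.mk'_apply] at hc
    rw [hc, ← QuotientGroup.mk_mul, ← pow_two, ← hro, pow_orderOf_eq_one, QuotientGroup.mk_one]
  refine ⟨E, ⟨hE, h16, ht, helem, hcent, hout, hthree, fun u hu => ?_, hex, fun X hX htX hXE => ?_,
    habove, hclass⟩⟩
  · have huE : u ∉ E := fun hh => by
      have h3 := h16 ▸ Subgroup.orderOf_dvd_natCard E hh
      rw [hu] at h3
      norm_num at h3
    have hqu : orderOf (u : K ⧸ E) = 3 := orderOf_eq_prime (by
      rw [← QuotientGroup.mk_pow, ← hu, pow_orderOf_eq_one, QuotientGroup.mk_one])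
      fun e => huE ((QuotientGroup.eq_one_iff u).1 e)
    have hc3 : Nat.card (centralizer ({(u : K ⧸ E)} : Set (K ⧸ E))) = 3 := by
      have h1 := CfsgLib.Invol.card_isConj_mul (u : K ⧸ E)
      rw [Nat.card_congr (Equiv.subtypeEquivRight fun y => ⟨fun hy => by
        obtain ⟨c, hc⟩ := isConj_iff.1 hy
        rw [← hc, ← hqu]
        exact MulEquiv.orderOf_eq (MulAut.conj c) _,
        fun hy => hconj3 _ y hqu hy⟩), h56, hQ] at h1
      omega
    set C := centralizer ({u} : Set K) with hC
    let π : C →* centralizer ({(u : K ⧸ E)} : Set (K ⧸ E)) := ((QuotientGroup.mk' E).comp C.subtype).codRestrict _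
      fun g => mem_centralizer_singleton_iff.2 (by
        simp only [MonoidHom.comp_apply, Subgroup.coe_subtype, QuotientGroup.mk'_apply, ← QuotientGroup.mk_mul,
          mem_centralizer_singleton_iff.1 g.2])
    have hker : Nat.card π.ker = 4 := by
      rw [← hthree u hu]
      exact Nat.card_congr
        { toFun := fun g => ⟨(g.1 : K), (QuotientGroup.eq_one_iff _).1 (congrArg Subtype.val g.2), g.1.2⟩
          invFun := fun g => ⟨⟨g.1, g.2.2⟩, Subtype.ext ((QuotientGroup.eq_one_iff _).2 g.2.1)⟩
          left_inv := fun g => rfl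
          right_inv := fun g => rfl }
    have hle : π.ker.index ≤ 3 := by
      rw [Subgroup.index_ker, ← hc3]
      exact Subgroup.card_le_card_group _
    have hmul := π.ker.card_mul_index
    rw [hker] at hmul
    have h3 : 3 ∣ Nat.card C := hu ▸ Subgroup.orderOf_dvd_natCard C (mem_centralizer_singleton_iff.2 rfl)
    have hpos : 0 < Nat.card C := Nat.card_pos
    omega
  · haveI := hX
    rcases h.normal_cases X htX with ⟨-, h2 | h16'⟩ | htop
    · exact Or.inl (Subgroup.eq_of_le_of_card_ge (zpowers_le.2 htX)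
        (by rw [h2, Nat.card_zpowers, h.ord])).symm
    · exact Or.inr (Subgroup.eq_of_le_of_card_ge hXE (by rw [h16, h16']))
    · have := Subgroup.card_le_of_le hXE
      rw [htop, Subgroup.card_top, h.card_eq, h16] at this
      omega

end CfsgLib.Char.MTwentyThreeOrder
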