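import Cfsg.Agent.Lib.Char.MTwentyThreeOrder.Local.Wrap

/-!
# An element of order three and the four group it centralizes
-/

set_option autoImplicit false
set_option linter.all false

open Subgroup MulAction
open CfsgLib.Char.MTwentyTwoOrder (card_modEq_fixed conj_mem_of_mem_normalizer mem_normalizer_of_map_mem
  card_sylow_eq card_dvd_of_free)

namespace CfsgLib.Char.MTwentyThreeOrder

universe u

variable {G : Type u} [Group G] [Finite G]

theorem commute_of_odd {g y : G} {n : ℕ} (hn : Odd n) (h1 : Commute (g ^ n) y) (h2 : Commute (g * g) y) :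
    Commute g y := by
  obtain ⟨k, rfl⟩ := hn
  have h3 : Commute ((g * g) ^ k) y := h2.pow_left k
  have e : g = ((g * g) ^ k)⁻¹ * g ^ (2 * k + 1) := by
    rw [pow_succ, pow_mul, pow_two]
    group
  rw [e]
  exact h3.inv_left.mul_left h1

variable (hF : Facts G)
include hF

theorem Facts.nine_dvd {u : G} (hu : orderOf u = 3) : 9 ∣ Nat.card (centralizer ({u} : Set G)) := by
  haveI := Fact.mk Nat.prime_three
  obtain ⟨P, hP⟩ := (IsPGroup.of_card (p := 3) (n := 1) (G := ↥(zpowers u))
    (by rw [Nat.card_zpowers, hu, pow_one])).exists_le_sylow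
  have hc : Nat.card (P : Subgroup G) = 3 ^ 2 :=
    card_sylow_eq (a := 2) (m := 1133440) P (by rw [hF.card_eq]; norm_num) (by norm_num)
  have hle : (P : Subgroup G) ≤ centralizer ({u} : Set G) := fun a ha => mem_centralizer_singleton_iff.2
    (congrArg Subtype.val (IsPGroup.commutative_of_card_eq_prime_sq hc ⟨a, ha⟩ ⟨u, hP (mem_zpowers u)⟩))
  have := Subgroup.card_dvd_of_le hle
  rwa [hc] at this

variable {t u : G} {E : Subgroup G}

/-- The four group of an element of order three commuting with an involution. -/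
theorem four_of (ht : orderOf t = 2) (hE : IsE t E) (hut : u ∈ centralizer ({t} : Set G)) (hu : orderOf u = 3)
    {X : Subgroup G} (hX : IsPGroup 2 X) (hXt : X ≤ centralizer ({t} : Set G))
    (hXu : X ≤ centralizer ({u} : Set G)) : X ≤ E ⊓ centralizer ({u} : Set G) := by
  set V := E ⊓ centralizer ({u} : Set G) with hV
  set W := centralizer ({t} : Set G) ⊓ centralizer ({u} : Set G) with hW
  have hVc : Nat.card V = 4 := hE.three u hut hu
  have hXn : X ≤ normalizer (V : Set G) := fun g hg => mem_normalizer_of_map_mem fun y hy =>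
    ⟨conj_mem_of_mem_normalizer (hE.norm (hXt hg)) hy.1,
      Subgroup.mul_mem _ (Subgroup.mul_mem _ (hXu hg) hy.2) (Subgroup.inv_mem _ (hXu hg))⟩
  have hp : IsPGroup 2 ↥(X ⊔ V) :=
    IsPGroup.to_sup_of_normal_right' hX (IsPGroup.of_card (n := 2) (by rw [hVc]; norm_num)) hXn
  haveI := Fact.mk Nat.prime_two
  obtain ⟨n, hn⟩ := IsPGroup.iff_card.1 hp
  have hd := Subgroup.card_dvd_of_le (sup_le (le_inf hXt hXu) (inf_le_inf_right _ hE.le) : X ⊔ V ≤ W)
  rw [hE.cent_three u hut hu, hn] at hd
  have hn2 : n ≤ 2 := by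
    by_contra hc
    have := (Nat.pow_dvd_pow 2 (show 3 ≤ n by omega)).trans hd
    norm_num at this
  have h4 : Nat.card ↥(X ⊔ V) ≤ 4 := by
    rw [hn]
    exact (Nat.pow_le_pow_right (by norm_num) hn2).trans (by norm_num)
  exact le_sup_left.trans (Subgroup.eq_of_le_of_card_ge le_sup_right (by rw [hVc]; exact h4)).ge

/-- The four group is a Sylow subgroup of the centralizer of the element of order three. -/
theorem four_sylow (ht : orderOf t = 2) (hE : IsE t E) (hut : u ∈ centralizer ({t} : Set G)) (hu : orderOf u = 3)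
    {X : Subgroup G} (hX : IsPGroup 2 X) (hVX : E ⊓ centralizer ({u} : Set G) ≤ X)
    (hXu : X ≤ centralizer ({u} : Set G)) : X = E ⊓ centralizer ({u} : Set G) := by
  haveI := Fact.mk Nat.prime_two
  set V := E ⊓ centralizer ({u} : Set G) with hV
  have hVc : Nat.card V = 4 := hE.three u hut hu
  haveI : Nontrivial X := Finite.one_lt_card_iff_nontrivial.1 (by
    have := Subgroup.card_le_of_le hVX
    omega)
  haveI := hX.center_nontrivial
  obtain ⟨z, hz⟩ := exists_prime_orderOf_dvd_card' (G := center X) 2 (by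
    obtain ⟨n, hn⟩ := IsPGroup.iff_card.1 (hX.to_subgroup (center X))
    have h1 := Finite.one_lt_card_iff_nontrivial.2 (inferInstance : Nontrivial (center X))
    rw [hn] at h1 ⊢
    exact dvd_pow_self 2 (fun e => by rw [e] at h1; norm_num at h1))
  set s : G := ((z : X) : G) with hs
  have hso : orderOf s = 2 := by rw [hs, Subgroup.orderOf_coe, Subgroup.orderOf_coe, hz]
  have hXs : X ≤ centralizer ({s} : Set G) := fun g hg => mem_centralizer_singleton_iff.2
    (congrArg Subtype.val (mem_center_iff.1 z.2 ⟨g, hg⟩))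
  obtain ⟨Es, hEs⟩ := exists_isE hF hso
  have hus : u ∈ centralizer ({s} : Set G) :=
    mem_centralizer_singleton_iff.2 (mem_centralizer_singleton_iff.1 (hXu (z : X).2)).symm
  have h := four_of hF hso hEs hus hu hX hXs hXu
  have hc := Subgroup.card_le_of_le h
  rw [hEs.three u hus hu] at hc
  exact (Subgroup.eq_of_le_of_card_ge hVX (by rw [hVc]; exact hc)).symm

/-- The centralizer of the element of order three moves the involution inside the four group. -/
theorem exists_rotate (ht : orderOf t = 2) (hE : IsE t E) (hut : u ∈ centralizer ({t} : Set G))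
    (hu : orderOf u = 3) :
    ∃ w v : G, w ∈ centralizer ({u} : Set G) ∧ v ∈ E ⊓ centralizer ({u} : Set G) ∧ v ≠ 1 ∧ v ≠ t ∧
      w * t * w⁻¹ = v ∧ w * v * w⁻¹ = t * v ∧ w * (t * v) * w⁻¹ = t ∧
      (∀ x ∈ E ⊓ centralizer ({u} : Set G), x = 1 ∨ x = t ∨ x = v ∨ x = t * v) := by
  classical
  haveI := Fact.mk Nat.prime_two
  haveI := Fact.mk Nat.prime_three
  set M := centralizer ({u} : Set G) with hM
  set V := E ⊓ M with hV
  have hVc : Nat.card V = 4 := hE.three u hut hu
  have hVM : V ≤ M := inf_le_right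
  have htM : t ∈ M := mem_centralizer_singleton_iff.2 (mem_centralizer_singleton_iff.1 hut).symm
  have htV : t ∈ V := ⟨hE.mem, htM⟩
  have t2 : t * t = 1 := hE.elem t hE.mem
  have ht1 : t ≠ 1 := fun e => by rw [e, orderOf_one] at ht; omega
  have hVsq : ∀ x ∈ V, x * x = 1 := fun x hx => hE.elem x hx.1
  have hVcomm : ∀ x ∈ V, ∀ y ∈ V, x * y = y * x := fun x hx y hy =>
    mem_centralizer_iff.1 (hE.cent.ge hy.1) x hx.1
  -- a Sylow two subgroup of the centralizer
  obtain ⟨S, hS⟩ := (IsPGroup.of_card (p := 2) (n := 2) (G := ↥(V.subgroupOf M))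
    (by rw [Nat.card_congr (subgroupOfEquivOfLe hVM).toEquiv, hVc]; norm_num)).exists_le_sylow
  have hSV : (S : Subgroup M) = V.subgroupOf M := by
    have hX : IsPGroup 2 ↥((S : Subgroup M).map M.subtype) := S.2.map _
    have hle : V ≤ (S : Subgroup M).map M.subtype := fun x hx => ⟨⟨x, hVM hx⟩, hS hx, rfl⟩
    have := four_sylow hF ht hE hut hu hX hle (map_subtype_le _)
    refine le_antisymm (fun x hx => ?_) hS
    exact this.le ⟨x, hx, rfl⟩
  have hSc : Nat.card (S : Subgroup M) = 4 := by
    rw [hSV, Nat.card_congr (subgroupOfEquivOfLe hVM).toEquiv, hVc]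
  -- an element of the normalizer not centralizing
  obtain ⟨g, hgN, hgC⟩ : ∃ g : M, g ∈ normalizer ((S : Subgroup M) : Set M) ∧
      g ∉ centralizer ((S : Subgroup M) : Set M) := by
    by_contra hno
    push Not at hno
    have hc := MonoidHom.ker_transferSylow_isComplement' S hno
    set N := (MonoidHom.transferSylow S hno).ker
    have hNc := hc.card_mul
    rw [hSc] at hNc
    have h4 : ¬ 2 ∣ Nat.card N := by
      intro hdvd
      obtain ⟨x, hx⟩ := exists_prime_orderOf_dvd_card' 2 hdvd
      have hxo : orderOf ((x : M)) = 2 := by rw [Subgroup.orderOf_coe, hx]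
      obtain ⟨T, hT⟩ := (IsPGroup.of_card (p := 2) (n := 1) (G := ↥(zpowers (x : M)))
        (by rw [Nat.card_zpowers, hxo, pow_one])).exists_le_sylow
      obtain ⟨m, hm⟩ := MulAction.exists_smul_eq M T S
      have hxS : m * (x : M) * m⁻¹ ∈ (S : Subgroup M) := by
        rw [← hm, Sylow.coe_subgroup_smul]
        exact ⟨x, hT (mem_zpowers _), rfl⟩
      have hxN : m * (x : M) * m⁻¹ ∈ N := (MonoidHom.normal_ker _).conj_mem _ x.2 m
      have h1 : m * (x : M) * m⁻¹ = 1 := disjoint_def.1 hc.disjoint hxN hxS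
      have h2 : (x : M) = 1 := by
        calc (x : M) = m⁻¹ * (m * (x : M) * m⁻¹) * m := by group
          _ = 1 := by rw [h1]; group
      rw [h2, orderOf_one] at hxo
      omega
    have h9 : 9 ∣ Nat.card N := by
      have h1 : 9 ∣ Nat.card N * 4 := hNc ▸ hF.nine_dvd hu
      exact (show Nat.Coprime 9 4 by norm_num).dvd_of_dvd_mul_right h1
    obtain ⟨P⟩ : Nonempty (Sylow 3 N) := inferInstance
    have hPc : Nat.card (P : Subgroup N) = 9 := by
      obtain ⟨m, hm⟩ := h9
      refine card_sylow_eq (a := 2) (m := m) P (by rw [hm]; norm_num) fun h3 => ?_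
      have ha : 9 * 3 ∣ Nat.card N := hm ▸ mul_dvd_mul_left 9 h3
      have hb : 9 * 3 ∣ 10200960 :=
        hF.card_eq ▸ ((ha.trans N.card_subgroup_dvd_card).trans M.card_subgroup_dvd_card)
      norm_num at hb
    set Q := (P : Subgroup N).map N.subtype with hQ
    have hQc : Nat.card Q = 9 := by rw [hQ, Subgroup.card_map_of_injective N.subtype_injective, hPc]
    have huQ : (⟨u, mem_centralizer_singleton_iff.2 rfl⟩ : M) ∈ Q := by
      set uM : M := ⟨u, mem_centralizer_singleton_iff.2 rfl⟩
      have hz : zpowers uM ≤ normalizer (Q : Set M) := zpowers_le.2 ((centralizer_le_normalizer _)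
        (mem_centralizer_iff.2 fun q _ => Subtype.ext (mem_centralizer_singleton_iff.1 q.2)))
      have hp : IsPGroup 3 ↥(zpowers uM ⊔ Q) := IsPGroup.to_sup_of_normal_right'
        (IsPGroup.of_card (n := 1) (by rw [Nat.card_zpowers, Subgroup.orderOf_mk, hu, pow_one]))
        (IsPGroup.of_card (n := 2) (by rw [hQc]; norm_num)) hz
      obtain ⟨n, hn⟩ := IsPGroup.iff_card.1 hp
      have hd : Nat.card ↥(zpowers uM ⊔ Q) ∣ 10200960 :=
        hF.card_eq ▸ (Subgroup.card_subgroup_dvd_card _).trans M.card_subgroup_dvd_card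
      rw [hn] at hd
      have hn2 : n ≤ 2 := by
        by_contra hc
        have := (Nat.pow_dvd_pow 3 (show 3 ≤ n by omega)).trans hd
        norm_num at this
      have : Nat.card ↥(zpowers uM ⊔ Q) ≤ Nat.card Q := by
        rw [hn, hQc]
        exact (Nat.pow_le_pow_right (by norm_num) hn2).trans (by norm_num)
      exact (Subgroup.eq_of_le_of_card_ge le_sup_right this).ge (mem_sup_left (mem_zpowers uM))
    -- the Frattini argument gives a group of order four normalizing it
    set R := normalizer (Q : Set M) with hR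
    have hR4 : 4 ∣ Nat.card R := by
      have h1 : R ⊔ N = ⊤ := Sylow.normalizer_sup_eq_top P
      have h2 : N.relIndex R = N.index := by
        rw [← Subgroup.relIndex_sup_right R N, h1, Subgroup.relIndex_top_right]
      have h3 : N.index = 4 := by
        have h := N.card_mul_index
        rw [← hNc] at h
        exact Nat.eq_of_mul_eq_mul_left Nat.card_pos h
      exact h3 ▸ h2 ▸ Subgroup.relIndex_dvd_card N R
    obtain ⟨A, hA⟩ := Sylow.exists_subgroup_card_pow_prime 2 (G := R) (n := 2) (by simpa using hR4)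
    set A' := A.map R.subtype with hA'
    have hA'c : Nat.card A' = 4 := by rw [hA', Subgroup.card_map_of_injective R.subtype_injective, hA]; norm_num
    obtain ⟨T, hT⟩ := (IsPGroup.of_card (p := 2) (n := 2) (G := ↥A') (by rw [hA'c]; norm_num)).exists_le_sylow
    obtain ⟨m, hm⟩ := MulAction.exists_smul_eq M T S
    have hA'S : ∀ a ∈ A', ((m * a * m⁻¹ : M) : G) ∈ V := fun a ha => by
      have h1 : m * a * m⁻¹ ∈ (S : Subgroup M) := by
        rw [← hm, Sylow.coe_subgroup_smul]
        exact ⟨a, hT ha, rfl⟩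
      rw [hSV] at h1
      exact h1
    have hfix : ∀ a ∈ A', a ≠ 1 → ∀ q ∈ Q, a * q * a⁻¹ = q → q ∈ zpowers (⟨u, mem_centralizer_singleton_iff.2 rfl⟩ : M) := by
      intro a ha ha1 q hq he
      set uM : M := ⟨u, mem_centralizer_singleton_iff.2 rfl⟩
      have hao : orderOf (a : G) = 2 := by
        refine orderOf_eq_prime ?_ (fun e => ha1 (Subtype.ext e))
        have := hVsq _ (hA'S a ha)
        simp only [Subgroup.coe_mul, Subgroup.coe_inv] at this
        rw [pow_two]
        calc (a : G) * a = (m : G)⁻¹ * ((m : G) * a * (m : G)⁻¹ * ((m : G) * a * (m : G)⁻¹)) * m := by group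
          _ = 1 := by rw [this]; group
      obtain ⟨Ea, hEa⟩ := exists_isE hF hao
      have hua : u ∈ centralizer ({(a : G)} : Set G) :=
        mem_centralizer_singleton_iff.2 (mem_centralizer_singleton_iff.1 a.2).symm
      set Qa := (Q ⊓ centralizer ({a} : Set M)).map M.subtype with hQa
      have h1 : Nat.card ↥(Q ⊓ centralizer ({a} : Set M)) ∣ 12 := by
        rw [← hEa.cent_three u hua hu,
          show Nat.card ↥(Q ⊓ centralizer ({a} : Set M)) = Nat.card Qa from
            (Subgroup.card_map_of_injective M.subtype_injective).symm]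
        refine Subgroup.card_dvd_of_le ?_
        rintro _ ⟨y, hy, rfl⟩
        exact ⟨mem_centralizer_singleton_iff.2 (congrArg Subtype.val (mem_centralizer_singleton_iff.1 hy.2)), y.2⟩
      have h2 : Nat.card ↥(Q ⊓ centralizer ({a} : Set M)) ∣ 9 := hQc ▸ Subgroup.card_dvd_of_le inf_le_left
      have h3 := Nat.dvd_gcd h1 h2
      rw [show Nat.gcd 12 9 = 3 from rfl] at h3
      have hle : zpowers uM ≤ Q ⊓ centralizer ({a} : Set M) := zpowers_le.2 ⟨huQ,
        mem_centralizer_singleton_iff.2 (Subtype.ext (mem_centralizer_singleton_iff.1 a.2).symm)⟩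
      rw [Subgroup.eq_of_le_of_card_ge hle (by
        rw [Nat.card_zpowers, Subgroup.orderOf_mk, hu]; exact Nat.le_of_dvd (by norm_num) h3)]
      exact ⟨hq, mem_centralizer_singleton_iff.2 (mul_inv_eq_iff_eq_mul.1 he).symm⟩
    set uM : M := ⟨u, mem_centralizer_singleton_iff.2 rfl⟩
    have h6 := card_dvd_of_free A' ((Q : Set M) \ (zpowers uM : Set M))
      (fun a ha d hd => ⟨conj_mem_of_mem_normalizer (map_subtype_le A ha) hd.1, fun h' => hd.2 (by
        obtain ⟨k, hk⟩ := mem_zpowers_iff.1 h'
        have hc : Commute a (uM ^ k) := (show Commute a uM from Subtype.ext (mem_centralizer_singleton_iff.1 a.2)).zpow_right k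
        have : d = uM ^ k := by
          calc d = a⁻¹ * (a * d * a⁻¹) * a := by group
            _ = uM ^ k := by rw [← hk, mul_assoc, ← hc.eq, inv_mul_cancel_left]
        rw [this]; exact zpow_mem (mem_zpowers _) k)⟩)
      (fun a ha ha1 d hd he => hd.2 (hfix a ha ha1 d hd.1 he))
    rw [hA'c, Set.ncard_sdiff (zpowers_le.2 huQ), ← Nat.card_coe_set_eq, ← Nat.card_coe_set_eq,
      SetLike.coe_sort_coe, SetLike.coe_sort_coe, hQc, Nat.card_zpowers, Subgroup.orderOf_mk, hu] at h6
    norm_num at h6
  -- it permutes the three involutions cyclically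
  have hgV : ∀ x ∈ V, (g : G) * x * (g : G)⁻¹ ∈ V := fun x hx => by
    have h1 := conj_mem_of_mem_normalizer hgN (show (⟨x, hVM hx⟩ : M) ∈ (S : Subgroup M) by rw [hSV]; exact hx)
    rw [hSV] at h1
    exact h1
  obtain ⟨n, hn, hgn⟩ : ∃ n, Odd n ∧ ∀ x ∈ V, Commute ((g : G) ^ n) x := by
    set NS := normalizer ((S : Subgroup M) : Set M) with hNS
    haveI : ((S : Subgroup M).subgroupOf NS).Normal := Subgroup.normal_in_normalizer
    refine ⟨((S : Subgroup M).subgroupOf NS).index, ?_, fun x hx => ?_⟩
    · rw [← Nat.not_even_iff_odd, even_iff_two_dvd]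
      intro h2
      refine S.not_dvd_index ?_
      refine h2.trans ?_
      exact ⟨_, (Subgroup.relIndex_mul_index (le_normalizer : (S : Subgroup M) ≤ NS)).symm⟩
    · have h1 : (⟨g, hgN⟩ : NS) ^ ((S : Subgroup M).subgroupOf NS).index ∈ (S : Subgroup M).subgroupOf NS :=
        Subgroup.pow_index_mem _ _
      have h3 := mem_subgroupOf.1 (hSV.le (mem_subgroupOf.1 h1))
      simp only [Subgroup.coe_pow] at h3
      exact hVcomm _ h3 x hx
  have hnotall : ¬ ∀ x ∈ V, Commute (g : G) x := fun hall => hgC (mem_centralizer_iff.2 fun y hy => Subtype.ext (by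
    have hy' : y ∈ V.subgroupOf M := hSV ▸ hy
    exact ((hall _ hy').eq).symm))
  have hfour : ∀ a ∈ V, a ≠ 1 → a ≠ t → ∀ x ∈ V, x = 1 ∨ x = t ∨ x = a ∨ x = t * a := by
    intro a ha ha1 hat x hx
    haveI := Fintype.ofFinite G
    have hcard : (Finset.univ.filter fun y => y ∈ V).card = 4 := by
      rw [← Fintype.card_subtype, ← Nat.card_eq_fintype_card]; exact hVc
    have hsub : ({1, t, a, t * a} : Finset G) ⊆ Finset.univ.filter fun y => y ∈ V := by
      intro y hy
      simp only [Finset.mem_insert, Finset.mem_singleton] at hy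
      refine Finset.mem_filter.2 ⟨Finset.mem_univ _, ?_⟩
      rcases hy with rfl | rfl | rfl | rfl
      exacts [one_mem V, htV, ha, mul_mem htV ha]
    have h1 : ({1, t, a, t * a} : Finset G).card = 4 := by
      have e1 : t * a ≠ 1 := fun e => hat (by
        calc a = t * (t * a) := by rw [← mul_assoc, t2, one_mul]
          _ = t := by rw [e, mul_one])
      rw [Finset.card_insert_of_notMem (by simp [ht1.symm, ha1.symm, e1.symm]),
        Finset.card_insert_of_notMem (by simp [hat.symm, ha1]), Finset.card_pair (by simp [ht1])]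
    have heq := Finset.eq_of_subset_of_card_le hsub (by rw [hcard, h1])
    have := heq.ge (Finset.mem_filter.2 ⟨Finset.mem_univ x, hx⟩)
    simpa using this
  -- the involution is moved
  have hmove : (g : G) * t * (g : G)⁻¹ ≠ t := by
    intro hgt
    refine hnotall fun a ha => ?_
    by_cases ha1 : a = 1
    · rw [ha1]; exact Commute.one_right _
    by_cases hat : a = t
    · rw [hat]; exact mul_inv_eq_iff_eq_mul.1 hgt
    refine commute_of_odd hn (hgn a ha) ?_
    rcases hfour a ha ha1 hat _ (hgV a ha) with e | e | e | e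
    · exact absurd (conj_eq_one_iff.1 e) ha1
    · exact absurd (mul_left_cancel (mul_right_cancel (e.trans hgt.symm))) hat
    · exact (show Commute (g : G) a from mul_inv_eq_iff_eq_mul.1 e).mul_left (mul_inv_eq_iff_eq_mul.1 e)
    · refine mul_inv_eq_iff_eq_mul.1 ?_
      calc (g : G) * g * a * ((g : G) * g)⁻¹ = g * ((g : G) * a * (g : G)⁻¹) * (g : G)⁻¹ := by group
        _ = g * (t * a) * (g : G)⁻¹ := by rw [e]
        _ = ((g : G) * t * (g : G)⁻¹) * ((g : G) * a * (g : G)⁻¹) := by group
        _ = a := by rw [hgt, e, ← mul_assoc, t2, one_mul]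
  set v := (g : G) * t * (g : G)⁻¹ with hv
  have hvV : v ∈ V := hgV t htV
  have hv1 : v ≠ 1 := fun e => ht1 (conj_eq_one_iff.1 e)
  have hall := hfour v hvV hv1 hmove
  have hgv : (g : G) * v * (g : G)⁻¹ = t * v := by
    rcases hall _ (hgV v hvV) with e | e | e | e
    · exact absurd (conj_eq_one_iff.1 e) hv1
    · exfalso
      refine hmove (mul_inv_eq_iff_eq_mul.2 (commute_of_odd hn (hgn t htV) (mul_inv_eq_iff_eq_mul.1 ?_)).eq)
      calc (g : G) * g * t * ((g : G) * g)⁻¹ = g * v * (g : G)⁻¹ := by rw [hv]; group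
        _ = t := e
    · exact absurd (mul_left_cancel (mul_right_cancel (e.trans hv))).symm (Ne.symm hmove)
    · exact e
  refine ⟨g, v, g.2, hvV, hv1, hmove, rfl, hgv, ?_, hall⟩
  calc (g : G) * (t * v) * (g : G)⁻¹ = ((g : G) * t * (g : G)⁻¹) * ((g : G) * v * (g : G)⁻¹) := by group
    _ = v * (t * v) := by rw [← hv, hgv]
    _ = t := by
      rw [hVcomm t htV v hvV, ← mul_assoc, hVsq v hvV, one_mul]

end CfsgLib.Char.MTwentyThreeOrder
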