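import Cfsg.Agent.Lib.Char.MTwentyTwoOrder.Local.Tools

/-!
# Small general lemmas for the local analysis of simple groups of order 10200960
-/

set_option autoImplicit false
set_option linter.all false

open Subgroup MulAction
open CfsgLib.Char.MTwentyTwoOrder (card_modEq_fixed conj_mem_of_mem_normalizer)

namespace CfsgLib.Char.MTwentyThreeOrder

universe u

variable {G : Type u} [Group G] [Finite G]

/-- A group in which more than three quarters of the elements square to one is abelian of exponent two. -/
theorem sq_eq_one_of_many (h : 3 * Nat.card G < 4 * Nat.card {g : G // g * g = 1}) : ∀ g : G, g * g = 1 := by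
  classical
  haveI := Fintype.ofFinite G
  simp only [Nat.card_eq_fintype_card, Fintype.card_subtype] at h
  set I : Finset G := Finset.univ.filter fun g => g * g = 1 with hI
  have hc : ∀ x ∈ I, ∀ z : G, x * z = z * x := by
    intro x hx
    have hxx : x * x = 1 := (Finset.mem_filter.1 hx).2
    have hsub : I ∩ I.image (x * ·) ⊆ Finset.univ.filter fun y => x * y = y * x := by
      intro y hy
      rw [Finset.mem_inter, Finset.mem_image] at hy
      obtain ⟨hy1, z, hz, rfl⟩ := hy
      have h1 : (x * z) * (x * z) = 1 := (Finset.mem_filter.1 hy1).2
      have h2 : z * z = 1 := (Finset.mem_filter.1 hz).2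
      refine Finset.mem_filter.2 ⟨Finset.mem_univ _, ?_⟩
      calc x * (x * z) = z := by rw [← mul_assoc, hxx, one_mul]
        _ = z * ((x * z) * (x * z)) := by rw [h1, mul_one]
        _ = z * x * z * (x * z) := by group
        _ = (z * x * z) * x * z := by group
        _ = (x * z) * x := by
          have e : z * x * z * x = 1 := by
            calc z * x * z * x = x * ((x * z) * (x * z)) * x := by
                  simp only [← mul_assoc, hxx, one_mul]
              _ = 1 := by rw [h1, mul_one, hxx]
          rw [e, one_mul]
          calc z = x * (x * z) := by rw [← mul_assoc, hxx, one_mul]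
            _ = x * (z⁻¹ * x⁻¹) := by rw [← mul_inv_rev, inv_eq_of_mul_eq_one_right h1]
            _ = x * z * x := by
              rw [inv_eq_of_mul_eq_one_right hxx, inv_eq_of_mul_eq_one_right h2, mul_assoc]
    have h3 := Finset.card_inter_add_card_union I (I.image (x * ·))
    rw [Finset.card_image_of_injective _ (mul_right_injective x)] at h3
    have h4 := Finset.card_le_univ (I ∪ I.image (x * ·))
    have h5 := Finset.card_le_card hsub
    have hC : Nat.card ↥(centralizer ({x} : Set G)) = (Finset.univ.filter fun y => x * y = y * x).card := by
      rw [Nat.card_eq_fintype_card, Fintype.card_subtype]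
      congr 1
      ext y
      simp [mem_centralizer_singleton_iff, eq_comm]
    have htop : centralizer ({x} : Set G) = ⊤ := by
      by_contra hne
      have h6 := one_lt_index_of_ne_top hne
      have h7 := (centralizer ({x} : Set G)).card_mul_index
      rw [hC, Nat.card_eq_fintype_card] at h7
      nlinarith
    exact fun z => (mem_centralizer_singleton_iff.1 (htop ▸ mem_top z : z ∈ centralizer ({x} : Set G))).symm
  let K : Subgroup G :=
    { carrier := {g | g * g = 1}
      one_mem' := one_mul 1
      mul_mem' := fun {a b} (ha : a * a = 1) (hb : b * b = 1) => by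
        show a * b * (a * b) = 1
        rw [mul_assoc, ← mul_assoc b, ← hc a (Finset.mem_filter.2 ⟨Finset.mem_univ _, ha⟩) b, mul_assoc a b,
          hb, mul_one, ha]
      inv_mem' := fun {a} (ha : a * a = 1) => by
        show a⁻¹ * a⁻¹ = 1
        rw [← mul_inv_rev, ha, inv_one] }
  have hK : K = ⊤ := by
    by_contra hne
    have h6 := one_lt_index_of_ne_top hne
    have h7 := K.card_mul_index
    have h8 : Nat.card K = I.card := by
      rw [Nat.card_eq_fintype_card, Fintype.card_subtype]
      rfl
    rw [h8, Nat.card_eq_fintype_card] at h7
    nlinarith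
  intro g
  exact (hK ▸ mem_top g : g ∈ K)

/-- The number of fixed points of an element of odd prime order on a two group. -/
theorem exists_two_pow {X : Subgroup G} (hX : IsPGroup 2 X) {B : ℕ} (hB : Nat.card X ∣ 2 ^ B) :
    ∃ a, a ≤ B ∧ Nat.card X = 2 ^ a :=
  (Nat.dvd_prime_pow Nat.prime_two).1 hB

end CfsgLib.Char.MTwentyThreeOrder
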