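import Cfsg.Agent.Lib.Char.MTwentyThreeOrder.Local.Parity

/-!
# A subgroup of index 23
-/

set_option autoImplicit false
set_option linter.all false

open Subgroup MulAction Equiv
open CfsgLib.Char.MTwentyTwoOrder (card_modEq_fixed conj_mem_of_mem_normalizer mem_normalizer_of_map_mem)

namespace CfsgLib.Char.MTwentyThreeOrder

universe u

variable {G : Type u} [Group G] [Finite G]

/-- The subgroup preserving a predicate. -/
def predStab {α : Type u} [MulAction G α] (p : α → Prop) : Subgroup G where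
  carrier := {g | ∀ x, p (g • x) ↔ p x}
  one_mem' := fun x => by rw [one_smul]
  mul_mem' := fun {a b} ha hb x => by rw [mul_smul, ha, hb]
  inv_mem' := fun {a} ha x => by rw [← ha (a⁻¹ • x), smul_inv_smul]

/-- An invariant set on which all the orbits have length four has cardinality divisible by four. -/
theorem four_dvd_ncard {α : Type u} [MulAction G α] [Finite α] (A : Subgroup G) (Y : Set α)
    (hinv : ∀ a ∈ A, ∀ y ∈ Y, a • y ∈ Y) (hfour : ∀ y ∈ Y, (MulAction.orbit A y).ncard = 4) : 4 ∣ Y.ncard := by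
  classical
  letI act : MulAction A Y :=
    { smul := fun a y => ⟨(a : G) • (y : α), hinv a a.2 y y.2⟩
      one_smul := fun y => Subtype.ext (one_smul G (y : α))
      mul_smul := fun a b y => Subtype.ext (mul_smul (a : G) (b : G) (y : α)) }
  letI : Fintype (Quotient (orbitRel ↥A ↑Y)) := Fintype.ofFinite _
  rw [← Nat.card_coe_set_eq, Nat.card_congr (selfEquivSigmaOrbitsQuotientStabilizer A Y), Nat.card_sigma]
  refine Finset.dvd_sum fun q _ => ?_
  rw [← Subgroup.index_eq_card]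
  have hst : stabilizer A (q.out : Y) = stabilizer A ((q.out : Y) : α) := by
    ext a
    rw [mem_stabilizer_iff, mem_stabilizer_iff, Subtype.ext_iff]
    rfl
  rw [hst, MulAction.index_stabilizer, hfour _ (q.out : Y).2]

variable {E : Subgroup G} {x₀ : Blk E}

variable (hF : Facts G)
include hF

variable {t : G} (ht : orderOf t = 2) (hE : IsE t E) (hx₀ : Far E x₀)
include ht hE hx₀

/-- The two conjugates can be swapped. -/
theorem exists_swap : ∃ g : G, g • blk0 E = x₀ ∧ g • x₀ = blk0 E := by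
  obtain ⟨k, hk⟩ := MulAction.exists_smul_eq G (blk0 E) x₀
  have hfar : Far E (k⁻¹ • blk0 E) := by
    refine ⟨fun e => hx₀.1 ?_, fun hn => ?_⟩
    · rw [inv_smul_eq_iff] at e
      exact hk.symm.trans e.symm
    · obtain ⟨-, s, hs1, hs, hsH⟩ := hn
      have h1 : k * s * k⁻¹ ∈ E := by
        have := (inCore_smul (g := k)).2 hs
        rwa [smul_inv_smul, inCore_blk0] at this
      have h2 : (k * s * k⁻¹) • x₀ = x₀ := by
        rw [← hk, mul_smul, mul_smul, inv_smul_smul, (smul_blk0_iff.2 hsH)]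
      exact hs1 (conj_eq_one_iff.1 (hx₀.stab_core hF ht hE h1 h2))
  obtain ⟨h, hh, hhx⟩ := far_transitive hF ht hE hx₀ hfar
  exact ⟨k * h, by rw [mul_smul, smul_blk0_iff.2 hh, hk], by rw [mul_smul, hhx, smul_inv_smul]⟩

theorem pairStab_le_predStab : pairStab E x₀ ≤ predStab (OddBlk E x₀) := by
  intro d hd x
  rw [OddBlk, OddBlk, show d • x = (⟨d, hd⟩ : pairStab E x₀) • x from rfl, MulAction.orbit_smul]

theorem swap_mem_predStab {g : G} (hg0 : g • blk0 E = x₀) (hg1 : g • x₀ = blk0 E) :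
    g ∈ predStab (OddBlk E x₀) := by
  have hD : ∀ d, d ∈ pairStab E x₀ ↔ d • blk0 E = blk0 E ∧ d • x₀ = x₀ := fun d => by
    rw [pairStab, Subgroup.mem_inf, smul_blk0_iff, mem_stabilizer_iff]
  intro x
  have himg : MulAction.orbit (pairStab E x₀) (g • x) = (g • ·) '' MulAction.orbit (pairStab E x₀) x := by
    ext y
    constructor
    · rintro ⟨⟨d, hd⟩, rfl⟩
      obtain ⟨h0, h1⟩ := (hD d).1 hd
      refine ⟨(g⁻¹ * d * g) • x, ⟨⟨g⁻¹ * d * g, (hD _).2 ⟨?_, ?_⟩⟩, rfl⟩, ?_⟩
      · rw [mul_smul, mul_smul, hg0, h1, inv_smul_eq_iff, hg0]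
      · rw [mul_smul, mul_smul, hg1, h0, inv_smul_eq_iff, hg1]
      · show g • (g⁻¹ * d * g) • x = d • g • x
        rw [smul_smul, smul_smul]; group
    · rintro ⟨_, ⟨⟨d, hd⟩, rfl⟩, rfl⟩
      obtain ⟨h0, h1⟩ := (hD d).1 hd
      refine ⟨⟨g * d * g⁻¹, (hD _).2 ⟨?_, ?_⟩⟩, ?_⟩
      · rw [mul_smul, mul_smul, show g⁻¹ • blk0 E = x₀ by rw [inv_smul_eq_iff, hg1], h1, hg1]
      · rw [mul_smul, mul_smul, show g⁻¹ • x₀ = blk0 E by rw [inv_smul_eq_iff, hg0], h0, hg0]
      · show (g * d * g⁻¹) • g • x = g • d • x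
        rw [smul_smul, smul_smul]; group
  rw [OddBlk, OddBlk, himg, Set.ncard_image_of_injective _ (MulAction.injective g)]

theorem core_le_predStab : E ≤ predStab (OddBlk E x₀) := by
  have hstep : ∀ e ∈ E, ∀ x, OddBlk E x₀ x → OddBlk E x₀ (e • x) := by
    intro e he x ho
    by_cases hx0 : x = blk0 E
    · rw [hx0, smul_blk0_iff.2 (le_normalizer he)]
      exact oddBlk_blk0 hF ht hE hx₀
    by_cases hn : Near E x
    · exact oddBlk_near_smul hF ht hE hx₀ hn he ho
    by_cases hc : ∃ f ∈ E, f • x₀ = x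
    · obtain ⟨f, hf, rfl⟩ := hc
      rw [smul_smul]
      exact oddBlk_core hF ht hE hx₀ (mul_mem he hf)
    · push Not at hc
      exact absurd ho (not_oddBlk_far hF ht hE hx₀ ⟨hx0, hn⟩ hc)
  intro e he x
  refine ⟨fun h => ?_, hstep e he x⟩
  have := hstep e⁻¹ (inv_mem he) _ h
  rwa [inv_smul_smul] at this

/-- A subgroup of index 23 with an orbit of 77 conjugates. -/
theorem exists_index_twenty_three :
    ∃ (M : Subgroup G) (O : Set (Blk E)), M.index = 23 ∧ O.ncard = 77 ∧ blk0 E ∈ O ∧ x₀ ∈ O ∧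
      ∀ m ∈ M, ∀ x, m • x ∈ O ↔ x ∈ O := by
  classical
  set p := OddBlk E x₀ with hp
  set M : Subgroup G := predStab p with hM
  set H := normalizer (E : Set G) with hH
  set Q := itemStab E x₀ with hQ
  set O := MulAction.orbit M (blk0 E) with hO
  obtain ⟨g, hg0, hg1⟩ := exists_swap hF ht hE hx₀
  have hgM : g ∈ M := swap_mem_predStab hF ht hE hx₀ hg0 hg1
  have hQM : Q ≤ M := sup_le (core_le_predStab hF ht hE hx₀) (pairStab_le_predStab hF ht hE hx₀)
  have hOinv : ∀ m ∈ M, ∀ x, m • x ∈ O ↔ x ∈ O := fun m hm x => by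
    rw [hO, ← MulAction.orbit_eq_iff, ← MulAction.orbit_eq_iff (a := x),
      show m • x = (⟨m, hm⟩ : M) • x from rfl, MulAction.orbit_smul]
  have hx₀O : x₀ ∈ O := ⟨⟨g, hgM⟩, hg0⟩
  have hOp : ∀ x ∈ O, p x := by
    rintro _ ⟨m, rfl⟩
    exact (m.2 _).2 (oddBlk_blk0 hF ht hE hx₀)
  -- the stabilizer of the first conjugate
  have hMH : M ⊓ H = Q := by
    have h1 : Q ≤ M ⊓ H := le_inf hQM itemStab_le
    obtain ⟨j, hj⟩ := Subgroup.card_dvd_of_le h1
    have h2 := Subgroup.card_dvd_of_le (inf_le_right : M ⊓ H ≤ H)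
    rw [hj, hQ, card_itemStab hF ht hE hx₀, hE.card_normalizer hF ht] at h2
    have h3 : j ∣ 7 := Nat.dvd_of_mul_dvd_mul_left (by norm_num : 0 < 5760) (by simpa using h2)
    rcases (Nat.dvd_prime (show Nat.Prime 7 by norm_num)).1 h3 with rfl | rfl
    · exact (Subgroup.eq_of_le_of_card_ge h1 (by rw [hj, mul_one])).symm
    · exfalso
      have hHM : H ≤ M := by
        refine le_trans (le_of_eq (Subgroup.eq_of_le_of_card_ge (inf_le_right : M ⊓ H ≤ H) ?_).symm) inf_le_left
        rw [hj, card_itemStab hF ht hE hx₀, hE.card_normalizer hF ht]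
      -- a far conjugate outside the orbit of the core
      obtain ⟨h, hh, hhQ⟩ : ∃ h ∈ H, h ∉ Q := by
        by_contra hc
        push Not at hc
        have := Subgroup.card_le_of_le (show H ≤ Q from hc)
        rw [hQ, card_itemStab hF ht hE hx₀, hE.card_normalizer hF ht] at this
        omega
      refine not_oddBlk_far hF ht hE hx₀ (hx₀.smul hh) (fun e he hex => hhQ ?_)
        ((hHM hh x₀).2 (hOp x₀ hx₀O))
      rw [hQ, mem_itemStab_iff inf_le_left]
      refine ⟨e, he, e⁻¹ * h, Subgroup.mem_inf.2 ⟨mul_mem (inv_mem (le_normalizer he)) hh, ?_⟩, mul_inv_cancel_left e h⟩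
      rw [mem_stabilizer_iff, mul_smul, ← hex, inv_smul_smul]
  have horb : O.ncard * 5760 = Nat.card M := by
    rw [← card_itemStab hF ht hE hx₀, ← hQ, ← hMH,
      show H = stabilizer G (blk0 E) from Subgroup.ext fun y => (smul_blk0_iff.symm.trans mem_stabilizer_iff.symm)]
    exact orbit_mul_stab M (blk0 E)
  -- the shape of the orbit
  have hsub : insert (blk0 E) ((fun e => e • x₀) '' (E : Set G)) ⊆ O := by
    rintro y (rfl | ⟨e, he, rfl⟩)
    · exact MulAction.mem_orbit_self _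
    · exact (hOinv e (hQM (mem_sup_left he)) x₀).2 hx₀O
  have hcard : (insert (blk0 E) ((fun e => e • x₀) '' (E : Set G))).ncard = 17 := by
    rw [Set.ncard_insert_of_notMem, Set.ncard_image_of_injOn, ← Nat.card_coe_set_eq, SetLike.coe_sort_coe, hE.card]
    · intro a ha b hb hab
      have hfix : (b⁻¹ * a) • x₀ = x₀ := by rw [mul_smul, show a • x₀ = b • x₀ from hab, inv_smul_smul]
      exact (inv_mul_eq_one.1 (hx₀.stab_core hF ht hE (mul_mem (inv_mem hb) ha) hfix)).symm
    · rintro ⟨e, he, h1⟩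
      exact (hx₀.smul (le_normalizer he)).1 h1
  set Y := O \ insert (blk0 E) ((fun e => e • x₀) '' (E : Set G)) with hY
  have hYnear : ∀ y ∈ Y, Near E y := by
    rintro y ⟨hy, hy'⟩
    by_contra hn
    exact not_oddBlk_far hF ht hE hx₀ ⟨fun e => hy' (Or.inl e), hn⟩
      (fun e he h1 => hy' (Or.inr ⟨e, he, h1⟩)) (hOp y hy)
  have hY140 : Y.ncard ≤ 140 := by
    have h1 := Set.ncard_le_ncard (show Y ⊆ {w | Near E w} from hYnear)
    rwa [← Nat.card_coe_set_eq ({w | Near E w}), Set.coe_setOf, card_near hF ht hE] at h1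
  have h4 : 4 ∣ Y.ncard := by
    refine four_dvd_ncard E Y (fun a ha y hy => ⟨(hOinv a (hQM (mem_sup_left ha)) y).2 hy.1, fun h' => hy.2 ?_⟩)
      fun y hy => ?_
    · rcases h' with h' | ⟨e, he, h'⟩
      · refine Or.inl ?_
        rw [← inv_smul_smul a y, h', smul_blk0_iff.2 (inv_mem (le_normalizer ha))]
      · refine Or.inr ⟨a⁻¹ * e, mul_mem (inv_mem ha) he, ?_⟩
        show (a⁻¹ * e) • x₀ = y
        rw [mul_smul, show e • x₀ = a • y from h', inv_smul_smul]
    · have h1 := orbit_mul_stab E y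
      rw [hE.card, (hYnear y hy).card_stab_core hF ht hE] at h1
      exact Nat.eq_of_mul_eq_mul_right (show 0 < 4 by norm_num) (h1.trans (show 16 = 4 * 4 by norm_num))
  have hOc : O.ncard = 17 + Y.ncard := by
    rw [hY, Set.ncard_sdiff hsub, hcard]
    have := Set.ncard_le_ncard hsub
    omega
  have hd : Nat.card M ∣ 10200960 := hF.card_eq ▸ M.card_subgroup_dvd_card
  rw [← horb, show (10200960 : ℕ) = 1771 * 5760 by norm_num] at hd
  have hd' : O.ncard ∣ 1771 := Nat.dvd_of_mul_dvd_mul_right (by norm_num) hd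
  have hn : O.ncard = 77 := by
    obtain ⟨c, hc⟩ := hd'
    obtain ⟨b, hb⟩ := h4
    have hlo : 17 ≤ O.ncard := by omega
    have hhi : O.ncard ≤ 157 := by omega
    have hc1 : c ≤ 104 := by nlinarith
    have hc2 : 11 ≤ c := by nlinarith
    interval_cases c <;> omega
  refine ⟨M, O, ?_, hn, MulAction.mem_orbit_self _, hx₀O, hOinv⟩
  have h1 := M.card_mul_index
  rw [← horb, hn, hF.card_eq] at h1
  omega

end CfsgLib.Char.MTwentyThreeOrder
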