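import Mathlib

/-!
# Permutation groups on seven letters needed for the Mathieu group of degree 23
-/

set_option autoImplicit false
set_option linter.all false

open Subgroup MulAction Equiv

namespace CfsgLib.Char.MTwentyThreeOrder

universe u

variable {α : Type u} [Fintype α] [DecidableEq α]

/-- An even permutation fixing one of seven letters comes from the alternating group on six. -/
theorem not_fixed_of_card_seventy_two (h7 : Fintype.card α = 7) (K : Subgroup (Perm α))
    (hK : K ≤ alternatingGroup α) (hKc : Nat.card K = 72) (b : α) : ∃ k ∈ K, k b ≠ b := by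
  classical
  by_contra hno
  push Not at hno
  set s : Finset α := Finset.univ.erase b with hs
  have hs6 : Nat.card s = 6 := by
    rw [Nat.card_eq_fintype_card, Fintype.card_coe, hs, Finset.card_erase_of_mem (Finset.mem_univ b),
      Finset.card_univ, h7]
  haveI : Nontrivial s := Finite.one_lt_card_iff_nontrivial.1 (by rw [hs6]; norm_num)
  haveI := alternatingGroup.isSimpleGroup (α := s) (by rw [hs6]; norm_num)
  set f : alternatingGroup s →* Perm α := (Perm.ofSubtype).comp (alternatingGroup s).subtype with hf
  have hfi : Function.Injective f := Perm.ofSubtype_injective.comp (alternatingGroup s).subtype_injective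
  have hrange : K ≤ f.range := by
    intro k hk
    have hmem : k ∈ (Perm.ofSubtype : Perm s →* Perm α).range ⊓ alternatingGroup α := by
      refine ⟨⟨k.subtypePerm (fun x => ?_), Perm.ofSubtype_subtypePerm _ fun x hx => ?_⟩, hK hk⟩
      · simp only [hs, Finset.mem_erase, Finset.mem_univ, and_true]
        exact ⟨fun h e => h (by rw [e]; exact hno k hk), fun h e => h (k.injective (e.trans (hno k hk).symm))⟩
      · simp only [hs, Finset.mem_erase, Finset.mem_univ, and_true]
        exact fun e => hx (e ▸ hno k hk)
    rw [← alternatingGroup.map_ofSubtype] at hmem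
    obtain ⟨y, hy, hyk⟩ := hmem
    exact ⟨⟨y, hy⟩, hyk⟩
  set K' := K.comap f with hK'
  have hK'c : Nat.card K' = 72 := by
    rw [← hKc, show Nat.card K' = Nat.card (K'.map f) from (Subgroup.card_map_of_injective hfi).symm, hK',
      Subgroup.map_comap_eq_self hrange]
  have hA : Nat.card (alternatingGroup s) = 360 := by
    rw [nat_card_alternatingGroup, hs6]; rfl
  have hidx : K'.index = 5 := by
    have h := K'.card_mul_index
    rw [hK'c, hA] at h
    omega
  rcases (Subgroup.normalCore_normal K').eq_bot_or_eq_top with h | h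
  · rw [Subgroup.normalCore_eq_ker] at h
    have h1 := (MulAction.toPermHom (alternatingGroup s) (alternatingGroup s ⧸ K')).ker.card_mul_index
    rw [h, Subgroup.card_bot, one_mul, Subgroup.index_bot, hA] at h1
    have h2 := Subgroup.card_dvd_of_injective (MulAction.toPermHom (alternatingGroup s) (alternatingGroup s ⧸ K'))
      ((MonoidHom.ker_eq_bot_iff _).1 h)
    rw [Nat.card_perm, ← Subgroup.index_eq_card, hidx, hA] at h2
    simp [Nat.factorial] at h2
  · have := Subgroup.normalCore_le K'
    rw [h, top_le_iff] at this
    rw [this, Subgroup.index_top] at hidx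
    omega

/-- A group of permutations with an invariant set embeds in the product of the two restrictions. -/
theorem card_dvd_of_invariant (K : Subgroup (Perm α)) (A : Finset α) (hA : ∀ k ∈ K, ∀ a, k a ∈ A ↔ a ∈ A) :
    Nat.card K ∣ Nat.factorial A.card * Nat.factorial (Fintype.card α - A.card) := by
  classical
  let φ : K →* Perm {x // x ∈ A} × Perm {x // x ∉ A} :=
    MonoidHom.mk' (fun k => ((k : Perm α).subtypePerm (hA k k.2),
      (k : Perm α).subtypePerm (fun x => not_congr (hA k k.2 x)))) fun a b => by
        ext x <;> rfl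
  have hφ : Function.Injective φ := fun a b h => by
    refine Subtype.ext (Equiv.ext fun x => ?_)
    by_cases hx : x ∈ A
    · exact congrArg Subtype.val (DFunLike.congr_fun (congrArg Prod.fst h) ⟨x, hx⟩)
    · exact congrArg Subtype.val (DFunLike.congr_fun (congrArg Prod.snd h) ⟨x, hx⟩)
  have h := Subgroup.card_dvd_of_injective φ hφ
  simpa [Nat.card_prod, Nat.card_eq_fintype_card, Fintype.card_perm, Fintype.card_subtype_compl] using h

/-- The orbit lengths of a group of order 72 of even permutations of seven letters. -/
theorem orbit_card_seventy_two (h7 : Fintype.card α = 7) (K : Subgroup (Perm α))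
    (hK : K ≤ alternatingGroup α) (hKc : Nat.card K = 72) (a : α) :
    (MulAction.orbit K a).ncard = 3 ∨ (MulAction.orbit K a).ncard = 4 := by
  classical
  have hinv : ∀ k ∈ K, ∀ x, k x ∈ MulAction.orbit K a ↔ x ∈ MulAction.orbit K a := fun k hk x => by
    rw [← MulAction.orbit_eq_iff, ← MulAction.orbit_eq_iff (a := x)]
    rw [show k x = (⟨k, hk⟩ : K) • x from rfl, MulAction.orbit_smul]
  have h := card_dvd_of_invariant K (MulAction.orbit K a).toFinset (fun k hk x => by
    simpa only [Set.mem_toFinset] using hinv k hk x)
  rw [hKc, h7, ← Set.ncard_eq_toFinset_card'] at h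
  have hd : (MulAction.orbit K a).ncard ∣ 72 := by
    rw [← hKc, ← MulAction.index_stabilizer]
    exact Subgroup.index_dvd_card _
  have hle : (MulAction.orbit K a).ncard ≤ 7 := by
    have := Set.ncard_le_card (MulAction.orbit K a)
    rwa [Nat.card_eq_fintype_card, h7] at this
  set n := (MulAction.orbit K a).ncard with hn
  have h1 : n ≠ 1 := by
    intro e
    obtain ⟨k, hk, hka⟩ := not_fixed_of_card_seventy_two h7 K hK hKc a
    obtain ⟨y, hy⟩ := Set.ncard_eq_one.1 (hn.symm.trans e)
    have e1 : a ∈ ({y} : Set α) := hy ▸ MulAction.mem_orbit_self a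
    have e2 : k a ∈ ({y} : Set α) := hy ▸ (hinv k hk a).2 (MulAction.mem_orbit_self a)
    exact hka (e2.trans e1.symm)
  have h6 : n ≠ 6 := by
    intro e
    obtain ⟨b, hb⟩ : ∃ b, b ∉ MulAction.orbit K a := by
      by_contra hc
      push Not at hc
      have := Set.ncard_univ α
      rw [← Set.eq_univ_of_forall hc, Nat.card_eq_fintype_card, h7] at this
      omega
    obtain ⟨k, hk, hkb⟩ := not_fixed_of_card_seventy_two h7 K hK hKc b
    have hsub : ({b, k b} : Set α) ⊆ (MulAction.orbit K a)ᶜ := by
      rintro x (rfl | rfl)
      exacts [hb, fun h' => hb ((hinv k hk b).1 h')]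
    have h2 := Set.ncard_le_ncard hsub
    rw [Set.ncard_pair (Ne.symm hkb), Set.ncard_compl, Nat.card_eq_fintype_card, h7, ← hn, e] at h2
    omega
  have h0 : n ≠ 0 := by
    rw [hn, ne_eq, Set.ncard_eq_zero]
    exact Set.nonempty_iff_ne_empty.1 ⟨a, MulAction.mem_orbit_self a⟩
  interval_cases n <;> first | exact absurd rfl h0 | exact absurd rfl h1 | exact absurd rfl h6 | exact Or.inl rfl | exact Or.inr rfl | (revert h hd; norm_num [Nat.factorial])

/-- A permutation of order three fixing three of seven letters is a three-cycle. -/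
theorem isThreeCycle_of_fix (h7 : Fintype.card α = 7) {σ : Perm α} (hσ : orderOf σ = 3) {a b c : α}
    (hab : a ≠ b) (hac : a ≠ c) (hbc : b ≠ c) (ha : σ a = a) (hb : σ b = b) (hc : σ c = c) :
    σ.IsThreeCycle := by
  classical
  haveI := Fact.mk Nat.prime_three
  have hle : σ.support.card ≤ 4 := by
    have hsub : σ.support ⊆ Finset.univ \ {a, b, c} := fun x hx => by
      rw [Perm.mem_support] at hx
      simp only [Finset.mem_sdiff, Finset.mem_univ, Finset.mem_insert, Finset.mem_singleton, true_and, not_or]
      exact ⟨fun e => hx (e ▸ ha), fun e => hx (e ▸ hb), fun e => hx (e ▸ hc)⟩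
    have := Finset.card_le_card hsub
    rwa [Finset.card_sdiff_of_subset (Finset.subset_univ _), Finset.card_univ, h7,
      Finset.card_insert_of_notMem (by simp [hab, hac]), Finset.card_pair hbc] at this
  have hpow : ∀ n ∈ σ.cycleType, n = 3 := fun n hn => by
    have h := Perm.dvd_of_mem_cycleType hn
    rw [hσ] at h
    exact ((Nat.dvd_prime Nat.prime_three).1 h).resolve_left (ne_of_gt (Perm.one_lt_of_mem_cycleType hn))
  rw [Perm.IsThreeCycle, Multiset.eq_replicate_card.2 hpow]
  have hsum := σ.sum_cycleType
  rw [Multiset.eq_replicate_card.2 hpow, Multiset.sum_replicate, smul_eq_mul] at hsum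
  have hne : σ.cycleType.card ≠ 0 := fun e => by
    rw [Multiset.card_eq_zero, Perm.cycleType_eq_zero] at e
    rw [e, orderOf_one] at hσ
    omega
  rw [show σ.cycleType.card = 1 by omega]
  rfl

/-- A transitive group of seven letters of order dividing 2688 contains no three-cycle. -/
theorem not_isThreeCycle_of_transitive (h7 : Fintype.card α = 7) (M : Subgroup (Perm α))
    [MulAction.IsPretransitive M α] (hM : Nat.card M ∣ 2688) {σ : Perm α} (hσ : σ ∈ M) :
    ¬ σ.IsThreeCycle := by
  intro h3
  have hp : MulAction.IsPreprimitive M α := MulAction.IsPreprimitive.of_prime_card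
    (by rw [Nat.card_eq_fintype_card, h7]; norm_num)
  have hle := Equiv.Perm.alternatingGroup_le_of_isPreprimitive_of_isThreeCycle_mem hp h3 hσ
  haveI : Nontrivial α := Fintype.one_lt_card_iff_nontrivial.1 (by rw [h7]; norm_num)
  have hd := (Subgroup.card_dvd_of_le hle).trans hM
  rw [nat_card_alternatingGroup, Nat.card_eq_fintype_card, h7] at hd
  norm_num [Nat.factorial] at hd

end CfsgLib.Char.MTwentyThreeOrder
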