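import Cfsg.Agent.Lib.Char.MTwentyThreeOrder.Local.Orbits
import Cfsg.Agent.Lib.Char.MTwentyThreeOrder.Local.PermSeven

/-!
# The action of the normalizer of the core on seven items
-/

set_option autoImplicit false
set_option linter.all false

open Subgroup MulAction Equiv
open CfsgLib.Char.MTwentyTwoOrder (card_modEq_fixed conj_mem_of_mem_normalizer mem_normalizer_of_map_mem)

namespace CfsgLib.Char.MTwentyThreeOrder

universe u

variable {G : Type u} [Group G] [Finite G]

/-- The stabilizer of an item. -/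
def itemStab (E : Subgroup G) (x₀ : Blk E) : Subgroup G := E ⊔ (normalizer (E : Set G) ⊓ stabilizer G x₀)

/-- The seven items. -/
abbrev ItemSet (E : Subgroup G) (x₀ : Blk E) : Type u :=
  normalizer (E : Set G) ⧸ (itemStab E x₀).subgroupOf (normalizer (E : Set G))

/-- The action on the items. -/
noncomputable def itemPerm (E : Subgroup G) (x₀ : Blk E) :
    normalizer (E : Set G) →* Perm (ItemSet E x₀) :=
  MulAction.toPermHom (normalizer (E : Set G)) (ItemSet E x₀)

/-- The item of the chosen conjugate. -/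
def item0 (E : Subgroup G) (x₀ : Blk E) : ItemSet E x₀ :=
  ((1 : normalizer (E : Set G)) : _ ⧸ (itemStab E x₀).subgroupOf (normalizer (E : Set G)))

variable {E : Subgroup G} {x₀ : Blk E}

theorem itemStab_le : itemStab E x₀ ≤ normalizer (E : Set G) := sup_le le_normalizer inf_le_left

theorem itemPerm_apply (h : normalizer (E : Set G)) (i : ItemSet E x₀) : itemPerm E x₀ h i = h • i := rfl

theorem itemPerm_item0 (h : normalizer (E : Set G)) :
    itemPerm E x₀ h (item0 E x₀) = item0 E x₀ ↔ (h : G) ∈ itemStab E x₀ := by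
  rw [itemPerm_apply, item0, MulAction.Quotient.smul_coe, smul_eq_mul, mul_one, QuotientGroup.eq, mul_one,
    inv_mem_iff, mem_subgroupOf]

theorem mem_itemStab_iff (hd : normalizer (E : Set G) ⊓ stabilizer G x₀ ≤ normalizer (E : Set G)) {q : G} :
    q ∈ itemStab E x₀ ↔ ∃ e ∈ E, ∃ d ∈ normalizer (E : Set G) ⊓ stabilizer G x₀, e * d = q :=
  mem_sup_left_normalizing hd

variable (hF : Facts G)
include hF

variable {t : G} (ht : orderOf t = 2) (hE : IsE t E) (hx₀ : Far E x₀)
include ht hE hx₀

theorem card_itemStab : Nat.card (itemStab E x₀) = 5760 := by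
  rw [itemStab, card_sup_of_disjoint inf_le_left (hx₀.disjoint hF ht hE), hE.card, hx₀.card_stab hF ht hE]

theorem card_itemSet : Nat.card (ItemSet E x₀) = 7 := by
  have h := ((itemStab E x₀).subgroupOf (normalizer (E : Set G))).card_mul_index
  rw [Nat.card_congr (subgroupOfEquivOfLe itemStab_le).toEquiv, card_itemStab hF ht hE hx₀,
    hE.card_normalizer hF ht, Subgroup.index_eq_card] at h
  change 5760 * Nat.card (ItemSet E x₀) = 40320 at h
  omega

theorem ker_itemPerm : (itemPerm E x₀).ker = E.subgroupOf (normalizer (E : Set G)) := by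
  set H := normalizer (E : Set G) with hH
  haveI : (E.subgroupOf H).Normal := Subgroup.normal_in_normalizer
  have hle : E.subgroupOf H ≤ (itemPerm E x₀).ker := by
    rw [itemPerm, ← Subgroup.normalCore_eq_ker]
    exact Subgroup.normal_le_normalCore.2 fun y hy => mem_subgroupOf.2 (mem_sup_left (mem_subgroupOf.1 hy))
  set X := (itemPerm E x₀).ker.map H.subtype with hX
  have hEX : E ≤ X := fun e he => ⟨⟨e, le_normalizer he⟩, hle (mem_subgroupOf.2 he), rfl⟩
  rcases hE.normal_cases hF ht hEX (map_subtype_le _) (fun g hg => mem_normalizer_of_map_mem (by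
      rintro _ ⟨y, hy, rfl⟩
      exact ⟨_, (itemPerm E x₀).normal_ker.conj_mem y hy ⟨g, hg⟩, rfl⟩)) with e | e
  · refine le_antisymm (fun y hy => mem_subgroupOf.2 ?_) hle
    exact e.le ⟨y, hy, rfl⟩
  · exfalso
    have hle' : (itemPerm E x₀).ker ≤ (itemStab E x₀).subgroupOf H := by
      rw [itemPerm, ← Subgroup.normalCore_eq_ker]
      exact normalCore_le _
    have h1 := Subgroup.card_le_of_le hle'
    rw [Nat.card_congr (subgroupOfEquivOfLe itemStab_le).toEquiv, card_itemStab hF ht hE hx₀,
      ← Subgroup.card_map_of_injective H.subtype_injective, ← hX, e, hE.card_normalizer hF ht] at h1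
    omega

theorem itemPerm_one_of_mem {e : G} (he : e ∈ E) : itemPerm E x₀ ⟨e, le_normalizer he⟩ = 1 := by
  rw [← MonoidHom.mem_ker, ker_itemPerm hF ht hE hx₀]
  exact mem_subgroupOf.2 he

theorem range_itemPerm [Fintype (ItemSet E x₀)] [DecidableEq (ItemSet E x₀)] :
    (itemPerm E x₀).range = alternatingGroup (ItemSet E x₀) := by
  refine Equiv.Perm.eq_alternatingGroup_of_index_eq_two ?_
  have h7 := card_itemSet hF ht hE hx₀
  have h1 := (itemPerm E x₀).range.card_mul_index
  rw [Nat.card_perm, h7] at h1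
  have h2 := (itemPerm E x₀).ker.card_mul_index
  rw [Subgroup.index_ker, ker_itemPerm hF ht hE hx₀,
    Nat.card_congr (subgroupOfEquivOfLe le_normalizer).toEquiv, hE.card, hE.card_normalizer hF ht] at h2
  simp only [Nat.factorial] at h1
  rw [show Nat.card (itemPerm E x₀).range = 2520 by omega] at h1
  omega

/-- The stabilizer of the far conjugate is transitive on the other six items. -/
theorem exists_move {a b : ItemSet E x₀} (ha : a ≠ item0 E x₀) (hb : b ≠ item0 E x₀) :
    ∃ d : normalizer (E : Set G), (d : G) • x₀ = x₀ ∧ d • a = b := by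
  classical
  haveI := Fintype.ofFinite (ItemSet E x₀)
  by_cases hab : a = b
  · exact ⟨1, by simp, by rw [one_smul, hab]⟩
  have h7 : Fintype.card (ItemSet E x₀) = 7 := by rw [← Nat.card_eq_fintype_card, card_itemSet hF ht hE hx₀]
  set i := item0 E x₀ with hi
  have hc : 1 < (Finset.univ \ {i, a, b} : Finset (ItemSet E x₀)).card := by
    have h1 := Finset.le_card_sdiff ({i, a, b} : Finset (ItemSet E x₀)) Finset.univ
    have h2 : ({i, a, b} : Finset (ItemSet E x₀)).card ≤ 3 := Finset.card_le_three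
    rw [Finset.card_univ, h7] at h1
    omega
  obtain ⟨c, hc', d, hd', hcd⟩ := Finset.one_lt_card.1 hc
  simp only [Finset.mem_sdiff, Finset.mem_univ, Finset.mem_insert, Finset.mem_singleton, true_and, not_or] at hc' hd'
  set σ := Equiv.swap a b * Equiv.swap c d with hσ
  have hσA : σ ∈ (itemPerm E x₀).range := by
    rw [range_itemPerm hF ht hE hx₀, Equiv.Perm.mem_alternatingGroup, hσ, map_mul, Equiv.Perm.sign_swap hab,
      Equiv.Perm.sign_swap hcd]
    rfl
  obtain ⟨h, hh⟩ := hσA
  have hi0 : itemPerm E x₀ h i = i := by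
    rw [hh, hσ, Equiv.Perm.mul_apply, Equiv.swap_apply_of_ne_of_ne (Ne.symm hc'.1) (Ne.symm hd'.1),
      Equiv.swap_apply_of_ne_of_ne ha.symm hb.symm]
  obtain ⟨e, he, d', hd'', hed⟩ := (mem_itemStab_iff inf_le_left).1 ((itemPerm_item0 h).1 hi0)
  refine ⟨⟨d', hd''.1⟩, hd''.2, ?_⟩
  have hfac : h = (⟨e, le_normalizer he⟩ : normalizer (E : Set G)) * ⟨d', hd''.1⟩ := Subtype.ext hed.symm
  have h2 : itemPerm E x₀ ⟨d', hd''.1⟩ = σ := by
    rw [← hh, hfac, map_mul, itemPerm_one_of_mem hF ht hE hx₀ he, one_mul]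
  rw [← itemPerm_apply, h2, hσ, Equiv.Perm.mul_apply, Equiv.swap_apply_of_ne_of_ne (Ne.symm hc'.2.1) (Ne.symm hd'.2.1),
    Equiv.swap_apply_left]

/-- The centralizer of an involution of the core is transitive on the items. -/
theorem card_itemStab_inf_cent {e : G} (he : e ∈ E) (he1 : e ≠ 1) :
    Nat.card ↥(itemStab E x₀ ⊓ centralizer ({e} : Set G)) = 384 := by
  set H := normalizer (E : Set G) with hH
  set C := centralizer ({e} : Set G) with hC
  have hee := hE.of_mem hF ht he he1
  have heo : orderOf e = 2 := orderOf_eq_prime (by rw [pow_two, hE.elem e he]) he1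
  set X := itemStab E x₀ ⊓ C with hX
  have hEX : E ≤ X := le_inf le_sup_left hee.le
  obtain ⟨m, hm⟩ := Subgroup.card_dvd_of_le hEX
  have h1 := Subgroup.card_dvd_of_le (inf_le_left : X ≤ itemStab E x₀)
  have h2 := Subgroup.card_dvd_of_le (inf_le_right : X ≤ C)
  have h3 : Nat.card C ≤ Nat.card X * 7 := by
    have h4 : (itemStab E x₀).relIndex C ≤ (itemStab E x₀).relIndex H :=
      Subgroup.relIndex_le_of_le_right hee.norm Subgroup.index_ne_zero_of_finite
    rw [Subgroup.relIndex, Subgroup.relIndex, Subgroup.index_eq_card, Subgroup.index_eq_card] at h4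
    have h5 : Nat.card (H ⧸ (itemStab E x₀).subgroupOf H) = 7 := card_itemSet hF ht hE hx₀
    rw [h5] at h4
    have h6 := ((itemStab E x₀).subgroupOf C).card_mul_index
    rw [Subgroup.index_eq_card, ← card_inf_eq_subgroupOf, inf_comm] at h6
    rw [← h6]
    exact Nat.mul_le_mul_left _ h4
  rw [card_itemStab hF ht hE hx₀, hm, hE.card] at h1
  rw [hF.cent_invol e heo, hm, hE.card] at h2 h3
  rw [hm, hE.card]
  have h7 : m ∣ 24 := by
    have ha : m ∣ 360 := Nat.dvd_of_mul_dvd_mul_left (by norm_num : 0 < 16) (by simpa using h1)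
    have hb : m ∣ 168 := Nat.dvd_of_mul_dvd_mul_left (by norm_num : 0 < 16) (by simpa using h2)
    exact Nat.dvd_gcd ha hb
  have h8 := Nat.le_of_dvd (by norm_num) h7
  omega

/-- No element acting as a three-cycle commutes with an involution of the core. -/
theorem not_threeCycle_of_cent [Fintype (ItemSet E x₀)] [DecidableEq (ItemSet E x₀)] {e : G} (he : e ∈ E)
    (he1 : e ≠ 1) (h : normalizer (E : Set G)) (hh : (h : G) ∈ centralizer ({e} : Set G)) :
    ¬ (itemPerm E x₀ h).IsThreeCycle := by
  set H := normalizer (E : Set G) with hH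
  set C := centralizer ({e} : Set G) with hC
  have hee := hE.of_mem hF ht he he1
  have heo : orderOf e = 2 := orderOf_eq_prime (by rw [pow_two, hE.elem e he]) he1
  set M := (C.subgroupOf H).map (itemPerm E x₀) with hM
  have hMc : Nat.card M ∣ 2688 := by
    have h1 : Nat.card M ∣ Nat.card (C.subgroupOf H) := Subgroup.card_map_dvd _ _
    rwa [Nat.card_congr (subgroupOfEquivOfLe hee.norm).toEquiv, hF.cent_invol e heo] at h1
  have h7 : Fintype.card (ItemSet E x₀) = 7 := by rw [← Nat.card_eq_fintype_card, card_itemSet hF ht hE hx₀]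
  have hreach : ∀ i : ItemSet E x₀, ∃ c : C.subgroupOf H, (c : H) • item0 E x₀ = i := by
    have hst : stabilizer (C.subgroupOf H) (item0 E x₀) =
        (((itemStab E x₀).subgroupOf H)).subgroupOf (C.subgroupOf H) := by
      ext c
      rw [mem_stabilizer_iff, mem_subgroupOf, mem_subgroupOf, ← itemPerm_item0]
      rfl
    have horb : (MulAction.orbit (C.subgroupOf H) (item0 E x₀)).ncard = 7 := by
      rw [← MulAction.index_stabilizer, hst]
      have h1 := (((itemStab E x₀).subgroupOf H).subgroupOf (C.subgroupOf H)).card_mul_index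
      rw [← card_inf_eq_subgroupOf, Nat.card_congr (subgroupOfEquivOfLe hee.norm).toEquiv,
        hF.cent_invol e heo] at h1
      have h2 : Nat.card ↥(C.subgroupOf H ⊓ (itemStab E x₀).subgroupOf H) = 384 := by
        rw [show C.subgroupOf H ⊓ (itemStab E x₀).subgroupOf H = (C ⊓ itemStab E x₀).subgroupOf H from rfl,
          Nat.card_congr (subgroupOfEquivOfLe (inf_le_left.trans hee.norm)).toEquiv, inf_comm,
          card_itemStab_inf_cent hF ht hE hx₀ he he1]
      rw [h2] at h1
      omega
    intro i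
    have heq : MulAction.orbit (C.subgroupOf H) (item0 E x₀) = Set.univ :=
      Set.eq_of_subset_of_ncard_le (Set.subset_univ _)
        (by rw [horb, Set.ncard_univ, card_itemSet hF ht hE hx₀])
    obtain ⟨c, hc⟩ : i ∈ MulAction.orbit (C.subgroupOf H) (item0 E x₀) := heq ▸ Set.mem_univ i
    exact ⟨c, hc⟩
  haveI : MulAction.IsPretransitive M (ItemSet E x₀) := ⟨fun a b => by
    obtain ⟨c, rfl⟩ := hreach a
    obtain ⟨c', rfl⟩ := hreach b
    refine ⟨⟨itemPerm E x₀ ((c' : H) * (c : H)⁻¹), Subgroup.mem_map_of_mem _ (mul_mem c'.2 (inv_mem c.2))⟩, ?_⟩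
    show itemPerm E x₀ ((c' : H) * (c : H)⁻¹) ((c : H) • item0 E x₀) = _
    rw [itemPerm_apply, smul_smul, inv_mul_cancel_right]⟩
  exact not_isThreeCycle_of_transitive h7 M hMc (Subgroup.mem_map_of_mem _ (mem_subgroupOf.2 hh))

end CfsgLib.Char.MTwentyThreeOrder
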