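import Cfsg.Agent.Lib.Char.MTwentyThreeOrder.Local.Fusion
import Cfsg.Agent.Lib.Char.MTwentyTwoOrder.Local.Select

/-!
# The core is shared by all its involutions; its normalizer has order 40320
-/

set_option autoImplicit false
set_option linter.all false

open Subgroup MulAction
open scoped Pointwise
open CfsgLib.Char.MTwentyTwoOrder (card_modEq_fixed conj_mem_of_mem_normalizer mem_normalizer_of_map_mem
  card_sylow_eq card_dvd_of_free card_mul_le le_or_le_of_subset_union card_eq_orbit_mul conj_mem_map)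

namespace CfsgLib.Char.MTwentyThreeOrder

universe u

variable {G : Type u} [Group G] [Finite G]

/-- A subgroup in the centralizer of the four group, with an element of order three, and containing it. -/
structure Slot (t u : G) (V X : Subgroup G) : Prop where
  two : IsPGroup 2 X
  four_le : V ≤ X
  le : X ≤ centralizer ({t} : Set G)
  norm : u ∈ normalizer (X : Set G)

variable (hF : Facts G)
include hF

variable {t u : G} {E : Subgroup G}

theorem Slot.mod_three (ht : orderOf t = 2) (hE : IsE t E) (hut : u ∈ centralizer ({t} : Set G))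
    (hu : orderOf u = 3) {X : Subgroup G} (hX : Slot t u (E ⊓ centralizer ({u} : Set G)) X) :
    Nat.card X % 3 = 1 := by
  haveI := Fact.mk Nat.prime_three
  have h := card_modEq_fixed X hu hX.norm
  have he : X ⊓ centralizer ({u} : Set G) = E ⊓ centralizer ({u} : Set G) :=
    le_antisymm (four_of hF ht hE hut hu (hX.two.to_le inf_le_left) (inf_le_left.trans hX.le) inf_le_right)
      (le_inf hX.four_le inf_le_right)
  rw [he, hE.three u hut hu] at h
  exact h

theorem Slot.card_cases (ht : orderOf t = 2) (hE : IsE t E) (hut : u ∈ centralizer ({t} : Set G))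
    (hu : orderOf u = 3) {X : Subgroup G} (hX : Slot t u (E ⊓ centralizer ({u} : Set G)) X) :
    Nat.card X = 4 ∨ Nat.card X = 16 ∨ Nat.card X = 64 := by
  haveI := Fact.mk Nat.prime_two
  obtain ⟨n, hn⟩ := IsPGroup.iff_card.1 hX.two
  have h4 := Subgroup.card_le_of_le hX.four_le
  rw [hE.three u hut hu, hn] at h4
  have hd := Subgroup.card_dvd_of_le hX.le
  rw [hF.cent_invol t ht, hn] at hd
  have hn7 : n ≤ 7 := by
    by_contra hc
    have := (Nat.pow_dvd_pow 2 (show 8 ≤ n by omega)).trans hd
    norm_num at this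
  have h3 := hX.mod_three hF ht hE hut hu
  rw [hn] at h3 ⊢
  interval_cases n <;> simp_all

/-- An element rotating the four group normalizes the core. -/
theorem rotate_mem_normalizer (ht : orderOf t = 2) (hE : IsE t E) (hut : u ∈ centralizer ({t} : Set G))
    (hu : orderOf u = 3) {w v : G} (hw : w ∈ centralizer ({u} : Set G))
    (hvV : v ∈ E ⊓ centralizer ({u} : Set G)) (h1 : w * t * w⁻¹ = v) (h2 : w * v * w⁻¹ = t * v)
    (h3 : w * (t * v) * w⁻¹ = t)
    (hall : ∀ x ∈ E ⊓ centralizer ({u} : Set G), x = 1 ∨ x = t ∨ x = v ∨ x = t * v) :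
    w ∈ normalizer (E : Set G) := by
  haveI := Fact.mk Nat.prime_two
  set M := centralizer ({u} : Set G) with hM
  set V := E ⊓ M with hV
  have htV : t ∈ V := ⟨hE.mem, mem_centralizer_singleton_iff.2 (mem_centralizer_singleton_iff.1 hut).symm⟩
  set CV := centralizer (V : Set G) with hCV
  have hCVt : CV ≤ centralizer ({t} : Set G) := fun y hy =>
    mem_centralizer_singleton_iff.2 (mem_centralizer_iff.1 hy t htV).symm
  have hCVE : CV ≤ normalizer (E : Set G) := hCVt.trans hE.norm
  have hECV : E ≤ CV := fun e he => mem_centralizer_iff.2 fun x hx =>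
    mem_centralizer_iff.1 (hE.cent.ge he) x hx.1
  have huCV : u ∈ CV := mem_centralizer_iff.2 fun x hx => mem_centralizer_singleton_iff.1 hx.2
  have hwV : w ∈ normalizer (V : Set G) := mem_normalizer_of_map_mem fun x hx => by
    rcases hall x hx with rfl | rfl | rfl | rfl
    · rw [mul_one, mul_inv_cancel]; exact one_mem V
    · rw [h1]; exact hvV
    · rw [h2]; exact mul_mem htV hvV
    · rw [h3]; exact htV
  have hw3 : w * (w * w) ∈ CV := mem_centralizer_iff.2 fun x hx => by
    have hconj : w * (w * w) * x * (w * (w * w))⁻¹ = x := by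
      rw [show w * (w * w) * x * (w * (w * w))⁻¹ = w * (w * (w * x * w⁻¹) * w⁻¹) * w⁻¹ by group]
      rcases hall x hx with rfl | rfl | rfl | rfl
      · group
      · rw [h1, h2, h3]
      · rw [h2, h3, h1]
      · rw [h3, h1, h2]
    exact (mul_inv_eq_iff_eq_mul.1 hconj).symm
  -- conjugates of the core by the rotation
  have hconjCV : ∀ g : G, g ∈ normalizer (V : Set G) → ∀ y ∈ CV, g⁻¹ * y * g ∈ CV := by
    intro g hg y hy
    refine mem_centralizer_iff.2 fun x hx => ?_
    have hx' : g * x * g⁻¹ ∈ V := conj_mem_of_mem_normalizer hg hx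
    have hc := mem_centralizer_iff.1 hy _ hx'
    calc x * (g⁻¹ * y * g) = g⁻¹ * ((g * x * g⁻¹) * y) * g := by group
      _ = g⁻¹ * (y * (g * x * g⁻¹)) * g := by rw [hc]
      _ = g⁻¹ * y * g * x := by group
  have slotE : Slot t u V E :=
    ⟨IsPGroup.of_card (n := 4) (by rw [hE.card]; norm_num), inf_le_left, hE.le, hE.norm hut⟩
  have himg : ∀ g ∈ M, g ∈ normalizer (V : Set G) → E.map (MulAut.conj g).toMonoidHom ≤ CV ∧
      V ≤ E.map (MulAut.conj g).toMonoidHom ∧ CV ≤ normalizer ((E.map (MulAut.conj g).toMonoidHom : Subgroup G) : Set G) ∧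
      Slot t u V (E.map (MulAut.conj g).toMonoidHom) := by
    intro g hgM hg
    have hgi : g⁻¹ ∈ normalizer (V : Set G) := inv_mem hg
    have hle : E.map (MulAut.conj g).toMonoidHom ≤ CV := by
      rintro _ ⟨e, he, rfl⟩
      show g * e * g⁻¹ ∈ CV
      simpa using hconjCV g⁻¹ hgi e (hECV he)
    have hVle : V ≤ E.map (MulAut.conj g).toMonoidHom := fun x hx => by
      refine ⟨g⁻¹ * x * g, ?_, by show g * (g⁻¹ * x * g) * g⁻¹ = x; group⟩
      have := conj_mem_of_mem_normalizer hgi hx
      rw [inv_inv] at this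
      exact this.1
    have hn : CV ≤ normalizer ((E.map (MulAut.conj g).toMonoidHom : Subgroup G) : Set G) := by
      intro y hy
      refine mem_normalizer_of_map_mem ?_
      rintro _ ⟨e, he, rfl⟩
      refine ⟨(g⁻¹ * y * g) * e * (g⁻¹ * y * g)⁻¹, conj_mem_of_mem_normalizer (hCVE (hconjCV g hg y hy)) he, ?_⟩
      show g * ((g⁻¹ * y * g) * e * (g⁻¹ * y * g)⁻¹) * g⁻¹ = y * (g * e * g⁻¹) * y⁻¹
      group
    exact ⟨hle, hVle, hn, IsPGroup.of_card (n := 4)
      (by rw [Subgroup.card_map_of_injective (MulAut.conj g).injective, hE.card]; norm_num), hVle,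
      hle.trans hCVt, hn huCV⟩
  -- the join with a different conjugate
  have hjoin : ∀ F : Subgroup G, F ≤ CV → V ≤ F → CV ≤ normalizer (F : Set G) → Slot t u V F →
      Nat.card F = 16 → F ≠ E → E ⊓ F = V ∧ Slot t u V (E ⊔ F) ∧ Nat.card ↥(E ⊔ F) = 64 := by
    intro F hF1 hF2 hF3 hFs hFc hne
    have hsI : Slot t u V (E ⊓ F) := ⟨slotE.two.to_le inf_le_left, le_inf slotE.four_le hFs.four_le,
      inf_le_left.trans hE.le, mem_normalizer_of_map_mem fun y hy =>
        ⟨conj_mem_of_mem_normalizer slotE.norm hy.1, conj_mem_of_mem_normalizer hFs.norm hy.2⟩⟩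
    have hI : Nat.card ↥(E ⊓ F) = 4 := by
      rcases hsI.card_cases hF ht hE hut hu with h | h | h
      · exact h
      · exact absurd ((Subgroup.eq_of_le_of_card_ge inf_le_right (by rw [hFc, h])).symm.trans
          (Subgroup.eq_of_le_of_card_ge inf_le_left (by rw [hE.card, h]))) hne
      · have := Subgroup.card_le_of_le (inf_le_left : E ⊓ F ≤ E)
        rw [h, hE.card] at this
        omega
    have hIV : E ⊓ F = V := (Subgroup.eq_of_le_of_card_ge (le_inf slotE.four_le hFs.four_le)
      (by rw [hI, hE.three u hut hu])).symm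
    have hS : Slot t u V (E ⊔ F) := ⟨IsPGroup.to_sup_of_normal_right' slotE.two hFs.two (hECV.trans hF3),
      le_sup_of_le_left slotE.four_le, sup_le hE.le hFs.le,
      CfsgLib.Char.MTwentyTwoOrder.mem_normalizer_sup slotE.norm hFs.norm⟩
    refine ⟨hIV, hS, ?_⟩
    have hge := card_mul_le (Z := E ⊔ F) (X := E) (Y := F) le_sup_left le_sup_right
    rw [hI, hE.card, hFc] at hge
    rcases hS.card_cases hF ht hE hut hu with h | h | h <;> rw [h] at hge <;> first | rfl | exact h | omega
  by_contra hwE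
  set F := E.map (MulAut.conj w).toMonoidHom with hF'
  set F2 := E.map (MulAut.conj (w * w)).toMonoidHom with hF2'
  obtain ⟨f1, f2, f3, f4⟩ := himg w hw hwV
  obtain ⟨g1, g2, g3, g4⟩ := himg (w * w) (mul_mem hw hw) (mul_mem hwV hwV)
  have hFc : Nat.card F = 16 := by rw [hF', Subgroup.card_map_of_injective (MulAut.conj w).injective, hE.card]
  have hF2c : Nat.card F2 = 16 := by
    rw [hF2', Subgroup.card_map_of_injective (MulAut.conj (w * w)).injective, hE.card]
  have hfix : ∀ g : G, E.map (MulAut.conj g).toMonoidHom = E → g ∈ normalizer (E : Set G) := fun g hg =>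
    mem_normalizer_of_map_mem fun y hy => hg.le ⟨y, hy, rfl⟩
  have hFne : F ≠ E := fun e => hwE (hfix w e)
  have hw3E : w * (w * w) ∈ normalizer (E : Set G) := hCVE hw3
  have hF2ne : F2 ≠ E := fun e => hwE (by
    have := mul_mem hw3E (inv_mem (hfix _ e))
    rwa [show w * (w * w) * (w * w)⁻¹ = w by group] at this)
  obtain ⟨-, hS, hS64⟩ := hjoin F f1 f2 f3 f4 hFc hFne
  obtain ⟨hI, hS', hS'64⟩ := hjoin F2 g1 g2 g3 g4 hF2c hF2ne
  -- the two joins coincide
  have hSS : E ⊔ F2 = E ⊔ F := by
    have hI' : Slot t u V ((E ⊔ F) ⊓ (E ⊔ F2)) := ⟨hS.two.to_le inf_le_left, le_inf hS.four_le hS'.four_le,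
      inf_le_left.trans hS.le, mem_normalizer_of_map_mem fun y hy =>
        ⟨conj_mem_of_mem_normalizer hS.norm hy.1, conj_mem_of_mem_normalizer hS'.norm hy.2⟩⟩
    have hnorm : CV ≤ normalizer ((E ⊔ F2 : Subgroup G) : Set G) := fun y hy =>
      CfsgLib.Char.MTwentyTwoOrder.mem_normalizer_sup (hCVE hy) (g3 hy)
    have hp : IsPGroup 2 ↥((E ⊔ F) ⊔ (E ⊔ F2)) :=
      IsPGroup.to_sup_of_normal_right' hS.two hS'.two ((sup_le hECV f1).trans hnorm)
    have hle := card_mul_le (Z := (E ⊔ F) ⊔ (E ⊔ F2)) (X := E ⊔ F) (Y := E ⊔ F2) le_sup_left le_sup_right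
    obtain ⟨n, hn⟩ := IsPGroup.iff_card.1 hp
    have hd := Subgroup.card_dvd_of_le (sup_le hS.le hS'.le : (E ⊔ F) ⊔ (E ⊔ F2) ≤ centralizer ({t} : Set G))
    rw [hF.cent_invol t ht, hn] at hd
    have hn7 : n ≤ 7 := by
      by_contra hc
      have := (Nat.pow_dvd_pow 2 (show 8 ≤ n by omega)).trans hd
      norm_num at this
    have h128 : 2 ^ n ≤ 2 ^ 7 := Nat.pow_le_pow_right (by norm_num) hn7
    rw [hS64, hS'64, hn] at hle
    rcases hI'.card_cases hF ht hE hut hu with h | h | h
    · rw [h] at hle; omega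
    · rw [h] at hle; omega
    · exact (Subgroup.eq_of_le_of_card_ge inf_le_right (by rw [h, hS'64])).symm.trans
        (Subgroup.eq_of_le_of_card_ge inf_le_left (by rw [h, hS64]))
  -- the involutions of the join
  have hsub : ∀ x ∈ F2, x ∈ E ∨ x ∈ F := by
    intro x hx
    have hxS : x ∈ E ⊔ F := hSS.le (mem_sup_right hx)
    rw [← SetLike.mem_coe, Subgroup.coe_mul_of_left_le_normalizer_right E F (hECV.trans f3)] at hxS
    obtain ⟨e, he, f, hf, rfl⟩ := hxS
    by_cases hfE : f ∈ E
    · exact Or.inl (mul_mem he hfE)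
    right
    obtain ⟨y, hy, rfl⟩ := hf
    have hff : w * y * w⁻¹ * (w * y * w⁻¹) = 1 := by
      calc w * y * w⁻¹ * (w * y * w⁻¹) = w * (y * y) * w⁻¹ := by group
        _ = 1 := by rw [hE.elem y hy]; group
    obtain ⟨z, hz, hze⟩ := hx
    have hxx : e * (w * y * w⁻¹) * (e * (w * y * w⁻¹)) = 1 := by
      rw [show e * (w * y * w⁻¹) = (w * w) * z * (w * w)⁻¹ from hze.symm]
      calc (w * w) * z * (w * w)⁻¹ * ((w * w) * z * (w * w)⁻¹) = (w * w) * (z * z) * (w * w)⁻¹ := by group
        _ = 1 := by rw [hE.elem z hz]; group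
    change e * (w * y * w⁻¹) ∈ F
    set f := w * y * w⁻¹ with hfdef
    have hfF : f ∈ F := ⟨y, hy, rfl⟩
    have hec : e ∈ centralizer ({f} : Set G) := by
      refine mem_centralizer_singleton_iff.2 ?_
      calc e * f = (e * f)⁻¹ := eq_inv_of_mul_eq_one_left hxx
        _ = f * e := by
          rw [mul_inv_rev, inv_eq_of_mul_eq_one_right hff, inv_eq_of_mul_eq_one_right (hE.elem e he)]
    have hfo : orderOf f = 2 := orderOf_eq_prime (by rw [pow_two, hff]) fun e' => hfE (by show f ∈ E; rw [e']; exact one_mem E)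
    have h4 := hE.invol f (hCVt (f1 hfF)) hfE hfo
    have hle : V ≤ E ⊓ centralizer ({f} : Set G) := fun x hx => ⟨hx.1, mem_centralizer_singleton_iff.2
      (mem_centralizer_iff.1 (f1 hfF) x hx)⟩
    have heV : e ∈ V := (Subgroup.eq_of_le_of_card_ge hle (by rw [h4, hE.three u hut hu])).ge ⟨he, hec⟩
    exact mul_mem (f2 heV) hfF
  rcases le_or_le_of_subset_union hsub with h | h
  · exact hF2ne (Subgroup.eq_of_le_of_card_ge h (by rw [hE.card, hF2c]))
  · refine hFne ?_
    have heq : F2 = F := Subgroup.eq_of_le_of_card_ge h (by rw [hFc, hF2c])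
    have e : (E.map (MulAut.conj w).toMonoidHom).map (MulAut.conj w).toMonoidHom =
        E.map (MulAut.conj w).toMonoidHom := by
      rw [Subgroup.map_map]
      convert heq using 3
      ext x
      simp [mul_assoc]
    exact Subgroup.map_injective (MulAut.conj w).injective e

/-- Every involution of the four group has the same core. -/
theorem isE_of_four (ht : orderOf t = 2) (hE : IsE t E) (hut : u ∈ centralizer ({t} : Set G)) (hu : orderOf u = 3)
    {e : G} (he : e ∈ E ⊓ centralizer ({u} : Set G)) (he1 : e ≠ 1) : IsE e E := by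
  obtain ⟨w, v, hw, hvV, hv1, hvt, h1, h2, h3, hall⟩ := exists_rotate hF ht hE hut hu
  have hwE := rotate_mem_normalizer hF ht hE hut hu hw hvV h1 h2 h3 hall
  have hmap : ∀ g ∈ normalizer (E : Set G), E.map (MulAut.conj g).toMonoidHom = E := fun g hg => by
    refine Subgroup.eq_of_le_of_card_ge ?_ (le_of_eq (Subgroup.card_map_of_injective (MulAut.conj g).injective).symm)
    rintro _ ⟨y, hy, rfl⟩
    exact conj_mem_of_mem_normalizer hg hy
  have hv : IsE v E := by
    have := hE.map hF ht w
    rwa [h1, hmap w hwE] at this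
  have hvo : orderOf v = 2 := orderOf_eq_prime (by rw [pow_two, hE.elem v hvV.1]) hv1
  have htv : IsE (t * v) E := by
    have := hv.map hF hvo w
    rwa [h2, hmap w hwE] at this
  rcases hall e he with rfl | rfl | rfl | rfl
  · exact absurd rfl he1
  · exact hE
  · exact hv
  · exact htv

/-- Every involution of the core has the same core. -/
theorem IsE.of_mem (ht : orderOf t = 2) (hE : IsE t E) {e : G} (he : e ∈ E) (he1 : e ≠ 1) : IsE e E := by
  classical
  by_cases het : e = t
  · rw [het]; exact hE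
  haveI := Fact.mk (show Nat.Prime 7 by norm_num)
  haveI := Fact.mk Nat.prime_three
  haveI := Fintype.ofFinite G
  set C := centralizer ({t} : Set G) with hC
  have hCc : Nat.card C = 2688 := hF.cent_invol t ht
  have t2 : t * t = 1 := hE.elem t hE.mem
  set X : Finset G := Finset.univ.filter fun y =>
    y ∈ E ∧ y ≠ 1 ∧ y ≠ t ∧ ∃ u : G, u ∈ C ∧ orderOf u = 3 ∧ y * u = u * y with hX
  suffices hmem : e ∈ X by
    obtain ⟨-, u, hu⟩ : True ∧ ∃ u : G, u ∈ C ∧ orderOf u = 3 ∧ e * u = u * e :=
      ⟨trivial, (Finset.mem_filter.1 hmem).2.2.2.2⟩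
    exact isE_of_four hF ht hE hu.1 hu.2.1 ⟨he, mem_centralizer_singleton_iff.2 hu.2.2⟩ he1
  have hbig : (Finset.univ.filter fun y => y ∈ E ∧ y ≠ 1 ∧ y ≠ t).card = 14 := by
    have h1 : (Finset.univ.filter fun y => y ∈ E).card = 16 := by
      rw [← Fintype.card_subtype, ← Nat.card_eq_fintype_card]; exact hE.card
    have ht1 : t ≠ 1 := fun e => by rw [e, orderOf_one] at ht; omega
    have h2 : (Finset.univ.filter fun y => y ∈ E ∧ y ≠ 1 ∧ y ≠ t) =
        ((Finset.univ.filter fun y => y ∈ E).erase 1).erase t := by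
      ext y
      simp only [Finset.mem_filter, Finset.mem_univ, true_and, Finset.mem_erase]
      tauto
    rw [h2, Finset.card_erase_of_mem (Finset.mem_erase.2 ⟨ht1, Finset.mem_filter.2 ⟨Finset.mem_univ _, hE.mem⟩⟩),
      Finset.card_erase_of_mem (Finset.mem_filter.2 ⟨Finset.mem_univ _, one_mem E⟩), h1]
  have hsub : X ⊆ Finset.univ.filter fun y => y ∈ E ∧ y ≠ 1 ∧ y ≠ t := fun y hy => by
    obtain ⟨-, h1, h2, h3, -⟩ := Finset.mem_filter.1 hy
    exact Finset.mem_filter.2 ⟨Finset.mem_univ _, h1, h2, h3⟩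
  have hne : X.Nonempty := by
    obtain ⟨u, hu⟩ := exists_prime_orderOf_dvd_card' (G := C) 3 (by rw [hCc]; norm_num)
    have hu' : orderOf (u : G) = 3 := by rw [Subgroup.orderOf_coe, hu]
    obtain ⟨w, v, -, hvV, hv1, hvt, -⟩ := exists_rotate hF ht hE u.2 hu'
    exact ⟨v, Finset.mem_filter.2 ⟨Finset.mem_univ _, hvV.1, hv1, hvt, u, u.2, hu',
      mem_centralizer_singleton_iff.1 hvV.2⟩⟩
  -- closed under the involution
  have heven : Even X.card := by
    suffices (X.card : ZMod 2) = 0 from (ZMod.natCast_eq_zero_iff_even).1 this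
    rw [Finset.card_eq_sum_ones, Nat.cast_sum]
    refine Finset.sum_involution (fun y _ => t * y) (fun y _ => by decide) (fun y hy _ hy' => ?_)
      (fun y hy => ?_) (fun y _ => by rw [← mul_assoc, t2, one_mul])
    · have h1 : t = 1 := mul_right_cancel (hy'.trans (one_mul y).symm)
      rw [h1, orderOf_one] at ht
      omega
    · obtain ⟨-, h1, h2, h3, u, h4, h5, h6⟩ := Finset.mem_filter.1 hy
      refine Finset.mem_filter.2 ⟨Finset.mem_univ _, mul_mem hE.mem h1, fun e' => h3 ?_, fun e' => h2 ?_,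
        u, h4, h5, ?_⟩
      · calc y = t * (t * y) := by rw [← mul_assoc, t2, one_mul]
          _ = t := by rw [e', mul_one]
      · exact mul_left_cancel (e'.trans (mul_one t).symm)
      · rw [mul_assoc, h6, ← mul_assoc, ← mem_centralizer_singleton_iff.1 h4, mul_assoc]
  obtain ⟨x, hx⟩ := exists_prime_orderOf_dvd_card' (G := C) 7 (by rw [hCc]; norm_num)
  have hx' : orderOf (x : G) = 7 := by rw [Subgroup.orderOf_coe, hx]
  have hzC : zpowers (x : G) ≤ C := zpowers_le.2 x.2
  have h7 : 7 ∣ X.card := by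
    have hd := card_dvd_of_free (zpowers (x : G)) (↑X : Set G)
      (fun a ha d hd => by
        obtain ⟨-, h1, h2, h3, u, h4, h5, h6⟩ := Finset.mem_filter.1 (Finset.mem_coe.1 hd)
        refine Finset.mem_coe.2 (Finset.mem_filter.2 ⟨Finset.mem_univ _,
          conj_mem_of_mem_normalizer (hE.norm (hzC ha)) h1, fun e' => h2 (conj_eq_one_iff.1 e'), fun e' => h3 ?_,
          a * u * a⁻¹, mul_mem (mul_mem (hzC ha) h4) (inv_mem (hzC ha)), ?_, ?_⟩)
        · have hc : a * t = t * a := mem_centralizer_singleton_iff.1 (hzC ha)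
          calc d = a⁻¹ * (a * d * a⁻¹) * a := by group
            _ = t := by rw [e', mul_assoc, ← hc, inv_mul_cancel_left]
        · rw [show a * u * a⁻¹ = MulAut.conj a u from rfl, MulEquiv.orderOf_eq, h5]
        · calc a * d * a⁻¹ * (a * u * a⁻¹) = a * (d * u) * a⁻¹ := by group
            _ = a * (u * d) * a⁻¹ := by rw [h6]
            _ = a * u * a⁻¹ * (a * d * a⁻¹) := by group)
      (fun a ha ha1 d hd he' => by
        obtain ⟨-, h1, h2, h3, -⟩ := Finset.mem_filter.1 (Finset.mem_coe.1 hd)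
        have hao : orderOf a = 7 := by
          have := Subgroup.orderOf_dvd_natCard _ ha
          rw [Nat.card_zpowers, hx'] at this
          exact ((Nat.dvd_prime (by norm_num)).1 this).resolve_left fun e' => ha1 (orderOf_eq_one_iff.1 e')
        have hle : zpowers t ⊔ zpowers d ≤ E ⊓ centralizer ({a} : Set G) := sup_le
          (zpowers_le.2 ⟨hE.mem, mem_centralizer_singleton_iff.2 (mem_centralizer_singleton_iff.1 (hzC ha)).symm⟩)
          (zpowers_le.2 ⟨h1, mem_centralizer_singleton_iff.2 (mul_inv_eq_iff_eq_mul.1 he').symm⟩)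
        have hd1 := Subgroup.card_dvd_of_le (inf_le_left : E ⊓ centralizer ({a} : Set G) ≤ E)
        have hd2 := Subgroup.card_dvd_of_le (inf_le_right : E ⊓ centralizer ({a} : Set G) ≤ _)
        rw [hE.card] at hd1
        rw [hF.cent_seven a hao] at hd2
        have hd3 := Nat.le_of_dvd (by norm_num) (Nat.dvd_gcd hd1 hd2)
        rw [show Nat.gcd 16 14 = 2 from rfl] at hd3
        have hzt : zpowers t = zpowers t ⊔ zpowers d := Subgroup.eq_of_le_of_card_ge le_sup_left (by
          have := Subgroup.card_le_of_le hle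
          rw [Nat.card_zpowers, ht]
          omega)
        have hdt : d ∈ zpowers t := hzt ▸ mem_sup_right (mem_zpowers d)
        obtain ⟨k, hk⟩ := mem_zpowers_iff.1 hdt
        rcases Int.emod_two_eq_zero_or_one k with e' | e' <;>
          rw [← Int.emod_add_mul_ediv k 2, e', zpow_add, zpow_mul,
            show t ^ (2 : ℤ) = 1 by rw [show (2 : ℤ) = ((2 : ℕ) : ℤ) from rfl, zpow_natCast, pow_two, t2],
            one_zpow, mul_one] at hk
        · exact h2 (by rw [← hk]; simp)
        · exact h3 (by rw [← hk]; simp))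
    rwa [Nat.card_zpowers, hx', Set.ncard_coe_finset] at hd
  obtain ⟨a, ha⟩ := h7
  obtain ⟨b, hb⟩ := heven
  have hpos := hne.card_pos
  have hle := Finset.card_le_card hsub
  rw [hbig] at hle
  have heq := Finset.eq_of_subset_of_card_le hsub (by omega)
  exact heq.ge (Finset.mem_filter.2 ⟨Finset.mem_univ _, he, he1, het⟩)

theorem IsE.card_normalizer (ht : orderOf t = 2) (hE : IsE t E) :
    Nat.card (normalizer (E : Set G)) = 40320 := by
  have h := card_eq_orbit_mul (normalizer (E : Set G)) t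
  have himg : (fun g => g * t * g⁻¹) '' (normalizer (E : Set G) : Set G) = (E : Set G) \ {1} := by
    ext y
    constructor
    · rintro ⟨g, hg, rfl⟩
      refine ⟨conj_mem_of_mem_normalizer hg hE.mem, fun e => ?_⟩
      rw [Set.mem_singleton_iff, conj_eq_one_iff] at e
      rw [e, orderOf_one] at ht
      omega
    · rintro ⟨hy, hy1⟩
      rw [Set.mem_singleton_iff] at hy1
      have hyo : orderOf y = 2 := orderOf_eq_prime (by rw [pow_two, hE.elem y hy]) hy1
      obtain ⟨g, hg⟩ := isConj_iff.1 (hF.invol_conj t y ht hyo)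
      refine ⟨g, mem_normalizer_of_map_mem fun x hx => ?_, hg⟩
      have := (hE.of_mem hF ht hy hy1).eq_of hF hyo (F := E.map (MulAut.conj g).toMonoidHom)
      have h' := hE.map hF ht g
      rw [hg] at h'
      exact (this h'.card h'.mem h'.le h'.norm h'.elem).le ⟨x, hx, rfl⟩
  rw [himg, Set.ncard_sdiff_singleton_of_mem (show (1 : G) ∈ (E : Set G) from one_mem E),
    ← Nat.card_coe_set_eq, SetLike.coe_sort_coe, hE.card, inf_eq_right.2 hE.norm, hF.cent_invol t ht] at h
  exact h

/-- An involution lies in the core of only its own. -/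
theorem IsE.unique_of_mem (ht : orderOf t = 2) (hE : IsE t E) {t' : G} (ht' : orderOf t' = 2)
    {E' : Subgroup G} (hE' : IsE t' E') {y : G} (hy : y ∈ E) (hy' : y ∈ E') (hy1 : y ≠ 1) : E = E' := by
  have hyo : orderOf y = 2 := orderOf_eq_prime (by rw [pow_two, hE.elem y hy]) hy1
  have h := hE.of_mem hF ht hy hy1
  exact (hE'.of_mem hF ht' hy' hy1).eq_of hF hyo h.card h.mem h.le h.norm h.elem

end CfsgLib.Char.MTwentyThreeOrder
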