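import Cfsg.Agent.Lib.Char.MTwentyThreeOrder.Local.Blocks

/-!
# The normalizer of the core is transitive on the far conjugates
-/

set_option autoImplicit false
set_option linter.all false

open Subgroup MulAction
open CfsgLib.Char.MTwentyTwoOrder (card_modEq_fixed conj_mem_of_mem_normalizer mem_normalizer_of_map_mem)

namespace CfsgLib.Char.MTwentyThreeOrder

universe u

variable {G : Type u} [Group G] [Finite G] {E : Subgroup G}

theorem mem_sup_left_normalizing {A B : Subgroup G} (h : B ≤ normalizer (A : Set G)) {x : G} :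
    x ∈ A ⊔ B ↔ ∃ a ∈ A, ∃ b ∈ B, a * b = x := by
  rw [← SetLike.mem_coe, Subgroup.coe_mul_of_right_le_normalizer_left A B h]
  exact Set.mem_mul

theorem eq_of_mul_eq_mul {A B : Subgroup G} (hd : A ⊓ B = ⊥) {a a' b b' : G} (ha : a ∈ A) (ha' : a' ∈ A)
    (hb : b ∈ B) (hb' : b' ∈ B) (h : a * b = a' * b') : a = a' ∧ b = b' := by
  have h1 : a'⁻¹ * a = b' * b⁻¹ := by
    calc a'⁻¹ * a = a'⁻¹ * (a * b) * b⁻¹ := by group
      _ = b' * b⁻¹ := by rw [h]; group
  have h2 : a'⁻¹ * a ∈ A ⊓ B := Subgroup.mem_inf.2 ⟨mul_mem (inv_mem ha') ha, h1 ▸ mul_mem hb' (inv_mem hb)⟩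
  rw [hd, mem_bot, inv_mul_eq_one] at h2
  subst h2
  exact ⟨rfl, mul_left_cancel h⟩

theorem card_sup_of_disjoint {A B : Subgroup G} (h : B ≤ normalizer (A : Set G)) (hd : A ⊓ B = ⊥) :
    Nat.card ↥(A ⊔ B) = Nat.card A * Nat.card B := by
  rw [← Nat.card_prod]
  refine (Nat.card_congr (Equiv.ofBijective (fun p : A × B => (⟨p.1 * p.2,
    mul_mem (mem_sup_left p.1.2) (mem_sup_right p.2.2)⟩ : ↥(A ⊔ B))) ⟨fun p q hpq => ?_, fun x => ?_⟩)).symm
  · obtain ⟨h1, h2⟩ := eq_of_mul_eq_mul hd p.1.2 q.1.2 p.2.2 q.2.2 (congrArg Subtype.val hpq)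
    exact Prod.ext (Subtype.ext h1) (Subtype.ext h2)
  · obtain ⟨a, ha, b, hb, he⟩ := (mem_sup_left_normalizing h).1 x.2
    exact ⟨(⟨a, ha⟩, ⟨b, hb⟩), Subtype.ext he⟩

variable (hF : Facts G)
include hF

variable {t : G}

/-- The stabilizer of a far conjugate in the normalizer meets the core trivially. -/
theorem Far.disjoint (ht : orderOf t = 2) (hE : IsE t E) {x : Blk E} (hx : Far E x) :
    E ⊓ (normalizer (E : Set G) ⊓ stabilizer G x) = ⊥ :=
  eq_bot_iff.2 fun e he => mem_bot.2 (hx.stab_core hF ht hE he.1 (mem_stabilizer_iff.1 he.2.2))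

/-- The orbit of a far conjugate has length 16 or 112. -/
theorem Far.stab_cases (ht : orderOf t = 2) (hE : IsE t E) {x : Blk E} (hx : Far E x) :
    Nat.card ↥(normalizer (E : Set G) ⊓ stabilizer G x) = 360 ∨
      Nat.card ↥(normalizer (E : Set G) ⊓ stabilizer G x) = 2520 := by
  classical
  set H := normalizer (E : Set G) with hH
  set P := H ⊓ stabilizer G x with hP
  set Q := E ⊔ P with hQ
  have hHc : Nat.card H = 40320 := hE.card_normalizer hF ht
  have hQc : Nat.card Q = 16 * Nat.card P := by
    rw [hQ, card_sup_of_disjoint inf_le_left (hx.disjoint hF ht hE), hE.card]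
  have hQH : Q ≤ H := sup_le le_normalizer inf_le_left
  have horb := orbit_mul_stab H x
  rw [← hP, hHc] at horb
  have hsub : (MulAction.orbit H x).ncard ≤ 112 := by
    rw [← card_far hF ht hE, ← Set.coe_setOf (fun x => Far E x), Nat.card_coe_set_eq]
    refine Set.ncard_le_ncard ?_
    rintro _ ⟨h, rfl⟩
    exact hx.smul h.2
  -- the index of the join
  set k := (Q.subgroupOf H).index with hk
  have hkmul : 16 * Nat.card P * k = 40320 := by
    have h := (Q.subgroupOf H).card_mul_index
    rw [Nat.card_congr (subgroupOfEquivOfLe hQH).toEquiv, hQc, hHc] at h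
    exact h
  have hk7 : k ≤ 7 := by
    by_contra hc
    have h1 : 16 * Nat.card P * k = (MulAction.orbit H x).ncard * Nat.card P := hkmul.trans horb.symm
    have h2 : 16 * k = (MulAction.orbit H x).ncard := Nat.eq_of_mul_eq_mul_right Nat.card_pos (by rw [← h1]; ring)
    omega
  -- the core of the join
  set N := ((Q.subgroupOf H).normalCore).map H.subtype with hN
  have hNle : N ≤ Q := by
    rintro _ ⟨y, hy, rfl⟩
    exact mem_subgroupOf.1 (normalCore_le _ hy)
  have hEN : E ≤ N := by
    intro e he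
    have hle : E.subgroupOf H ≤ (Q.subgroupOf H).normalCore := by
      haveI : (E.subgroupOf H).Normal := Subgroup.normal_in_normalizer
      exact Subgroup.normal_le_normalCore.2 fun y hy => mem_subgroupOf.2 (mem_sup_left (mem_subgroupOf.1 hy))
    exact ⟨⟨e, le_normalizer he⟩, hle (mem_subgroupOf.2 he), rfl⟩
  have hNn : H ≤ normalizer (N : Set G) := fun g hg => mem_normalizer_of_map_mem (by
    rintro _ ⟨y, hy, rfl⟩
    exact ⟨_, (Subgroup.normalCore_normal _).conj_mem y hy ⟨g, hg⟩, rfl⟩)
  rcases hE.normal_cases hF ht hEN (hNle.trans hQH) hNn with e | e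
  · left
    -- a faithful action on the cosets of the join
    have hcore : Nat.card ↥((Q.subgroupOf H).normalCore) = 16 := by
      rw [← Subgroup.card_map_of_injective H.subtype_injective, ← hN, e, hE.card]
    have hker := Subgroup.normalCore_eq_ker (Q.subgroupOf H)
    have h1 := (MulAction.toPermHom H (H ⧸ Q.subgroupOf H)).ker.card_mul_index
    rw [← hker, hcore, hHc, hker, Subgroup.index_ker] at h1
    have h2 := Subgroup.card_subgroup_dvd_card (MulAction.toPermHom H (H ⧸ Q.subgroupOf H)).range
    rw [Nat.card_perm, ← Subgroup.index_eq_card, ← hk] at h2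
    rw [show Nat.card (MulAction.toPermHom H (H ⧸ Q.subgroupOf H)).range = 2520 by omega] at h2
    interval_cases k <;> simp [Nat.factorial] at h2
    omega
  · right
    have := Subgroup.card_le_of_le hNle
    rw [e, hHc, hQc] at this
    have := Subgroup.card_le_of_le hQH
    rw [hQc, hHc] at this
    omega

/-- An involution of the normalizer outside the core does not fix a complement in every orbit. -/
theorem exists_far_small (ht : orderOf t = 2) (hE : IsE t E) :
    ∃ x : Blk E, Far E x ∧ Nat.card ↥(normalizer (E : Set G) ⊓ stabilizer G x) = 360 := by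
  classical
  by_contra hno
  push Not at hno
  haveI := Fintype.ofFinite G
  haveI := Fintype.ofFinite (Blk E)
  set H := normalizer (E : Set G) with hH
  set S := Finset.univ.filter fun s => orderOf s = 2 ∧ s ∈ H ∧ s ∉ E with hS
  set FF := Finset.univ.filter fun x : Blk E => Far E x with hFF
  have hSc : S.card = 420 := by
    have h := hE.card_outside hF ht
    rwa [Nat.card_eq_fintype_card, Fintype.card_subtype] at h
  have hFc : FF.card = 112 := by
    have h := card_far hF ht hE
    rwa [Nat.card_eq_fintype_card, Fintype.card_subtype] at h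
  -- each far conjugate is fixed by 105 of these involutions
  have hrow : ∀ x ∈ FF, (S.filter fun s => s • x = x).card = 105 := by
    intro x hx
    have hxf := (Finset.mem_filter.1 hx).2
    set P := H ⊓ stabilizer G x with hP
    have hP1 : Nat.card P = 2520 := ((hxf.stab_cases hF ht hE).resolve_left (hno x hxf))
    have hd := hxf.disjoint hF ht hE
    have hsup : E ⊔ P = H := Subgroup.eq_of_le_of_card_ge (sup_le le_normalizer inf_le_left) (by
      rw [card_sup_of_disjoint inf_le_left hd, hE.card, hP1, hE.card_normalizer hF ht])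
    set T := S.filter fun s => s • x = x with hT
    have hT1 : ∀ {p : G}, p ∈ T ↔ orderOf p = 2 ∧ p ∈ P := by
      intro p
      simp only [hT, hS, Finset.mem_filter, Finset.mem_univ, true_and, hP, Subgroup.mem_inf, mem_stabilizer_iff]
      refine ⟨fun h => ⟨h.1.1, h.1.2.1, h.2⟩, fun h => ⟨⟨h.1, h.2.1, fun hpE => ?_⟩, h.2.2⟩⟩
      have := hxf.stab_core hF ht hE hpE h.2.2
      rw [this, orderOf_one] at h
      omega
    -- decompose every involution
    have hfib : (T.sigma fun p => Finset.univ.filter fun e => e ∈ E ⊓ centralizer ({p} : Set G)).card = S.card := by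
      refine Finset.card_bij (fun a _ => a.2 * a.1) ?_ ?_ ?_
      · rintro ⟨p, e⟩ ha
        obtain ⟨hp, he⟩ := Finset.mem_sigma.1 ha
        obtain ⟨hp1, hp2⟩ := hT1.1 hp
        have he' := (Finset.mem_filter.1 he).2
        have p2 : p * p = 1 := by rw [← pow_two, ← hp1, pow_orderOf_eq_one]
        refine Finset.mem_filter.2 ⟨Finset.mem_univ _, orderOf_eq_prime ?_ ?_, ?_, ?_⟩
        · show (e * p) ^ 2 = 1
          calc (e * p) ^ 2 = e * (p * e) * p := by rw [pow_two]; group
            _ = e * (e * p) * p := by rw [← mem_centralizer_singleton_iff.1 he'.2]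
            _ = (e * e) * (p * p) := by group
            _ = 1 := by rw [hE.elem e he'.1, p2, one_mul]
        · intro h1
          have h2 : p = 1 := (eq_of_mul_eq_mul hd he'.1 (one_mem E) hp2 (one_mem P) (h1.trans (one_mul 1).symm)).2
          rw [h2, orderOf_one] at hp1
          omega
        · exact mul_mem (le_normalizer he'.1) hp2.1
        · intro h1
          have heE : e ∈ E := he'.1
          have hpE : p ∈ E := by
            have := mul_mem (inv_mem heE) (show e * p ∈ E from h1)
            rwa [inv_mul_cancel_left] at this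
          have h2 : p = 1 := mem_bot.1 (hd ▸ ⟨hpE, hp2⟩ : p ∈ (⊥ : Subgroup G))
          rw [h2, orderOf_one] at hp1
          omega
      · rintro ⟨p, e⟩ ha ⟨p', e'⟩ ha' h
        obtain ⟨hp, he⟩ := Finset.mem_sigma.1 ha
        obtain ⟨hp', he'⟩ := Finset.mem_sigma.1 ha'
        obtain ⟨rfl, rfl⟩ := eq_of_mul_eq_mul hd (Finset.mem_filter.1 he).2.1 (Finset.mem_filter.1 he').2.1
          (hT1.1 hp).2 (hT1.1 hp').2 h
        rfl
      · intro s hs
        obtain ⟨-, hso, hsH, hsE⟩ := Finset.mem_filter.1 hs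
        obtain ⟨e, he, p, hp, rfl⟩ := (mem_sup_left_normalizing (inf_le_left : P ≤ H)).1 (hsup.ge hsH)
        have h1 : e * p * (e * p) = 1 := by rw [← pow_two, ← hso, pow_orderOf_eq_one]
        have hpp : p * p ∈ E ⊓ P := by
          refine Subgroup.mem_inf.2 ⟨?_, mul_mem hp hp⟩
          have hc : p * e * p⁻¹ ∈ E := conj_mem_of_mem_normalizer hp.1 he
          have e2 : p * p = (p * e * p⁻¹)⁻¹ * e⁻¹ := by
            calc p * p = (p * e * p⁻¹)⁻¹ * e⁻¹ * (e * p * (e * p)) := by group
              _ = _ := by rw [h1, mul_one]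
          rw [e2]
          exact mul_mem (inv_mem hc) (inv_mem he)
        rw [hd, mem_bot] at hpp
        have hpe : e * p = p * e := by
          calc e * p = (e * p)⁻¹ := eq_inv_of_mul_eq_one_left h1
            _ = p * e := by
              rw [mul_inv_rev, inv_eq_of_mul_eq_one_right hpp, inv_eq_of_mul_eq_one_right (hE.elem e he)]
        refine ⟨⟨p, e⟩, Finset.mem_sigma.2 ⟨hT1.2 ⟨orderOf_eq_prime (by rw [pow_two, hpp]) fun e' => ?_, hp⟩,
          Finset.mem_filter.2 ⟨Finset.mem_univ _, he, mem_centralizer_singleton_iff.2 hpe⟩⟩, rfl⟩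
        exact hsE (by rw [show p = 1 from e', mul_one]; exact he)
    rw [Finset.card_sigma, Finset.sum_congr rfl (g := fun _ => 4) ?_, Finset.sum_const, smul_eq_mul, hSc] at hfib
    · omega
    intro p hp
    obtain ⟨hp1, hp2⟩ := hT1.1 hp
    have hpE : p ∉ E := fun h => by
      have h2 : p = 1 := mem_bot.1 (hd ▸ ⟨h, hp2⟩ : p ∈ (⊥ : Subgroup G))
      rw [h2, orderOf_one] at hp1
      omega
    rw [← Fintype.card_subtype, ← Nat.card_eq_fintype_card]
    exact hE.card_fixed hF ht hp1 hp2.1 hpE
  -- so each involution fixes 28 of them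
  have hdc := Finset.sum_card_bipartiteAbove_eq_sum_card_bipartiteBelow (r := fun (x : Blk E) (s : G) => s • x = x)
    (s := FF) (t := S)
  simp only [Finset.bipartiteAbove, Finset.bipartiteBelow] at hdc
  rw [Finset.sum_congr rfl hrow, Finset.sum_const, hFc, smul_eq_mul] at hdc
  have hle : ∀ s ∈ S, (FF.filter fun x => s • x = x).card ≤ 27 := by
    intro s hs
    obtain ⟨-, hso, hsH, hsE⟩ := Finset.mem_filter.1 hs
    have h29 := card_fixed_blk hF ht hE hso
    rw [Nat.card_eq_fintype_card, Fintype.card_subtype] at h29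
    obtain ⟨y, hy⟩ := exists_inCore hF ht hE hso
    have hy0 : y ≠ blk0 E := fun e => hsE (inCore_blk0.1 (e ▸ hy))
    have hs1 : s ≠ 1 := fun e => by rw [e, orderOf_one] at hso; omega
    have hyF : y ∉ FF := fun h => (Finset.mem_filter.1 h).2.2 ⟨hy0, s, hs1, hy, hsH⟩
    have hsub : insert (blk0 E) (insert y (FF.filter fun x => s • x = x)) ⊆
        Finset.univ.filter fun x : Blk E => s • x = x := by
      intro z hz
      simp only [Finset.mem_insert] at hz
      refine Finset.mem_filter.2 ⟨Finset.mem_univ _, ?_⟩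
      rcases hz with rfl | rfl | hz
      · exact smul_blk0_iff.2 hsH
      · exact hy.fix
      · exact (Finset.mem_filter.1 hz).2
    have := Finset.card_le_card hsub
    rw [Finset.card_insert_of_notMem ?_, Finset.card_insert_of_notMem ?_, h29] at this
    · omega
    · exact fun h => hyF (Finset.mem_filter.1 h).1
    · simp only [Finset.mem_insert, Finset.mem_filter, not_or]
      exact ⟨hy0.symm, fun h => (Finset.mem_filter.1 h.1).2.1 rfl⟩
  have := Finset.sum_le_sum hle
  rw [← hdc, Finset.sum_const, hSc, smul_eq_mul] at this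
  omega

/-- The normalizer is transitive on the far conjugates. -/
theorem far_transitive (ht : orderOf t = 2) (hE : IsE t E) {x y : Blk E} (hx : Far E x) (hy : Far E y) :
    ∃ h ∈ normalizer (E : Set G), h • x = y := by
  obtain ⟨z, hz, hzc⟩ := exists_far_small hF ht hE
  have horb := orbit_mul_stab (normalizer (E : Set G)) z
  rw [hzc, hE.card_normalizer hF ht] at horb
  have heq : MulAction.orbit (normalizer (E : Set G)) z = {w | Far E w} := by
    refine Set.eq_of_subset_of_ncard_le ?_ ?_
    · rintro _ ⟨h, rfl⟩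
      exact hz.smul h.2
    · have h112 := card_far hF ht hE
      change ({w | Far E w} : Set (Blk E)).ncard ≤ _
      rw [← Nat.card_coe_set_eq, Set.coe_setOf, h112]
      exact (Nat.eq_of_mul_eq_mul_right (show 0 < 360 by norm_num)
        (horb.trans (show 40320 = 112 * 360 by norm_num))).ge
  obtain ⟨a, rfl⟩ : x ∈ MulAction.orbit (normalizer (E : Set G)) z := by rw [heq]; exact hx
  obtain ⟨b, rfl⟩ : y ∈ MulAction.orbit (normalizer (E : Set G)) z := by rw [heq]; exact hy
  refine ⟨(b : G) * (a : G)⁻¹, mul_mem b.2 (inv_mem a.2), ?_⟩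
  show ((b : G) * (a : G)⁻¹) • ((a : G) • z) = (b : G) • z
  rw [mul_smul, inv_smul_smul]

theorem Far.card_stab (ht : orderOf t = 2) (hE : IsE t E) {x : Blk E} (hx : Far E x) :
    Nat.card ↥(normalizer (E : Set G) ⊓ stabilizer G x) = 360 := by
  obtain ⟨z, hz, hzc⟩ := exists_far_small hF ht hE
  obtain ⟨h, hh, rfl⟩ := far_transitive hF ht hE hz hx
  rw [← hzc]
  refine Nat.card_congr
    { toFun := fun a => ⟨h⁻¹ * a * h, Subgroup.mem_inf.2 ⟨mul_mem (mul_mem (inv_mem hh) a.2.1) hh, ?_⟩⟩
      invFun := fun a => ⟨h * a * h⁻¹, Subgroup.mem_inf.2 ⟨mul_mem (mul_mem hh a.2.1) (inv_mem hh), ?_⟩⟩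
      left_inv := fun a => Subtype.ext (by group)
      right_inv := fun a => Subtype.ext (by group) }
  · show (h⁻¹ * (a : G) * h) • z = z
    rw [mul_smul, mul_smul, mem_stabilizer_iff.1 a.2.2, inv_smul_smul]
  · show (h * (a : G) * h⁻¹) • (h • z) = h • z
    rw [mul_smul, mul_smul, inv_smul_smul, mem_stabilizer_iff.1 a.2.2]

end CfsgLib.Char.MTwentyThreeOrder
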