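import Cfsg.Agent.Lib.Char.MTwentyThreeOrder.Local.Simple

/-!
# Involutions outside the core and pairs of cores
-/

set_option autoImplicit false
set_option linter.all false

open Subgroup MulAction
open CfsgLib.Char.MTwentyTwoOrder (card_modEq_fixed conj_mem_of_mem_normalizer mem_normalizer_of_map_mem
  card_eq_orbit_mul conj_mem_map)

namespace CfsgLib.Char.MTwentyThreeOrder

universe u

variable {G : Type u} [Group G] [Finite G] (hF : Facts G)
include hF

variable {t : G} {E : Subgroup G}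

/-- An involution normalizing the core from outside centralizes an involution of it. -/
theorem IsE.exists_fixed (ht : orderOf t = 2) (hE : IsE t E) {s : G} (hs : orderOf s = 2)
    (hsH : s ∈ normalizer (E : Set G)) :
    ∃ e ∈ E, e ≠ 1 ∧ s ∈ centralizer ({e} : Set G) := by
  haveI := Fact.mk Nat.prime_two
  have h := card_modEq_fixed E hs hsH
  rw [hE.card] at h
  by_contra hno
  push Not at hno
  have hbot : E ⊓ centralizer ({s} : Set G) = ⊥ := eq_bot_iff.2 fun e he => mem_bot.2 (by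
    by_contra he1
    exact hno e he.1 he1 (mem_centralizer_singleton_iff.2 (mem_centralizer_singleton_iff.1 he.2).symm))
  rw [hbot, Subgroup.card_bot] at h
  exact absurd h (by decide)

/-- An involution of the normalizer outside the core fixes four elements of it. -/
theorem IsE.card_fixed (ht : orderOf t = 2) (hE : IsE t E) {s : G} (hs : orderOf s = 2)
    (hsH : s ∈ normalizer (E : Set G)) (hsE : s ∉ E) : Nat.card ↥(E ⊓ centralizer ({s} : Set G)) = 4 := by
  obtain ⟨e, he, he1, hse⟩ := hE.exists_fixed hF ht hs hsH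
  exact (hE.of_mem hF ht he he1).invol s hse hsE hs

/-- One class of involutions of the normalizer outside the core. -/
theorem IsE.conj_outside (ht : orderOf t = 2) (hE : IsE t E) {s r : G} (hs : orderOf s = 2) (hr : orderOf r = 2)
    (hsH : s ∈ normalizer (E : Set G)) (hrH : r ∈ normalizer (E : Set G)) (hsE : s ∉ E) (hrE : r ∉ E) :
    ∃ h ∈ normalizer (E : Set G), h * s * h⁻¹ = r := by
  classical
  -- move both into the centralizer of the involution
  have hmove : ∀ x : G, orderOf x = 2 → x ∈ normalizer (E : Set G) → x ∉ E →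
      ∃ g ∈ normalizer (E : Set G), g * x * g⁻¹ ∈ centralizer ({t} : Set G) ∧ g * x * g⁻¹ ∉ E ∧
        orderOf (g * x * g⁻¹) = 2 := by
    intro x hx hxH hxE
    obtain ⟨e, he, he1, hxe⟩ := hE.exists_fixed hF ht hx hxH
    obtain ⟨g, hg, hge⟩ := hE.exists_conj hF ht he he1
    refine ⟨g⁻¹, inv_mem hg, mem_centralizer_singleton_iff.2 ?_, fun h => hxE ?_, ?_⟩
    · calc g⁻¹ * x * g⁻¹⁻¹ * t = g⁻¹ * (x * (g * t * g⁻¹)) * g := by group
        _ = g⁻¹ * ((g * t * g⁻¹) * x) * g := by rw [hge, mem_centralizer_singleton_iff.1 hxe]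
        _ = t * (g⁻¹ * x * g⁻¹⁻¹) := by group
    · have := conj_mem_of_mem_normalizer hg h
      rwa [show g * (g⁻¹ * x * g⁻¹⁻¹) * g⁻¹ = x by group] at this
    · rw [show g⁻¹ * x * g⁻¹⁻¹ = MulAut.conj g⁻¹ x from rfl, MulEquiv.orderOf_eq, hx]
  obtain ⟨g, hg, hgC, hgE, hgo⟩ := hmove s hs hsH hsE
  obtain ⟨k, hk, hkC, hkE, hko⟩ := hmove r hr hrH hrE
  set s₁ := g * s * g⁻¹ with hs₁
  set r₁ := k * r * k⁻¹ with hr₁
  obtain ⟨c, hc, hcm⟩ := hE.conj_out s₁ r₁ hgC hkC hgE hkE hgo hko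
  set s₂ := c * s₁ * c⁻¹ with hs₂
  have hs₂o : orderOf s₂ = 2 := by rw [hs₂, show c * s₁ * c⁻¹ = MulAut.conj c s₁ from rfl, MulEquiv.orderOf_eq, hgo]
  have r2 : r₁ * r₁ = 1 := by rw [← pow_two, ← hko, pow_orderOf_eq_one]
  have s2 : s₂ * s₂ = 1 := by rw [← pow_two, ← hs₂o, pow_orderOf_eq_one]
  have hrN : r₁ ∈ normalizer (E : Set G) := hE.norm hkC
  set f := r₁ * s₂ with hf
  have hfE : f ∈ E := by
    have := conj_mem_of_mem_normalizer hrN hcm
    rwa [show r₁ * (s₂ * r₁) * r₁⁻¹ = f by rw [hf]; group] at this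
  -- the commutators fill the fixed group
  have hcomm : ∀ a ∈ E, ∀ b ∈ E, a * b = b * a := fun a ha b hb => mem_centralizer_iff.1 (hE.cent.ge hb) a ha
  let φ : E →* E := MonoidHom.mk' (fun e => ⟨r₁ * e * r₁⁻¹ * e, mul_mem (conj_mem_of_mem_normalizer hrN e.2) e.2⟩)
    fun a b => Subtype.ext (by
      show r₁ * ((a : G) * b) * r₁⁻¹ * ((a : G) * b) = r₁ * a * r₁⁻¹ * a * (r₁ * b * r₁⁻¹ * b)
      have h1 := hcomm (r₁ * b * r₁⁻¹) (conj_mem_of_mem_normalizer hrN b.2) a a.2
      calc r₁ * ((a : G) * b) * r₁⁻¹ * ((a : G) * b) = r₁ * a * r₁⁻¹ * ((r₁ * b * r₁⁻¹) * a) * b := by group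
        _ = r₁ * a * r₁⁻¹ * (a * (r₁ * b * r₁⁻¹)) * b := by rw [h1]
        _ = _ := by group)
  set W := (E ⊓ centralizer ({r₁} : Set G)).subgroupOf E with hW
  have hWc : Nat.card W = 4 := by
    rw [hW, Nat.card_congr (subgroupOfEquivOfLe inf_le_left).toEquiv]
    exact hE.invol r₁ hkC hkE hko
  have hker : φ.ker = W := by
    ext e
    rw [MonoidHom.mem_ker, hW, mem_subgroupOf, Subtype.ext_iff]
    show r₁ * (e : G) * r₁⁻¹ * e = 1 ↔ _
    constructor
    · intro h
      refine ⟨e.2, mem_centralizer_singleton_iff.2 ?_⟩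
      have h1 : r₁ * (e : G) * r₁⁻¹ = e := by
        rw [eq_inv_of_mul_eq_one_left h]
        exact inv_eq_of_mul_eq_one_right (hE.elem e e.2)
      exact (mul_inv_eq_iff_eq_mul.1 h1).symm
    · intro h
      rw [← mem_centralizer_singleton_iff.1 h.2, mul_inv_cancel_right, hE.elem e e.2]
  have hrange : φ.range ≤ W := by
    rintro _ ⟨e, rfl⟩
    rw [hW, mem_subgroupOf]
    refine ⟨(φ e).2, mem_centralizer_singleton_iff.2 ?_⟩
    show r₁ * (e : G) * r₁⁻¹ * e * r₁ = r₁ * (r₁ * (e : G) * r₁⁻¹ * e)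
    have h1 := hcomm (r₁ * e * r₁⁻¹) (conj_mem_of_mem_normalizer hrN e.2) e e.2
    rw [inv_eq_of_mul_eq_one_right r2] at h1 ⊢
    calc r₁ * (e : G) * r₁ * e * r₁ = (e : G) * (r₁ * e * r₁) * r₁ := by rw [h1]
      _ = e * r₁ * e * (r₁ * r₁) := by group
      _ = (r₁ * r₁) * (e * r₁ * e) := by rw [r2, mul_one, one_mul]
      _ = r₁ * (r₁ * e * r₁ * e) := by group
  have hr4 : Nat.card φ.range = 4 := by
    have h1 := φ.ker.card_mul_index
    rw [Subgroup.index_ker, hker, hWc, hE.card] at h1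
    omega
  have hfW : (⟨f, hfE⟩ : E) ∈ W := by
    rw [hW, mem_subgroupOf]
    refine ⟨hfE, mem_centralizer_singleton_iff.2 ?_⟩
    show r₁ * s₂ * r₁ = r₁ * (r₁ * s₂)
    have h1 : r₁ * s₂ * (r₁ * s₂) = 1 := hE.elem f hfE
    calc r₁ * s₂ * r₁ = (r₁ * s₂ * (r₁ * s₂)) * s₂⁻¹ := by group
      _ = s₂ := by rw [h1, one_mul, inv_eq_of_mul_eq_one_right s2]
      _ = r₁ * (r₁ * s₂) := by rw [← mul_assoc, r2, one_mul]
  obtain ⟨e, he⟩ := (Subgroup.eq_of_le_of_card_ge hrange (by rw [hr4, hWc])).ge hfW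
  have he' : r₁ * (e : G) * r₁⁻¹ * e = f := congrArg Subtype.val he
  have hes : (e : G) * r₁ * (e : G)⁻¹ = s₂ := by
    rw [inv_eq_of_mul_eq_one_right (hE.elem e e.2)]
    refine mul_left_cancel (a := r₁) ?_
    rw [← hf, ← he', inv_eq_of_mul_eq_one_right r2]
    group
  refine ⟨k⁻¹ * (e : G)⁻¹ * c * g, mul_mem (mul_mem (mul_mem (inv_mem hk)
    (inv_mem (le_normalizer e.2))) (hE.norm hc)) hg, ?_⟩
  calc k⁻¹ * (e : G)⁻¹ * c * g * s * (k⁻¹ * (e : G)⁻¹ * c * g)⁻¹
      = k⁻¹ * ((e : G)⁻¹ * s₂ * e) * k := by rw [hs₂, hs₁]; group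
    _ = k⁻¹ * r₁ * k := by rw [← hes]; group
    _ = r := by rw [hr₁]; group

/-- The part of another core normalizing this one. -/
theorem IsE.card_meet (ht : orderOf t = 2) (hE : IsE t E) {t' : G} (ht' : orderOf t' = 2) {F : Subgroup G}
    (hF' : IsE t' F) (hne : F ≠ E) (h : F ⊓ normalizer (E : Set G) ≠ ⊥) :
    Nat.card ↥(F ⊓ normalizer (E : Set G)) = 4 := by
  obtain ⟨s, hs, hs1⟩ := (Subgroup.bot_or_exists_ne_one _).resolve_left h
  have hso : orderOf s = 2 := orderOf_eq_prime (by rw [pow_two, hF'.elem s hs.1]) hs1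
  have hdisj : ∀ y, y ∈ E → y ∈ F → y = 1 := fun y hyE hyF => by
    by_contra hy1
    exact hne (hE.unique_of_mem hF ht ht' hF' hyE hyF hy1).symm
  obtain ⟨e, he, he1, hse⟩ := hE.exists_fixed hF ht hso hs.2
  have heo : orderOf e = 2 := orderOf_eq_prime (by rw [pow_two, hE.elem e he]) he1
  have hes : e ∈ centralizer ({s} : Set G) :=
    mem_centralizer_singleton_iff.2 (mem_centralizer_singleton_iff.1 hse).symm
  have hsF := hF'.of_mem hF ht' hs.1 hs1
  have heF : e ∈ normalizer (F : Set G) := hsF.norm hes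
  have h4 := hsF.invol e hes (fun h' => he1 (hdisj e he h')) heo
  have heq : F ⊓ normalizer (E : Set G) = F ⊓ centralizer ({e} : Set G) := by
    refine le_antisymm (fun y hy => ⟨hy.1, mem_centralizer_singleton_iff.2 ?_⟩)
      (le_inf inf_le_left (inf_le_right.trans (hE.of_mem hF ht he he1).norm))
    have h1 : y * e * y⁻¹ * e⁻¹ ∈ E := mul_mem (conj_mem_of_mem_normalizer hy.2 he) (inv_mem he)
    have h2 : y * e * y⁻¹ * e⁻¹ ∈ F := by
      rw [show y * e * y⁻¹ * e⁻¹ = y * (e * y⁻¹ * e⁻¹) by group]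
      exact mul_mem hy.1 (conj_mem_of_mem_normalizer heF (inv_mem hy.1))
    have h3 := hdisj _ h1 h2
    exact mul_inv_eq_iff_eq_mul.1 (mul_inv_eq_one.1 h3)
  rw [heq, h4]

/-- The relation between two cores is symmetric. -/
theorem IsE.meet_ne_bot (ht : orderOf t = 2) (hE : IsE t E) {t' : G} (ht' : orderOf t' = 2) {F : Subgroup G}
    (hF' : IsE t' F) (hne : F ≠ E) (h : F ⊓ normalizer (E : Set G) ≠ ⊥) :
    E ⊓ normalizer (F : Set G) ≠ ⊥ := by
  obtain ⟨s, hs, hs1⟩ := (Subgroup.bot_or_exists_ne_one _).resolve_left h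
  have hso : orderOf s = 2 := orderOf_eq_prime (by rw [pow_two, hF'.elem s hs.1]) hs1
  obtain ⟨e, he, he1, hse⟩ := hE.exists_fixed hF ht hso hs.2
  intro hbot
  refine he1 (mem_bot.1 (hbot ▸ (⟨he, (hF'.of_mem hF ht' hs.1 hs1).norm
    (mem_centralizer_singleton_iff.2 (mem_centralizer_singleton_iff.1 hse).symm)⟩ :
      e ∈ E ⊓ normalizer (F : Set G))))

/-- The number of involutions of the normalizer outside the core. -/
theorem IsE.card_outside (ht : orderOf t = 2) (hE : IsE t E) :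
    Nat.card {s : G // orderOf s = 2 ∧ s ∈ normalizer (E : Set G) ∧ s ∉ E} = 420 := by
  classical
  haveI := Fintype.ofFinite G
  set A : Finset G := Finset.univ.filter fun e => e ∈ E ∧ e ≠ 1 with hA
  set S : Finset G := Finset.univ.filter fun s => orderOf s = 2 ∧ s ∈ normalizer (E : Set G) ∧ s ∉ E with hS
  have hEcard : (Finset.univ.filter fun y => y ∈ E).card = 16 := by
    rw [← Fintype.card_subtype, ← Nat.card_eq_fintype_card]; exact hE.card
  have hAc : A.card = 15 := by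
    rw [hA, show (Finset.univ.filter fun e => e ∈ E ∧ e ≠ 1) = (Finset.univ.filter fun e => e ∈ E).erase 1 from by
      ext y; simp [and_comm], Finset.card_erase_of_mem (Finset.mem_filter.2 ⟨Finset.mem_univ _, one_mem E⟩), hEcard]
  have hrow : ∀ e ∈ A, (S.filter fun s => s * e = e * s).card = 84 := by
    intro e he
    obtain ⟨-, heE, he1⟩ := Finset.mem_filter.1 he
    have hee := hE.of_mem hF ht heE he1
    have heo : orderOf e = 2 := orderOf_eq_prime (by rw [pow_two, hE.elem e heE]) he1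
    have h99 := hF.invol_in_cent e heo
    rw [Nat.card_eq_fintype_card, Fintype.card_subtype] at h99
    have hsplit : (Finset.univ.filter fun s => orderOf s = 2 ∧ s * e = e * s) = A ∪ S.filter fun s => s * e = e * s := by
      ext s
      simp only [hA, hS, Finset.mem_union, Finset.mem_filter, Finset.mem_univ, true_and]
      constructor
      · rintro ⟨h1, h2⟩
        by_cases hsE : s ∈ E
        · refine Or.inl ⟨hsE, fun e' => ?_⟩
          rw [e', orderOf_one] at h1
          omega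
        · exact Or.inr ⟨⟨h1, hee.norm (mem_centralizer_singleton_iff.2 h2), hsE⟩, h2⟩
      · rintro (⟨h1, h2⟩ | ⟨⟨h1, -, -⟩, h2⟩)
        · exact ⟨orderOf_eq_prime (by rw [pow_two, hE.elem s h1]) h2,
            (mem_centralizer_iff.1 (hE.cent.ge heE) s h1)⟩
        · exact ⟨h1, h2⟩
    rw [hsplit, Finset.card_union_of_disjoint (Finset.disjoint_left.2 fun s h1 h2 =>
      (Finset.mem_filter.1 (Finset.mem_filter.1 h2).1).2.2.2 (Finset.mem_filter.1 h1).2.1), hAc] at h99
    omega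
  have hcol : ∀ s ∈ S, (A.filter fun e => s * e = e * s).card = 3 := by
    intro s hs
    obtain ⟨-, hso, hsH, hsE⟩ := Finset.mem_filter.1 hs
    have h4 := hE.card_fixed hF ht hso hsH hsE
    rw [Nat.card_eq_fintype_card, Fintype.card_subtype] at h4
    rw [show (A.filter fun e => s * e = e * s) =
      (Finset.univ.filter fun y => y ∈ E ⊓ centralizer ({s} : Set G)).erase 1 from by
        ext y
        simp only [hA, Finset.mem_filter, Finset.mem_univ, true_and, Finset.mem_erase, Subgroup.mem_inf,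
          mem_centralizer_singleton_iff]
        exact ⟨fun h => ⟨h.1.2, h.1.1, h.2.symm⟩, fun h => ⟨⟨h.2.1, h.1⟩, h.2.2.symm⟩⟩,
      Finset.card_erase_of_mem (Finset.mem_filter.2 ⟨Finset.mem_univ _, one_mem _⟩), h4]
  have hdc := Finset.sum_card_bipartiteAbove_eq_sum_card_bipartiteBelow (r := fun e s : G => s * e = e * s)
    (s := A) (t := S)
  simp only [Finset.bipartiteAbove, Finset.bipartiteBelow] at hdc
  rw [Finset.sum_congr rfl hrow, Finset.sum_congr rfl hcol, Finset.sum_const, Finset.sum_const, hAc,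
    smul_eq_mul, smul_eq_mul] at hdc
  rw [Nat.card_eq_fintype_card, Fintype.card_subtype, ← hS]
  omega

end CfsgLib.Char.MTwentyThreeOrder
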