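import Cfsg.Agent.Lib.Char.MTwentyThreeOrder.Local.Items

/-!
# The orbits of odd length of the stabilizer of two conjugates
-/

set_option autoImplicit false
set_option linter.all false

open Subgroup MulAction Equiv
open CfsgLib.Char.MTwentyTwoOrder (card_modEq_fixed conj_mem_of_mem_normalizer mem_normalizer_of_map_mem)

namespace CfsgLib.Char.MTwentyThreeOrder

universe u

variable {G : Type u} [Group G] [Finite G]

/-- The stabilizer of two conjugates. -/
def pairStab (E : Subgroup G) (x₀ : Blk E) : Subgroup G := normalizer (E : Set G) ⊓ stabilizer G x₀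

/-- The conjugates lying in orbits of odd length. -/
def OddBlk (E : Subgroup G) (x₀ x : Blk E) : Prop := Odd (MulAction.orbit (pairStab E x₀) x).ncard

variable {E : Subgroup G} {x₀ : Blk E}

variable (hF : Facts G)
include hF

variable {t : G} (ht : orderOf t = 2) (hE : IsE t E) (hx₀ : Far E x₀)
include ht hE hx₀

theorem pair_orbit_mul (x : Blk E) :
    (MulAction.orbit (pairStab E x₀) x).ncard * Nat.card ↥(pairStab E x₀ ⊓ stabilizer G x) = 360 := by
  exact (orbit_mul_stab (pairStab E x₀) x).trans (hx₀.card_stab hF ht hE)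

theorem oddBlk_iff (x : Blk E) : OddBlk E x₀ x ↔ 8 ∣ Nat.card ↥(pairStab E x₀ ⊓ stabilizer G x) := by
  have h := pair_orbit_mul hF ht hE hx₀ x
  set a := (MulAction.orbit (pairStab E x₀) x).ncard with ha
  set b := Nat.card ↥(pairStab E x₀ ⊓ stabilizer G x)
  rw [OddBlk, ← ha, Nat.odd_iff]
  constructor
  · intro ho
    have h8 : 8 ∣ a * b := ⟨45, h⟩
    exact (((Nat.Prime.coprime_iff_not_dvd Nat.prime_two).2 (by omega)).pow_left 3).dvd_of_dvd_mul_left h8
  · rintro ⟨c, hc⟩
    rw [hc] at h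
    by_contra hne
    have h2 : a % 2 = 0 := by omega
    have h3 : 2 ∣ a * c := Dvd.dvd.mul_right (Nat.dvd_of_mod_eq_zero h2) c
    have h4 : 8 * (a * c) = 360 := by rw [← h]; ring
    omega

theorem oddBlk_blk0 : OddBlk E x₀ (blk0 E) := by
  have h := pair_orbit_mul hF ht hE hx₀ (blk0 E)
  rw [show pairStab E x₀ ⊓ stabilizer G (blk0 E) = pairStab E x₀ from
    inf_eq_left.2 fun y hy => mem_stabilizer_iff.2 (smul_blk0_iff.2 hy.1), pairStab,
    hx₀.card_stab hF ht hE] at h
  rw [OddBlk, pairStab, show (MulAction.orbit (normalizer (E : Set G) ⊓ stabilizer G x₀ : Subgroup G) (blk0 E)).ncard = 1 from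
    Nat.eq_of_mul_eq_mul_right (show 0 < 360 by norm_num) (h.trans (one_mul 360).symm)]
  exact odd_one

theorem oddBlk_core {e : G} (he : e ∈ E) : OddBlk E x₀ (e • x₀) := by
  rw [oddBlk_iff hF ht hE hx₀]
  by_cases he1 : e = 1
  · rw [he1, one_smul, pairStab, inf_assoc, inf_idem, hx₀.card_stab hF ht hE]
    norm_num
  set Q := itemStab E x₀ with hQ
  set C := centralizer ({e} : Set G) with hC
  have h384 := card_itemStab_inf_cent hF ht hE hx₀ he he1
  -- split off the core
  have hsplit : Q ⊓ C = E ⊔ (pairStab E x₀ ⊓ C) := by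
    refine le_antisymm ?_ (sup_le (le_inf le_sup_left (hE.of_mem hF ht he he1).le) (inf_le_inf_right C le_sup_right))
    intro q hq
    obtain ⟨a, ha, d, hd, rfl⟩ := (mem_itemStab_iff inf_le_left).1 hq.1
    have hdC : d ∈ C := by
      have := Subgroup.mul_mem C (Subgroup.inv_mem C ((hE.of_mem hF ht he he1).le ha)) hq.2
      rwa [inv_mul_cancel_left] at this
    exact Subgroup.mul_mem _ (mem_sup_left ha) (mem_sup_right ⟨hd, hdC⟩)
  have hd' : E ⊓ (pairStab E x₀ ⊓ C) = ⊥ :=
    le_bot_iff.1 ((inf_le_inf_left E inf_le_left).trans (hx₀.disjoint hF ht hE).le)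
  have h16 : 16 * Nat.card ↥(pairStab E x₀ ⊓ C) = 384 := by
    have h1 := card_sup_of_disjoint (A := E) (B := pairStab E x₀ ⊓ C) (inf_le_left.trans inf_le_left) hd'
    rw [hE.card] at h1
    rw [← h1, ← hsplit]
    exact h384
  have h24 : Nat.card ↥(pairStab E x₀ ⊓ C) = 24 := by omega
  have hle : pairStab E x₀ ⊓ C ≤ pairStab E x₀ ⊓ stabilizer G (e • x₀) := fun d hd => by
    refine ⟨hd.1, mem_stabilizer_iff.2 ?_⟩
    rw [smul_smul, mem_centralizer_singleton_iff.1 hd.2, mul_smul, mem_stabilizer_iff.1 hd.1.2]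
  exact (show 8 ∣ 24 by norm_num).trans (h24 ▸ Subgroup.card_dvd_of_le hle)

/-- The far conjugates outside the core orbit lie in orbits of even length. -/
theorem not_oddBlk_far {x : Blk E} (hx : Far E x) (hne : ∀ e ∈ E, e • x₀ ≠ x) : ¬ OddBlk E x₀ x := by
  classical
  haveI := Fintype.ofFinite (ItemSet E x₀)
  set H := normalizer (E : Set G) with hH
  set D := pairStab E x₀ with hD
  obtain ⟨h, hh, rfl⟩ := far_transitive hF ht hE hx₀ hx
  set j : ItemSet E x₀ := (⟨h, hh⟩ : H) • item0 E x₀ with hj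
  have hhQ : h ∉ itemStab E x₀ := fun hq => by
    obtain ⟨e, he, d, hd, rfl⟩ := (mem_itemStab_iff inf_le_left).1 hq
    exact hne e he (by rw [mul_smul, mem_stabilizer_iff.1 hd.2])
  have hj0 : j ≠ item0 E x₀ := fun e => hhQ ((itemPerm_item0 (E := E) (x₀ := x₀) ⟨h, hh⟩).1 e)
  -- the orbit of the item
  have hDH : D ≤ H := inf_le_left
  set T := D.subgroupOf H with hT
  have h7 : Fintype.card (ItemSet E x₀) = 7 := by rw [← Nat.card_eq_fintype_card, card_itemSet hF ht hE hx₀]
  have horb : MulAction.orbit T j = {i | i ≠ item0 E x₀} := by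
    ext i
    constructor
    · rintro ⟨d, rfl⟩ e
      refine hj0 ?_
      have hd0 : itemPerm E x₀ (d : H) (item0 E x₀) = item0 E x₀ :=
        (itemPerm_item0 (d : H)).2 (mem_sup_right (mem_subgroupOf.1 d.2))
      exact (itemPerm E x₀ (d : H)).injective (e.trans hd0.symm)
    · intro hi
      obtain ⟨d, hd, hde⟩ := exists_move hF ht hE hx₀ hj0 hi
      exact ⟨⟨d, mem_subgroupOf.2 ⟨d.2, mem_stabilizer_iff.2 hd⟩⟩, hde⟩
  have hsix : (stabilizer T j).index = 6 := by
    rw [MulAction.index_stabilizer, horb,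
      show {i : ItemSet E x₀ | i ≠ item0 E x₀} = Set.univ \ {item0 E x₀} from by ext; simp,
      Set.ncard_sdiff_singleton_of_mem (Set.mem_univ _), Set.ncard_univ, card_itemSet hF ht hE hx₀]
  have h60 : Nat.card (stabilizer T j) = 60 := by
    have h1 := (stabilizer T j).card_mul_index
    have hTc : Nat.card T = 360 :=
      (Nat.card_congr (subgroupOfEquivOfLe hDH).toEquiv).trans (hx₀.card_stab hF ht hE)
    rw [hsix, hTc] at h1
    exact Nat.eq_of_mul_eq_mul_right (show 0 < 6 by norm_num) (h1.trans (show 360 = 60 * 6 by norm_num))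
  have hdvd : Nat.card ↥(D ⊓ stabilizer G (h • x₀)) ∣ 60 := by
    set Tx := ((D ⊓ stabilizer G (h • x₀)).subgroupOf H).subgroupOf T
    have hc : Nat.card Tx = Nat.card ↥(D ⊓ stabilizer G (h • x₀)) := by
      rw [Nat.card_congr (subgroupOfEquivOfLe (show (D ⊓ stabilizer G (h • x₀)).subgroupOf H ≤ T from
        fun y hy => hy.1)).toEquiv, Nat.card_congr (subgroupOfEquivOfLe (inf_le_left.trans hDH)).toEquiv]
    rw [← hc, ← h60]
    refine Subgroup.card_dvd_of_le fun d hd => ?_
    obtain ⟨hd1, hd2⟩ := mem_subgroupOf.1 (mem_subgroupOf.1 hd)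
    show ((d : H) : H) • j = j
    rw [hj, smul_smul]
    have hq : (((⟨h, hh⟩ : H)⁻¹ * ((d : H) * ⟨h, hh⟩) : H) : G) ∈ itemStab E x₀ := by
      refine mem_sup_right ⟨SetLike.coe_mem _, mem_stabilizer_iff.2 ?_⟩
      show (h⁻¹ * ((((d : H)) : G) * h)) • x₀ = x₀
      rw [mul_smul, mul_smul, mem_stabilizer_iff.1 hd2, inv_smul_smul]
    have := (itemPerm_item0 (E := E) (x₀ := x₀) _).2 hq
    rw [itemPerm_apply, mul_smul, inv_smul_eq_iff] at this
    exact this
  rw [oddBlk_iff hF ht hE hx₀]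
  intro h8
  have := h8.trans hdvd
  norm_num at this

/-- The parity is constant on the orbits of the core among the near conjugates. -/
theorem oddBlk_near_smul {x : Blk E} (hx : Near E x) {e : G} (he : e ∈ E) (ho : OddBlk E x₀ x) :
    OddBlk E x₀ (e • x) := by
  classical
  haveI := Fintype.ofFinite (ItemSet E x₀)
  haveI := Fact.mk Nat.prime_three
  set H := normalizer (E : Set G) with hH
  set D := pairStab E x₀ with hD
  have hHc : Nat.card H = 40320 := hE.card_normalizer hF ht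
  set P := H ⊓ stabilizer G x with hP
  have hPc : Nat.card P = 288 := by
    have h1 := orbit_mul_stab H x
    rw [← hP, hHc] at h1
    have heq : MulAction.orbit H x = {w | Near E w} := by
      refine Set.Subset.antisymm ?_ fun w hw => ?_
      · rintro _ ⟨h, rfl⟩
        exact hx.smul h.2
      · obtain ⟨h, hh, rfl⟩ := near_transitive hF ht hE hx hw
        exact ⟨⟨h, hh⟩, rfl⟩
    have h140 : (MulAction.orbit H x).ncard = 140 := by
      rw [heq, ← Nat.card_coe_set_eq, Set.coe_setOf, card_near hF ht hE]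
    have h140' : 140 * Nat.card P = 40320 := by
      rw [← h140]
      exact h1
    omega
  have hW : Nat.card ↥(E ⊓ stabilizer G x) = 4 := hx.card_stab_core hF ht hE
  -- the image in the seven items
  set π := itemPerm E x₀ with hπ
  set K := (P.subgroupOf H).map π with hK
  have hKc : Nat.card K = 72 := by
    set ρ := π.comp (P.subgroupOf H).subtype with hρ
    have h1 := ρ.ker.card_mul_index
    rw [Subgroup.index_ker, hρ, MonoidHom.range_comp, Subgroup.range_subtype, ← hK,
      Nat.card_congr (subgroupOfEquivOfLe (inf_le_left : P ≤ H)).toEquiv, hPc] at h1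
    have h2 : Nat.card ρ.ker = 4 := by
      rw [← hW]
      exact Nat.card_congr
        { toFun := fun y => ⟨((y.1 : H) : G), by
            have hy : π (y.1 : H) = 1 := y.2
            rw [← MonoidHom.mem_ker, ker_itemPerm hF ht hE hx₀] at hy
            exact Subgroup.mem_inf.2 ⟨mem_subgroupOf.1 hy, (mem_subgroupOf.1 y.1.2).2⟩⟩
          invFun := fun y => ⟨⟨⟨y, le_normalizer y.2.1⟩, mem_subgroupOf.2 ⟨le_normalizer y.2.1, y.2.2⟩⟩,
            itemPerm_one_of_mem hF ht hE hx₀ y.2.1⟩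
          left_inv := fun y => rfl
          right_inv := fun y => rfl }
    rw [hρ] at h2
    rw [h2] at h1
    omega
  have h7 : Fintype.card (ItemSet E x₀) = 7 := by rw [← Nat.card_eq_fintype_card, card_itemSet hF ht hE hx₀]
  have hKA : K ≤ alternatingGroup (ItemSet E x₀) := by
    rw [← range_itemPerm hF ht hE hx₀]
    exact Subgroup.map_le_range π _
  set L := (MulAction.orbit K (item0 E x₀)).ncard with hL
  -- the stabilizer in the pair stabilizer maps into the point stabilizer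
  have hmap : ∀ d : H, (d : G) ∈ D ⊓ stabilizer G x → π d ∈ K ∧ π d (item0 E x₀) = item0 E x₀ := fun d hd =>
    ⟨Subgroup.mem_map_of_mem _ (mem_subgroupOf.2 ⟨d.2, hd.2⟩), (itemPerm_item0 d).2 (mem_sup_right hd.1)⟩
  rw [oddBlk_iff hF ht hE hx₀] at ho
  have hKst : Nat.card (stabilizer K (item0 E x₀)) * L = 72 := by
    rw [hL, ← MulAction.index_stabilizer, Subgroup.card_mul_index, hKc]
  have hinj : Nat.card ↥(D ⊓ stabilizer G x) ∣ Nat.card (stabilizer K (item0 E x₀)) := by
    let φ : ↥(D ⊓ stabilizer G x) →* stabilizer K (item0 E x₀) := MonoidHom.mk'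
      (fun d => ⟨⟨π ⟨d, d.2.1.1⟩, (hmap ⟨d, d.2.1.1⟩ d.2).1⟩, (hmap ⟨d, d.2.1.1⟩ d.2).2⟩)
      fun a b => Subtype.ext (Subtype.ext (map_mul π ⟨a, a.2.1.1⟩ ⟨b, b.2.1.1⟩))
    refine Subgroup.card_dvd_of_injective φ ((injective_iff_map_eq_one φ).2 fun d hd => ?_)
    have h1 : π ⟨d, d.2.1.1⟩ = 1 := congrArg (fun z : stabilizer K (item0 E x₀) => ((z : K) : Perm (ItemSet E x₀))) hd
    rw [← MonoidHom.mem_ker, ker_itemPerm hF ht hE hx₀] at h1
    exact Subtype.ext (hx₀.stab_core hF ht hE (mem_subgroupOf.1 h1) (mem_stabilizer_iff.1 d.2.1.2))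
  rcases orbit_card_seventy_two h7 K hKA hKc (item0 E x₀) with hL3 | hL4
  swap
  · exfalso
    rw [hL, hL4] at hKst
    have := ho.trans hinj
    rw [show Nat.card (stabilizer K (item0 E x₀)) = 18 by omega] at this
    norm_num at this
  rw [hL, hL3] at hKst
  -- the stabilizer of the core orbit
  set Dt := D ⊓ (E ⊔ P) with hDt
  have hEP : P ≤ normalizer (E : Set G) := inf_le_left
  have hDle : D ⊓ stabilizer G x ≤ Dt := fun d hd => ⟨hd.1, mem_sup_right ⟨hd.1.1, hd.2⟩⟩
  have hstable : ∀ d ∈ Dt, ∀ f ∈ E, ∃ f' ∈ E, d • (f • x) = f' • x := by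
    intro d hd f hf
    obtain ⟨a, ha, p, hp, rfl⟩ := (mem_sup_left_normalizing hEP).1 hd.2
    refine ⟨a * (p * f * p⁻¹), mul_mem ha (conj_mem_of_mem_normalizer hp.1 hf), ?_⟩
    calc (a * p) • f • x = (a * (p * f * p⁻¹)) • p • x := by rw [smul_smul, smul_smul]; group
      _ = _ := by rw [mem_stabilizer_iff.1 hp.2]
  have hDt24 : Nat.card Dt = 24 := by
    let φ : Dt →* stabilizer K (item0 E x₀) := MonoidHom.mk'
      (fun d => ⟨⟨π ⟨d, d.2.1.1⟩, by
          obtain ⟨a, ha, p, hp, he⟩ := (mem_sup_left_normalizing hEP).1 d.2.2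
          rw [show (⟨(d : G), d.2.1.1⟩ : H) = ⟨a, le_normalizer ha⟩ * ⟨p, hp.1⟩ from Subtype.ext he.symm,
            map_mul, hπ, itemPerm_one_of_mem hF ht hE hx₀ ha, one_mul]
          exact Subgroup.mem_map_of_mem _ (mem_subgroupOf.2 hp)⟩, (itemPerm_item0 _).2 (mem_sup_right d.2.1)⟩)
      fun a b => Subtype.ext (Subtype.ext (map_mul π ⟨a, a.2.1.1⟩ ⟨b, b.2.1.1⟩))
    have hφ : Function.Bijective φ := by
      refine ⟨(injective_iff_map_eq_one φ).2 fun d hd => ?_, fun k => ?_⟩
      · have h1 : π ⟨d, d.2.1.1⟩ = 1 := congrArg (fun z : stabilizer K (item0 E x₀) => ((z : K) : Perm (ItemSet E x₀))) hd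
        rw [← MonoidHom.mem_ker, ker_itemPerm hF ht hE hx₀] at h1
        exact Subtype.ext (hx₀.stab_core hF ht hE (mem_subgroupOf.1 h1) (mem_stabilizer_iff.1 d.2.1.2))
      · obtain ⟨p, hp, hpk⟩ := (k : K).2
        have h0 : π p (item0 E x₀) = item0 E x₀ := by rw [hpk]; exact k.2
        obtain ⟨a, ha, d, hd, had⟩ := (mem_itemStab_iff inf_le_left).1 ((itemPerm_item0 p).1 h0)
        have hdDt : d ∈ Dt := by
          refine ⟨hd, ?_⟩
          rw [show d = a⁻¹ * (p : G) by rw [← had]; group]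
          exact Subgroup.mul_mem _ (mem_sup_left (inv_mem ha)) (mem_sup_right (mem_subgroupOf.1 hp))
        refine ⟨⟨d, hdDt⟩, Subtype.ext (Subtype.ext ?_)⟩
        show π ⟨d, hd.1⟩ = _
        rw [← hpk, show p = (⟨a, le_normalizer ha⟩ : H) * ⟨d, hd.1⟩ from Subtype.ext had.symm, map_mul,
          hπ, itemPerm_one_of_mem hF ht hE hx₀ ha, one_mul]
    rw [Nat.card_congr (Equiv.ofBijective φ hφ)]
    omega
  -- an element of order three moves one of the four conjugates
  obtain ⟨u', hu'⟩ := exists_prime_orderOf_dvd_card' (G := Dt) 3 (by rw [hDt24]; norm_num)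
  set u : G := (u' : G) with hu
  have huo : orderOf u = 3 := by rw [hu, Subgroup.orderOf_coe, hu']
  have huD : u ∈ Dt := u'.2
  obtain ⟨f, hf, hmove⟩ : ∃ f ∈ E, u • (f • x) ≠ f • x := by
    by_contra hno
    push Not at hno
    have hux : u • x = x := by simpa using hno 1 (one_mem E)
    -- the commutators lie in a four group
    have hcW : ∀ f ∈ E, f⁻¹ * (u * f * u⁻¹) ∈ E ⊓ stabilizer G x := fun f hf =>
      Subgroup.mem_inf.2 ⟨mul_mem (inv_mem hf) (conj_mem_of_mem_normalizer huD.1.1 hf), mem_stabilizer_iff.2 (by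
        have hu1 : u⁻¹ • x = x := by rw [inv_smul_eq_iff, hux]
        rw [mul_smul, mul_smul, mul_smul, hu1, hno f hf, inv_smul_smul])⟩
    have hle : Nat.card E ≤ Nat.card ↥(E ⊓ centralizer ({u} : Set G)) * Nat.card ↥(E ⊓ stabilizer G x) := by
      have hfib : ∀ f : E, ∃ b : ↥(E ⊓ stabilizer G x), (f : G)⁻¹ * (u * f * u⁻¹) = b :=
        fun f => ⟨⟨_, hcW f f.2⟩, rfl⟩
      choose b hb using hfib
      let pick : ↥(E ⊓ stabilizer G x) → E := fun w => if hw : ∃ f : E, b f = w then hw.choose else 1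
      have hpick : ∀ f : E, b (pick (b f)) = b f := fun f => by
        have hw : ∃ g : E, b g = b f := ⟨f, rfl⟩
        simp only [pick, dif_pos hw]
        exact hw.choose_spec
      rw [← Nat.card_prod]
      refine Nat.card_le_card_of_injective (fun f : E => ((⟨((pick (b f) : E) : G)⁻¹ * f,
        Subgroup.mem_inf.2 ⟨mul_mem (inv_mem (pick (b f)).2) f.2, mem_centralizer_singleton_iff.2 ?_⟩⟩ :
          ↥(E ⊓ centralizer ({u} : Set G))), b f)) ?_
      · set g : E := pick (b f) with hg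
        have h1 : (g : G)⁻¹ * (u * g * u⁻¹) = (f : G)⁻¹ * (u * f * u⁻¹) := by rw [hb g, hb f, hg, hpick f]
        have hc2 : ((g : G)⁻¹ * f) * ((f : G)⁻¹ * (u * f * u⁻¹)) = ((f : G)⁻¹ * (u * f * u⁻¹)) * ((g : G)⁻¹ * f) :=
          mem_centralizer_iff.1 (hE.cent.ge (hcW f f.2).1) _ (mul_mem (inv_mem g.2) f.2)
        have h2 : u * ((g : G)⁻¹ * f) * u⁻¹ = (g : G)⁻¹ * f := by
          calc u * ((g : G)⁻¹ * f) * u⁻¹
              = ((g : G) * ((g : G)⁻¹ * (u * g * u⁻¹)))⁻¹ * ((f : G) * ((f : G)⁻¹ * (u * f * u⁻¹))) := by group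
            _ = ((g : G) * ((f : G)⁻¹ * (u * f * u⁻¹)))⁻¹ * ((f : G) * ((f : G)⁻¹ * (u * f * u⁻¹))) := by rw [h1]
            _ = ((f : G)⁻¹ * (u * f * u⁻¹))⁻¹ * (((g : G)⁻¹ * f) * ((f : G)⁻¹ * (u * f * u⁻¹))) := by group
            _ = (g : G)⁻¹ * f := by rw [hc2, inv_mul_cancel_left]
        exact (mul_inv_eq_iff_eq_mul.1 h2).symm
      · intro f g hfg
        have h1 := congrArg Prod.snd hfg
        have h2 := congrArg (fun z => ((Prod.fst z : ↥(E ⊓ centralizer ({u} : Set G))) : G)) hfg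
        simp only at h1 h2
        rw [h1] at h2
        exact Subtype.ext (mul_left_cancel h2)
    rw [hE.card, hW] at hle
    obtain ⟨e', he', he'1⟩ : ∃ e' ∈ E ⊓ centralizer ({u} : Set G), e' ≠ 1 := by
      refine (Subgroup.bot_or_exists_ne_one _).resolve_left fun hb => ?_
      rw [hb, Subgroup.card_bot] at hle
      omega
    -- it acts as a three-cycle
    set uH : H := ⟨u, huD.1.1⟩
    have huK : π uH ∈ K := Subgroup.mem_map_of_mem _ (mem_subgroupOf.2 ⟨huD.1.1, hux⟩)
    have hu0 : π uH (item0 E x₀) = item0 E x₀ := (itemPerm_item0 uH).2 (mem_sup_right huD.1)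
    have hpo : orderOf (π uH) = 3 := by
      refine orderOf_eq_prime ?_ fun h1 => ?_
      · rw [← map_pow, show uH ^ 3 = 1 from Subtype.ext (by
          show u ^ 3 = 1
          rw [← huo, pow_orderOf_eq_one]), map_one]
      · rw [← MonoidHom.mem_ker, ker_itemPerm hF ht hE hx₀] at h1
        have := Subgroup.orderOf_dvd_natCard E (mem_subgroupOf.1 h1)
        rw [show ((uH : H) : G) = u from rfl, huo, hE.card] at this
        norm_num at this
    obtain ⟨a, b, hab, ha0, hb0, horb⟩ : ∃ a b, a ≠ b ∧ a ≠ item0 E x₀ ∧ b ≠ item0 E x₀ ∧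
        MulAction.orbit K (item0 E x₀) = {item0 E x₀, a, b} := by
      obtain ⟨p, q, r, hpq, hpr, hqr, he⟩ := Set.ncard_eq_three.1 hL3
      have h0 : item0 E x₀ ∈ ({p, q, r} : Set (ItemSet E x₀)) := he ▸ MulAction.mem_orbit_self _
      rcases h0 with rfl | rfl | rfl
      · exact ⟨q, r, hqr, hpq.symm, hpr.symm, he⟩
      · exact ⟨p, r, hpr, hpq, hqr.symm, he.trans (Set.insert_comm _ _ _)⟩
      · refine ⟨p, q, hpq, hpr, hqr, he.trans ?_⟩
        ext z; simp; tauto
    have hperm : ∀ z ∈ ({a, b} : Set (ItemSet E x₀)), π uH z ∈ ({a, b} : Set (ItemSet E x₀)) := by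
      intro z hz
      have h1 : π uH z ∈ MulAction.orbit K (item0 E x₀) := by
        have hz' : z ∈ MulAction.orbit K (item0 E x₀) := horb ▸ Or.inr hz
        obtain ⟨k, hk⟩ := hz'
        exact ⟨⟨π uH, huK⟩ * k, by show ((⟨π uH, huK⟩ : K) * k) • item0 E x₀ = _; rw [mul_smul]; exact congrArg _ hk⟩
      rw [horb] at h1
      refine h1.resolve_left fun e' => ?_
      have := (π uH).injective (e'.trans hu0.symm)
      rcases hz with rfl | rfl
      exacts [ha0 this, hb0 this]
    have hfixz : ∀ z ∈ ({a, b} : Set (ItemSet E x₀)), π uH z = z := by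
      intro z hz
      have h3 : (π uH ^ 3) z = z := by rw [← hpo, pow_orderOf_eq_one]; rfl
      rw [pow_succ, pow_two, Equiv.Perm.mul_apply, Equiv.Perm.mul_apply] at h3
      have e1 := hperm z hz
      have e2 := hperm _ e1
      by_contra hne
      have hzz : π uH (π uH z) = z := by
        rcases hz with rfl | rfl <;> rcases e1 with e1 | e1 <;> rcases e2 with e2 | e2
        all_goals first
          | exact e2
          | exact absurd e1 hne
          | (exfalso; exact hne ((π uH).injective (e2.trans e1.symm)))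
      rw [hzz] at h3
      exact hne h3
    have h3c := isThreeCycle_of_fix h7 hpo ha0.symm hb0.symm hab hu0 (hfixz a (Or.inl rfl)) (hfixz b (Or.inr rfl))
    exact not_threeCycle_of_cent hF ht hE hx₀ he'.1 he'1 uH
      (mem_centralizer_singleton_iff.2 (mem_centralizer_singleton_iff.1 he'.2).symm) h3c
  -- the orbit of the moved one has three or four elements
  set τ : Set (Blk E) := (fun f => f • x) '' (E : Set G) with hτ
  have hτc : τ.ncard = 4 := by
    have h1 := orbit_mul_stab E x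
    rw [hE.card, hW] at h1
    have h2 : MulAction.orbit E x = τ := by
      ext y
      exact ⟨fun ⟨f, hf⟩ => ⟨f, f.2, hf⟩, fun ⟨f, hf, h'⟩ => ⟨⟨f, hf⟩, h'⟩⟩
    have h1' : (MulAction.orbit E x).ncard * 4 = 16 := h1
    have h3 : τ.ncard * 4 = 16 := by rw [← h2]; exact h1'
    omega
  set z := f • x with hz
  have hzτ : z ∈ τ := ⟨f, hf, rfl⟩
  have horbτ : ∀ y ∈ τ, MulAction.orbit Dt y ⊆ τ := by
    rintro _ ⟨g, hg, rfl⟩ _ ⟨d, rfl⟩
    obtain ⟨f', hf', he'⟩ := hstable d d.2 g hg
    exact ⟨f', hf', he'.symm⟩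
  have hstabEq : ∀ y ∈ τ, D ⊓ stabilizer G y = Dt ⊓ stabilizer G y := by
    rintro _ ⟨g, hg, rfl⟩
    refine le_antisymm (fun d hd => ⟨⟨hd.1, ?_⟩, hd.2⟩) (inf_le_inf_right _ inf_le_left)
    have hp : g⁻¹ * d * g ∈ P := by
      refine Subgroup.mem_inf.2 ⟨mul_mem (mul_mem (inv_mem (le_normalizer hg)) hd.1.1) (le_normalizer hg), ?_⟩
      rw [mem_stabilizer_iff, mul_smul, mul_smul,
        show d • g • x = g • x from mem_stabilizer_iff.1 hd.2, inv_smul_smul]
    rw [show d = g * (g⁻¹ * d * g) * g⁻¹ by group]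
    exact Subgroup.mul_mem _ (Subgroup.mul_mem _ (mem_sup_left hg) (mem_sup_right hp)) (mem_sup_left (inv_mem hg))
  have hp : ∀ y ∈ τ, ((MulAction.orbit Dt y).ncard * Nat.card ↥(D ⊓ stabilizer G y) = 24) := by
    intro y hy
    rw [hstabEq y hy]
    exact (orbit_mul_stab Dt y).trans hDt24
  have hzge : 3 ≤ (MulAction.orbit Dt z).ncard := by
    have hsub : ({z, u • z, u • u • z} : Set (Blk E)) ⊆ MulAction.orbit Dt z := by
      rintro y (rfl | rfl | rfl)
      · exact MulAction.mem_orbit_self _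
      · exact ⟨u', rfl⟩
      · exact ⟨u' * u', mul_smul _ _ _⟩
    have hu3 : u • u • u • z = z := by
      rw [smul_smul, smul_smul, show u * u * u = u ^ 3 by rw [pow_succ, pow_two], ← huo, pow_orderOf_eq_one,
        one_smul]
    have h12 : u • z ≠ u • u • z := fun h' => hmove (smul_left_cancel u h').symm
    have h02 : z ≠ u • u • z := fun h' => hmove ((congrArg (u • ·) h').trans hu3)
    have := Set.ncard_le_ncard hsub
    rwa [Set.ncard_insert_of_notMem (by simp [Ne.symm hmove, h02]), Set.ncard_pair h12] at this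
  have hcase : ∀ y ∈ τ, (MulAction.orbit Dt y).ncard = (MulAction.orbit Dt z).ncard ∨
      ((MulAction.orbit Dt y).ncard = 1 ∧ (MulAction.orbit Dt z).ncard = 3) := by
    intro y hy
    by_cases hyz : y ∈ MulAction.orbit Dt z
    · exact Or.inl (by rw [MulAction.orbit_eq_iff.2 hyz])
    have hdj : Disjoint (MulAction.orbit Dt y) (MulAction.orbit Dt z) := by
      refine Set.disjoint_left.2 fun q h1 h2 => hyz ?_
      rw [← MulAction.orbit_eq_iff] at h1 h2
      exact MulAction.orbit_eq_iff.1 (h1.symm.trans h2)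
    have h1 := Set.ncard_le_ncard (Set.union_subset (horbτ y hy) (horbτ z hzτ))
    rw [Set.ncard_union_eq hdj, hτc] at h1
    have h2 : 0 < (MulAction.orbit Dt y).ncard := (Set.ncard_pos (Set.toFinite _)).2 ⟨y, MulAction.mem_orbit_self y⟩
    exact Or.inr (by omega)
  -- conclusion
  have hex : ∀ y ∈ τ, (8 ∣ Nat.card ↥(D ⊓ stabilizer G y) ↔ (MulAction.orbit Dt z).ncard = 3) := by
    intro y hy
    have hy' := hp y hy
    rcases hcase y hy with h | ⟨h, h3⟩
    · rw [h] at hy'
      have h4 : (MulAction.orbit Dt z).ncard ≤ 4 := hτc ▸ Set.ncard_le_ncard (horbτ z hzτ)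
      constructor
      · rintro ⟨c, hc⟩
        rw [hc] at hy'
        interval_cases hq : (MulAction.orbit Dt z).ncard <;> omega
      · intro h3
        rw [h3] at hy'
        exact ⟨1, by omega⟩
    · rw [h] at hy'
      exact ⟨fun _ => h3, fun _ => ⟨3, by omega⟩⟩
  rw [oddBlk_iff hF ht hE hx₀]
  exact (hex _ ⟨e, he, rfl⟩).2 ((hex x ⟨1, one_mem E, one_smul G x⟩).1 ho)

end CfsgLib.Char.MTwentyThreeOrder
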