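import Cfsg.Agent.Lib.Char.MTwentyThreeOrder.Local.Key

/-!
# The normalizer of the core is simple modulo the core
-/

set_option autoImplicit false
set_option linter.all false

open Subgroup MulAction
open CfsgLib.Char.MTwentyTwoOrder (card_modEq_fixed conj_mem_of_mem_normalizer mem_normalizer_of_map_mem
  card_sylow_eq card_dvd_of_free card_eq_orbit_mul)

namespace CfsgLib.Char.MTwentyThreeOrder

universe u

variable {G : Type u} [Group G] [Finite G] (hF : Facts G)
include hF

variable {t : G} {E : Subgroup G}

/-- An element of order seven of the centralizer fixes only the involution in the core. -/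
theorem seven_fix (ht : orderOf t = 2) (hE : IsE t E) {a : G} (ha : a ∈ centralizer ({t} : Set G))
    (hao : orderOf a = 7) {d : G} (hd : d ∈ E) (hc : Commute a d) : d = 1 ∨ d = t := by
  have t2 : t * t = 1 := hE.elem t hE.mem
  have hle : zpowers t ⊔ zpowers d ≤ E ⊓ centralizer ({a} : Set G) := sup_le
    (zpowers_le.2 ⟨hE.mem, mem_centralizer_singleton_iff.2 (mem_centralizer_singleton_iff.1 ha).symm⟩)
    (zpowers_le.2 ⟨hd, mem_centralizer_singleton_iff.2 hc.symm.eq⟩)
  have hd1 := Subgroup.card_dvd_of_le (inf_le_left : E ⊓ centralizer ({a} : Set G) ≤ E)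
  have hd2 := Subgroup.card_dvd_of_le (inf_le_right : E ⊓ centralizer ({a} : Set G) ≤ _)
  rw [hE.card] at hd1
  rw [hF.cent_seven a hao] at hd2
  have hd3 := Nat.le_of_dvd (by norm_num) (Nat.dvd_gcd hd1 hd2)
  rw [show Nat.gcd 16 14 = 2 from rfl] at hd3
  have hzt : zpowers t = zpowers t ⊔ zpowers d := Subgroup.eq_of_le_of_card_ge le_sup_left (by
    have := Subgroup.card_le_of_le hle
    rw [Nat.card_zpowers, ht]
    omega)
  have hdt : d ∈ zpowers t := hzt ▸ mem_sup_right (mem_zpowers d)
  obtain ⟨k, hk⟩ := mem_zpowers_iff.1 hdt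
  rcases Int.emod_two_eq_zero_or_one k with e' | e' <;>
    rw [← Int.emod_add_mul_ediv k 2, e', zpow_add, zpow_mul,
      show t ^ (2 : ℤ) = 1 by rw [show (2 : ℤ) = ((2 : ℕ) : ℤ) from rfl, zpow_natCast, pow_two, t2],
      one_zpow, mul_one] at hk
  · exact Or.inl (by rw [← hk]; simp)
  · exact Or.inr (by rw [← hk]; simp)

theorem exists_seven_mem (ht : orderOf t = 2) : ∃ a ∈ centralizer ({t} : Set G), orderOf a = 7 := by
  haveI := Fact.mk (show Nat.Prime 7 by norm_num)
  obtain ⟨x, hx⟩ := exists_prime_orderOf_dvd_card' (G := centralizer ({t} : Set G)) 7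
    (by rw [hF.cent_invol t ht]; norm_num)
  exact ⟨x, x.2, by rw [Subgroup.orderOf_coe, hx]⟩

theorem IsE.exists_conj (ht : orderOf t = 2) (hE : IsE t E) {y : G} (hy : y ∈ E) (hy1 : y ≠ 1) :
    ∃ g ∈ normalizer (E : Set G), g * t * g⁻¹ = y := by
  have hyo : orderOf y = 2 := orderOf_eq_prime (by rw [pow_two, hE.elem y hy]) hy1
  obtain ⟨g, hg⟩ := isConj_iff.1 (hF.invol_conj t y ht hyo)
  refine ⟨g, mem_normalizer_of_map_mem fun z hz => ?_, hg⟩
  have h' := hE.map hF ht g
  rw [hg] at h'
  exact (((hE.of_mem hF ht hy hy1).eq_of hF hyo h'.card h'.mem h'.le h'.norm h'.elem)).le ⟨z, hz, rfl⟩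

/-- A subgroup between the core and its normalizer, normal in the latter, is one of the two. -/
theorem IsE.normal_cases (ht : orderOf t = 2) (hE : IsE t E) {X : Subgroup G} (hEX : E ≤ X)
    (hXH : X ≤ normalizer (E : Set G)) (hXn : normalizer (E : Set G) ≤ normalizer (X : Set G)) :
    X = E ∨ X = normalizer (E : Set G) := by
  haveI := Fact.mk (show Nat.Prime 7 by norm_num)
  haveI := Fact.mk (show Nat.Prime 5 by norm_num)
  set H := normalizer (E : Set G) with hH
  have hHc : Nat.card H = 40320 := hE.card_normalizer hF ht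
  set C := centralizer ({t} : Set G) with hC
  have hCH : C ≤ H := hE.norm
  obtain ⟨x, hxC, hxo⟩ := exists_seven_mem hF ht
  have ht1 : t ≠ 1 := fun e => by rw [e, orderOf_one] at ht; omega
  -- the orbit of the involution
  set O := (fun y => y * t * y⁻¹) '' (X : Set G) with hO
  have horb := card_eq_orbit_mul X t
  rw [← hO] at horb
  have hOE : O ⊆ (E : Set G) \ {1} := by
    rintro _ ⟨y, hy, rfl⟩
    refine ⟨conj_mem_of_mem_normalizer (hXH hy) hE.mem, fun e => ht1 ?_⟩
    rwa [Set.mem_singleton_iff, conj_eq_one_iff] at e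
  have htO : t ∈ O := ⟨1, one_mem X, by simp⟩
  have hOle : O.ncard ≤ 15 := by
    refine (Set.ncard_le_ncard hOE).trans (le_of_eq ?_)
    rw [Set.ncard_sdiff_singleton_of_mem (show (1 : G) ∈ (E : Set G) from one_mem E), ← Nat.card_coe_set_eq,
      SetLike.coe_sort_coe, hE.card]
  -- it is stable under the centralizer and an element of order seven acts freely on the rest
  have hinv : ∀ a ∈ C, ∀ d ∈ O, a * d * a⁻¹ ∈ O := by
    rintro a ha _ ⟨y, hy, rfl⟩
    refine ⟨a * y * a⁻¹, conj_mem_of_mem_normalizer (hXn (hCH ha)) hy, ?_⟩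
    have hc : a * t = t * a := mem_centralizer_singleton_iff.1 ha
    calc a * y * a⁻¹ * t * (a * y * a⁻¹)⁻¹ = a * y * (a⁻¹ * (t * a)) * y⁻¹ * a⁻¹ := by group
      _ = a * (y * t * y⁻¹) * a⁻¹ := by rw [← hc]; group
  have hseven : 7 ∣ O.ncard - 1 := by
    have hd := card_dvd_of_free (zpowers x) (O \ {t})
      (fun a ha d hd => ⟨hinv a (zpowers_le.2 hxC ha) d hd.1, fun e => hd.2 (by
        rw [Set.mem_singleton_iff] at e ⊢
        have hc : a * t = t * a := mem_centralizer_singleton_iff.1 (zpowers_le.2 hxC ha)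
        calc d = a⁻¹ * (a * d * a⁻¹) * a := by group
          _ = t := by rw [e, mul_assoc, ← hc, inv_mul_cancel_left])⟩)
      (fun a ha ha1 d hd he => by
        have hao : orderOf a = 7 := by
          have := Subgroup.orderOf_dvd_natCard _ ha
          rw [Nat.card_zpowers, hxo] at this
          exact ((Nat.dvd_prime (by norm_num)).1 this).resolve_left fun e' => ha1 (orderOf_eq_one_iff.1 e')
        have hdE := hOE hd.1
        rcases seven_fix hF ht hE (zpowers_le.2 hxC ha) hao hdE.1 (mul_inv_eq_iff_eq_mul.1 he) with e | e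
        exacts [hdE.2 e, hd.2 e])
    rwa [Nat.card_zpowers, hxo, Set.ncard_sdiff_singleton_of_mem htO] at hd
  have hOcases : O.ncard = 1 ∨ O.ncard = 8 ∨ O.ncard = 15 := by
    obtain ⟨k, hk⟩ := hseven
    have : 0 < O.ncard := (Set.ncard_pos (Set.toFinite O)).2 ⟨t, htO⟩
    omega
  have hXd : Nat.card X ∣ 40320 := hHc ▸ Subgroup.card_dvd_of_le hXH
  have hEle : E ≤ X ⊓ C := le_inf hEX hE.le
  rcases hE.above (X ⊓ C) hEle inf_le_right (fun a ha => mem_normalizer_of_map_mem fun y hy =>
      ⟨conj_mem_of_mem_normalizer (hXn (hCH ha)) hy.1,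
        Subgroup.mul_mem _ (Subgroup.mul_mem _ ha hy.2) (Subgroup.inv_mem _ ha)⟩) with he | he
  · rw [he, hE.card] at horb
    rcases hOcases with h | h | h <;> rw [h] at horb
    · exact Or.inl (Subgroup.eq_of_le_of_card_ge hEX (by rw [hE.card, horb])).symm
    · exfalso
      haveI := Fact.mk Nat.prime_two
      have hX : IsPGroup 2 X := IsPGroup.of_card (n := 7) (by rw [horb]; norm_num)
      letI act : MulAction ↥X ↥E := MulAction.compHom _ ((normalizerMonoidHom E).comp (inclusion hXH))
      have hfix := hX.card_modEq_card_fixedPoints ↥E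
      have h1 : (1 : E) ∈ fixedPoints ↥X ↥E := fun z => Subtype.ext (by
        show (z : G) * (1 : G) * (z : G)⁻¹ = 1
        group)
      have hnt : ∃ e ∈ fixedPoints ↥X ↥E, e ≠ (1 : E) := by
        by_contra hno
        push Not at hno
        have : fixedPoints ↥X ↥E = {1} := Set.eq_singleton_iff_unique_mem.2 ⟨h1, hno⟩
        rw [this, Nat.card_coe_set_eq, Set.ncard_singleton, hE.card] at hfix
        exact absurd hfix (by decide)
      obtain ⟨e, he', he1⟩ := hnt
      obtain ⟨g, hg, hge⟩ := hE.exists_conj hF ht e.2 (fun h => he1 (Subtype.ext h))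
      have hXC : X ≤ C := fun z hz => by
        have hz' : g * z * g⁻¹ ∈ X := conj_mem_of_mem_normalizer (hXn hg) hz
        have hfixz : g * z * g⁻¹ * (e : G) * (g * z * g⁻¹)⁻¹ = e := congrArg Subtype.val (he' ⟨_, hz'⟩)
        refine mem_centralizer_singleton_iff.2 ?_
        calc z * t = g⁻¹ * ((g * z * g⁻¹) * (g * t * g⁻¹)) * g := by group
          _ = g⁻¹ * ((g * t * g⁻¹) * (g * z * g⁻¹)) * g := by rw [hge, mul_inv_eq_iff_eq_mul.1 hfixz]
          _ = t * z := by group
      rw [inf_eq_left.2 hXC] at he
      rw [he, hE.card] at horb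
      omega
    · exfalso
      have hX : Nat.card X = 240 := horb
      obtain ⟨P⟩ : Nonempty (Sylow 5 X) := inferInstance
      have hPc : Nat.card (P : Subgroup X) = 5 := card_sylow_eq (a := 1) (m := 48) P (by rw [hX]; norm_num) (by norm_num)
      set Q := (P : Subgroup X).map X.subtype with hQ
      have hQc : Nat.card Q = 5 := by rw [hQ, Subgroup.card_map_of_injective X.subtype_injective, hPc]
      -- the Frattini argument inside the normalizer
      haveI : (X.subgroupOf H).Normal := ⟨fun y hy g => by
        rw [mem_subgroupOf] at hy ⊢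
        exact conj_mem_of_mem_normalizer (hXn g.2) hy⟩
      let e : (X.subgroupOf H) ≃* X := subgroupOfEquivOfLe hXH
      obtain ⟨P'⟩ : Nonempty (Sylow 5 (X.subgroupOf H)) := inferInstance
      have hP'c : Nat.card (P' : Subgroup (X.subgroupOf H)) = 5 :=
        card_sylow_eq (a := 1) (m := 48) P' (by rw [Nat.card_congr e.toEquiv, hX]; norm_num) (by norm_num)
      set R := (P' : Subgroup (X.subgroupOf H)).map (X.subgroupOf H).subtype with hR
      have hRc : Nat.card R = 5 := by
        rw [hR, Subgroup.card_map_of_injective (X.subgroupOf H).subtype_injective, hP'c]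
      have h1 : normalizer (R : Set H) ⊔ X.subgroupOf H = ⊤ := Sylow.normalizer_sup_eq_top P'
      have h7 : 7 ∣ Nat.card (normalizer (R : Set H)) := by
        have h2 : (X.subgroupOf H).relIndex (normalizer (R : Set H)) = (X.subgroupOf H).index := by
          rw [← Subgroup.relIndex_sup_right (normalizer (R : Set H)) (X.subgroupOf H), h1,
            Subgroup.relIndex_top_right]
        have h3 := (X.subgroupOf H).card_mul_index
        rw [Nat.card_congr e.toEquiv, hX, hHc] at h3
        have h4 := Subgroup.relIndex_dvd_card (X.subgroupOf H) (normalizer (R : Set H))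
        rw [h2] at h4
        exact (show 7 ∣ (X.subgroupOf H).index by omega).trans h4
      obtain ⟨y, hy⟩ := exists_prime_orderOf_dvd_card' 7 h7
      have hyH : orderOf (y : H) = 7 := by rw [Subgroup.orderOf_coe, hy]
      have h5 := card_modEq_fixed R hyH y.2
      rw [hRc] at h5
      have h6 := Subgroup.card_dvd_of_le (inf_le_left : R ⊓ centralizer ({(y : H)} : Set H) ≤ R)
      rw [hRc] at h6
      rcases (Nat.dvd_prime (show Nat.Prime 5 by norm_num)).1 h6 with h6 | h6 <;> rw [h6] at h5
      · exact absurd h5 (by decide)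
      · have hle : (R ⊓ centralizer ({(y : H)} : Set H)).map H.subtype ≤ centralizer ({((y : H) : G)} : Set G) := by
          rintro _ ⟨z, hz, rfl⟩
          exact mem_centralizer_singleton_iff.2 (congrArg Subtype.val (mem_centralizer_singleton_iff.1 hz.2))
        have h8 := Subgroup.card_dvd_of_le hle
        rw [Subgroup.card_map_of_injective H.subtype_injective, h6,
          hF.cent_seven _ (by rw [Subgroup.orderOf_coe, hyH])] at h8
        norm_num at h8
  · rw [he, hF.cent_invol t ht] at horb
    rcases hOcases with h | h | h <;> rw [h] at horb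
    · exfalso
      have hXC : X = C := (Subgroup.eq_of_le_of_card_ge (inf_eq_right.1 he) (by
        rw [hF.cent_invol t ht, horb])).symm
      have hle : C ≤ centralizer (E : Set G) := by
        intro c hc
        refine mem_centralizer_iff.2 fun y hy => ?_
        by_cases hy1 : y = 1
        · rw [hy1, one_mul, mul_one]
        obtain ⟨g, hgH, hg⟩ := hE.exists_conj hF ht hy hy1
        have hc' : g⁻¹ * c * g ∈ C := by
          have := conj_mem_of_mem_normalizer (hXn (inv_mem hgH)) (hXC.ge hc)
          rw [inv_inv] at this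
          exact hXC.le this
        have h2 := mem_centralizer_singleton_iff.1 hc'
        calc y * c = g * (t * (g⁻¹ * c * g)) * g⁻¹ := by rw [← hg]; group
          _ = g * (g⁻¹ * c * g * t) * g⁻¹ := by rw [h2]
          _ = c * y := by rw [← hg]; group
      have := Subgroup.card_le_of_le (hle.trans hE.cent.le)
      rw [hF.cent_invol t ht, hE.card] at this
      omega
    · exfalso
      rw [show Nat.card X = 21504 by omega] at hXd
      norm_num at hXd
    · exact Or.inr (Subgroup.eq_of_le_of_card_ge hXH (by rw [hHc, horb]))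

end CfsgLib.Char.MTwentyThreeOrder
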