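import Cfsg.Agent.Lib.Char.MTwentyThreeOrder.Facts
import Cfsg.Agent.Lib.Char.MTwentyThreeOrder.Local.CoreQ

/-!
# The core of an involution of a simple group of order 10200960
-/

set_option autoImplicit false
set_option linter.all false

open Subgroup MulAction
open CfsgLib.Char.MTwentyTwoOrder (card_modEq_fixed conj_mem_of_mem_normalizer mem_normalizer_of_map_mem conj_mem_map)

namespace CfsgLib.Char.MTwentyThreeOrder

universe u

variable {G : Type u} [Group G] [Finite G]

/-- The core of an involution, as a subgroup of the whole group. -/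
structure IsE (t : G) (E : Subgroup G) : Prop where
  card : Nat.card E = 16
  mem : t ∈ E
  le : E ≤ centralizer ({t} : Set G)
  norm : centralizer ({t} : Set G) ≤ normalizer (E : Set G)
  elem : ∀ e ∈ E, e * e = 1
  cent : centralizer (E : Set G) = E
  invol : ∀ s : G, s ∈ centralizer ({t} : Set G) → s ∉ E → orderOf s = 2 →
    Nat.card ↥(E ⊓ centralizer ({s} : Set G)) = 4
  three : ∀ u : G, u ∈ centralizer ({t} : Set G) → orderOf u = 3 →
    Nat.card ↥(E ⊓ centralizer ({u} : Set G)) = 4
  cent_three : ∀ u : G, u ∈ centralizer ({t} : Set G) → orderOf u = 3 →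
    Nat.card ↥(centralizer ({t} : Set G) ⊓ centralizer ({u} : Set G)) = 12
  exists_outside : ∃ s : G, s ∈ centralizer ({t} : Set G) ∧ s ∉ E ∧ orderOf s = 2
  trans : ∀ X : Subgroup G, t ∈ X → X ≤ E → centralizer ({t} : Set G) ≤ normalizer (X : Set G) →
    X = zpowers t ∨ X = E
  above : ∀ X : Subgroup G, E ≤ X → X ≤ centralizer ({t} : Set G) →
    centralizer ({t} : Set G) ≤ normalizer (X : Set G) → X = E ∨ X = centralizer ({t} : Set G)
  conj_out : ∀ s r : G, s ∈ centralizer ({t} : Set G) → r ∈ centralizer ({t} : Set G) → s ∉ E → r ∉ E →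
    orderOf s = 2 → orderOf r = 2 → ∃ c ∈ centralizer ({t} : Set G), c * s * c⁻¹ * r ∈ E

theorem card_inf_eq_subgroupOf {C X : Subgroup G} :
    Nat.card ↥(C ⊓ X) = Nat.card ↥(X.subgroupOf C) := by
  rw [← Subgroup.inf_subgroupOf_right X C, inf_comm X C]
  exact (Nat.card_congr (subgroupOfEquivOfLe inf_le_left).toEquiv).symm

theorem subgroupOf_centralizer {C : Subgroup G} (s : C) :
    (centralizer ({(s : G)} : Set G)).subgroupOf C = centralizer ({s} : Set C) := by
  ext x
  simp [mem_subgroupOf, mem_centralizer_singleton_iff, Subtype.ext_iff]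

variable (hF : Facts G)
include hF

theorem Facts.centHyp {t : G} (ht : orderOf t = 2) :
    CentHyp (centralizer ({t} : Set G)) ⟨t, mem_centralizer_singleton_iff.2 rfl⟩ := by
  set C := centralizer ({t} : Set G) with hC
  have hcomm : ∀ g : C, (g : G) * t = t * g := fun g => mem_centralizer_singleton_iff.1 g.2
  -- centralizers of elements of order seven
  have h7 : ∀ x : C, orderOf x = 7 → centralizer ({(x : G)} : Set G) = zpowers t ⊔ zpowers (x : G) ∧
      centralizer ({(x : G)} : Set G) ≤ C := by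
    intro x hx
    have hxo : orderOf (x : G) = 7 := by rw [Subgroup.orderOf_coe, hx]
    have heq : centralizer ({(x : G)} : Set G) = zpowers t ⊔ zpowers (x : G) := by
      refine (Subgroup.eq_of_le_of_card_ge (sup_le (zpowers_le.2 (mem_centralizer_singleton_iff.2
        (hcomm x).symm)) (zpowers_le.2 (mem_centralizer_singleton_iff.2 rfl))) ?_).symm
      rw [hF.cent_seven _ hxo]
      refine Nat.le_of_dvd Nat.card_pos ((show Nat.Coprime 2 7 by norm_num).mul_dvd_of_dvd_of_dvd ?_ ?_)
      · exact ht ▸ Subgroup.orderOf_dvd_natCard _ (mem_sup_left (mem_zpowers t))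
      · exact hxo ▸ Subgroup.orderOf_dvd_natCard _ (mem_sup_right (mem_zpowers (x : G)))
    exact ⟨heq, heq ▸ sup_le (zpowers_le.2 (mem_centralizer_singleton_iff.2 rfl)) (zpowers_le.2 x.2)⟩
  constructor
  · exact hF.cent_invol t ht
  · rw [Subgroup.orderOf_mk, ht]
  · exact mem_center_iff.2 fun g => Subtype.ext (hcomm g)
  · intro x hx
    have hxo : orderOf (x : G) = 7 := by rw [Subgroup.orderOf_coe, hx]
    rw [← hF.cent_seven _ hxo, ← subgroupOf_centralizer]
    exact Nat.card_congr (subgroupOfEquivOfLe (h7 x hx).2).toEquiv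
  · intro P hP
    have hPG : Nat.card (P.map C.subtype) = 7 := by rw [Subgroup.card_map_of_injective C.subtype_injective, hP]
    haveI := Fact.mk (show Nat.Prime 7 by norm_num)
    obtain ⟨x, hx⟩ := exists_prime_orderOf_dvd_card' (G := P) 7 (by rw [hP])
    have hx' : orderOf (x : C) = 7 := by rw [Subgroup.orderOf_coe, hx]
    have hPx : P.map C.subtype = zpowers ((x : C) : G) := by
      refine (Subgroup.eq_of_le_of_card_ge (zpowers_le.2 (Subgroup.mem_map.2 ⟨_, x.2, rfl⟩)) ?_).symm
      rw [Nat.card_zpowers, hPG, Subgroup.coe_subtype, Subgroup.orderOf_coe, hx']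
    have hle : normalizer ((P.map C.subtype : Subgroup G) : Set G) ≤ C := by
      intro g hg
      have ho : orderOf ((x : C) : G) = 7 := by rw [Subgroup.orderOf_coe, hx']
      have htc : t ∈ centralizer ({((x : C) : G)} : Set G) :=
        mem_centralizer_singleton_iff.2 (hcomm x).symm
      -- the centralizer has a unique involution
      have hcyc : centralizer ({((x : C) : G)} : Set G) = zpowers (t * ((x : C) : G)) := by
        refine (Subgroup.eq_of_le_of_card_ge (zpowers_le.2 (mul_mem htc (mem_centralizer_singleton_iff.2 rfl))) ?_).symm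
        rw [hF.cent_seven _ ho, Nat.card_zpowers,
          (show Commute t ((x : C) : G) from (hcomm x).symm).orderOf_mul_eq_mul_orderOf_of_coprime
            (by rw [ht, ho]; norm_num), ht, ho]
      have hgt : g * t * g⁻¹ ∈ centralizer ({((x : C) : G)} : Set G) := by
        refine mem_centralizer_singleton_iff.2 ?_
        have hy : g⁻¹ * ((x : C) : G) * g ∈ P.map C.subtype :=
          (mem_normalizer_iff''.1 hg _).1 (hPx ▸ mem_zpowers _)
        rw [hPx] at hy
        obtain ⟨n, hn⟩ := mem_zpowers_iff.1 hy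
        have hc : Commute t (g⁻¹ * ((x : C) : G) * g) :=
          hn ▸ ((show Commute t ((x : C) : G) from (hcomm x).symm).zpow_right n)
        calc g * t * g⁻¹ * ((x : C) : G) = g * (t * (g⁻¹ * ((x : C) : G) * g)) * g⁻¹ := by group
          _ = g * (g⁻¹ * ((x : C) : G) * g * t) * g⁻¹ := by rw [hc.eq]
          _ = ((x : C) : G) * (g * t * g⁻¹) := by group
      have hgo : orderOf (g * t * g⁻¹) = 2 := by
        rw [show g * t * g⁻¹ = MulAut.conj g t from rfl, MulEquiv.orderOf_eq, ht]
      have heq : g * t * g⁻¹ = t := by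
        by_contra hne
        haveI : IsCyclic ↥(centralizer ({((x : C) : G)} : Set G)) := hcyc ▸ inferInstance
        classical
        haveI := Fintype.ofFinite ↥(centralizer ({((x : C) : G)} : Set G))
        have h2 := IsCyclic.card_pow_eq_one_le (α := ↥(centralizer ({((x : C) : G)} : Set G))) two_pos
        have hsub : ({1, ⟨t, htc⟩, ⟨_, hgt⟩} : Finset ↥(centralizer ({((x : C) : G)} : Set G))) ⊆
            Finset.univ.filter fun y => y ^ 2 = 1 := by
          intro y hy
          simp only [Finset.mem_insert, Finset.mem_singleton] at hy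
          refine Finset.mem_filter.2 ⟨Finset.mem_univ _, ?_⟩
          rcases hy with rfl | rfl | rfl
          · exact one_pow 2
          · refine Subtype.ext ?_
            show t ^ 2 = 1
            rw [← ht, pow_orderOf_eq_one]
          · refine Subtype.ext ?_
            show (g * t * g⁻¹) ^ 2 = 1
            rw [← hgo, pow_orderOf_eq_one]
        have h3 := Finset.card_le_card hsub
        have ht1 : t ≠ 1 := fun e => by rw [e, orderOf_one] at ht; omega
        rw [Finset.card_insert_of_notMem (by simp [Subtype.ext_iff, ht1, Ne.symm ht1, eq_comm (a := (1 : G)), conj_eq_one_iff]),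
          Finset.card_pair (fun e => hne (congrArg Subtype.val e).symm)] at h3
        omega
      exact mem_centralizer_singleton_iff.2 (mul_inv_eq_iff_eq_mul.1 heq)
    rw [← hF.norm_seven _ hPG]
    refine Eq.trans ?_ (Nat.card_congr (subgroupOfEquivOfLe hle).toEquiv)
    congr 2
    ext g
    rw [mem_subgroupOf, mem_normalizer_iff, mem_normalizer_iff]
    constructor
    · intro hg y
      constructor
      · rintro ⟨z, hz, rfl⟩
        exact ⟨_, (hg z).1 hz, rfl⟩
      · rintro ⟨z, hz, he⟩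
        exact ⟨g⁻¹ * z * g, (hg _).2 (by simpa [mul_assoc] using hz), by
          show (g : G)⁻¹ * (z : G) * (g : G) = y
          rw [show (z : G) = (g : G) * y * (g : G)⁻¹ from he]; group⟩
    · intro hg y
      constructor
      · intro hy
        obtain ⟨z, hz, he⟩ := (hg (y : G)).1 ⟨y, hy, rfl⟩
        exact (Subtype.ext he : z = g * y * g⁻¹) ▸ hz
      · intro hy
        obtain ⟨z, hz, he⟩ := (hg (y : G)).2 ⟨_, hy, rfl⟩
        exact (Subtype.ext he : z = y) ▸ hz
  · rw [← hF.invol_in_cent t ht]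
    exact Nat.card_congr
      { toFun := fun s => ⟨(s.1 : G), by rw [Subgroup.orderOf_coe, s.2], hcomm s.1⟩
        invFun := fun s => ⟨⟨s.1, mem_centralizer_singleton_iff.2 s.2.2⟩, by rw [Subgroup.orderOf_mk]; exact s.2.1⟩
        left_inv := fun s => rfl
        right_inv := fun s => rfl }

theorem exists_isE {t : G} (ht : orderOf t = 2) : ∃ E : Subgroup G, IsE t E := by
  set C := centralizer ({t} : Set G) with hC
  obtain ⟨E₀, h⟩ := (hF.centHyp ht).exists_core
  set E := E₀.map C.subtype with hE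
  have hle : E ≤ C := map_subtype_le E₀
  have hsub : E.subgroupOf C = E₀ := by
    rw [hE, subgroupOf, comap_map_eq_self_of_injective C.subtype_injective]
  have hcard : Nat.card E = 16 := by
    rw [hE, Subgroup.card_map_of_injective C.subtype_injective, h.card_eq]
  have helem : ∀ e ∈ E, e * e = 1 := by
    rintro _ ⟨e, he, rfl⟩
    exact congrArg Subtype.val (h.elem e he)
  have hinf : ∀ s : C, Nat.card ↥(E ⊓ centralizer ({(s : G)} : Set G)) = Nat.card ↥(E₀ ⊓ centralizer ({s} : Set C)) := by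
    intro s
    rw [show E ⊓ centralizer ({(s : G)} : Set G) = C ⊓ (E ⊓ centralizer ({(s : G)} : Set G)) from
      (inf_eq_right.2 (inf_le_left.trans hle)).symm, card_inf_eq_subgroupOf, show (E ⊓ centralizer ({(s : G)} : Set G)).subgroupOf C = E.subgroupOf C ⊓ (centralizer ({(s : G)} : Set G)).subgroupOf C from rfl, hsub,
      subgroupOf_centralizer]
  refine ⟨E, hcard, ⟨_, h.mem, rfl⟩, hle, ?_, helem, ?_, ?_, ?_, ?_, ?_, ?_, ?_, ?_⟩
  · intro g hg
    refine mem_normalizer_of_map_mem ?_
    rintro _ ⟨e, he, rfl⟩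
    exact ⟨_, h.normal.conj_mem e he ⟨g, hg⟩, rfl⟩
  · apply le_antisymm
    · intro g hg
      have hgC : g ∈ C := mem_centralizer_singleton_iff.2 (mem_centralizer_iff.1 hg t ⟨_, h.mem, rfl⟩).symm
      have h0 : (⟨g, hgC⟩ : C) ∈ centralizer (E₀ : Set C) :=
        mem_centralizer_iff.2 fun e he => Subtype.ext (mem_centralizer_iff.1 hg e ⟨e, he, rfl⟩)
      exact ⟨_, h.cent.le h0, rfl⟩
    · rintro _ ⟨e, he, rfl⟩
      refine mem_centralizer_iff.2 ?_
      rintro _ ⟨d, hd, rfl⟩
      exact congrArg Subtype.val (mem_centralizer_iff.1 (h.cent.ge he) d hd)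
  · intro s hs hsE hso
    rw [show s = ((⟨s, hs⟩ : C) : G) from rfl, hinf, h.invol ⟨s, hs⟩ (fun h' => hsE ⟨_, h', rfl⟩)
      (by rw [Subgroup.orderOf_mk, hso])]
  · intro u hu huo
    rw [show u = ((⟨u, hu⟩ : C) : G) from rfl, hinf, h.three ⟨u, hu⟩ (by rw [Subgroup.orderOf_mk, huo])]
  · intro u hu huo
    rw [show u = ((⟨u, hu⟩ : C) : G) from rfl, card_inf_eq_subgroupOf, subgroupOf_centralizer,
      h.cent_three ⟨u, hu⟩ (by rw [Subgroup.orderOf_mk, huo])]
  · obtain ⟨s, hs, hso⟩ := h.exists_outside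
    exact ⟨s, s.2, fun ⟨e, he, hes⟩ => hs (C.subtype_injective hes ▸ he), by rw [Subgroup.orderOf_coe, hso]⟩
  · intro X htX hXE hXn
    haveI : (X.subgroupOf C).Normal := ⟨fun x hx g => by
      rw [mem_subgroupOf] at hx ⊢
      exact conj_mem_of_mem_normalizer (hXn g.2) hx⟩
    have hX : X = (X.subgroupOf C).map C.subtype := (map_subgroupOf_eq_of_le (hXE.trans hle)).symm
    rcases h.trans (X.subgroupOf C) inferInstance htX (by
        rw [← hsub]; exact fun x hx => hXE hx) with e | e
    · left; rw [hX, e, MonoidHom.map_zpowers]; rfl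
    · right; rw [hX, e]
  · intro X hEX hXC hXn
    haveI : (X.subgroupOf C).Normal := ⟨fun x hx g => by
      rw [mem_subgroupOf] at hx ⊢
      exact conj_mem_of_mem_normalizer (hXn g.2) hx⟩
    have hX : X = (X.subgroupOf C).map C.subtype := (map_subgroupOf_eq_of_le hXC).symm
    rcases h.above (X.subgroupOf C) inferInstance (by rw [← hsub]; exact fun x hx => hEX hx) with e | e
    · left; rw [hX, e]
    · right; rw [hX, e, ← MonoidHom.range_eq_map, Subgroup.range_subtype]
  · intro s r hs hr hsE hrE hso hro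
    obtain ⟨c, hc⟩ := h.conj_out ⟨s, hs⟩ ⟨r, hr⟩ (fun h' => hsE ⟨_, h', rfl⟩) (fun h' => hrE ⟨_, h', rfl⟩)
      (by rw [Subgroup.orderOf_mk, hso]) (by rw [Subgroup.orderOf_mk, hro])
    exact ⟨c, c.2, ⟨_, hc, rfl⟩⟩

/-- The core is unique. -/
theorem IsE.eq_of {t : G} (ht : orderOf t = 2) {E F : Subgroup G} (hE : IsE t E) (h16 : Nat.card F = 16)
    (htF : t ∈ F) (hle : F ≤ centralizer ({t} : Set G))
    (hn : centralizer ({t} : Set G) ≤ normalizer (F : Set G)) (helem : ∀ f ∈ F, f * f = 1) : F = E := by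
  have t2 : t * t = 1 := by rw [← pow_two, ← ht, pow_orderOf_eq_one]
  rcases hE.trans (E ⊓ F) ⟨hE.mem, htF⟩ inf_le_left (fun g hg => mem_normalizer_of_map_mem fun y hy =>
      ⟨conj_mem_of_mem_normalizer (hE.norm hg) hy.1, conj_mem_of_mem_normalizer (hn hg) hy.2⟩) with e | e
  swap
  · exact (Subgroup.eq_of_le_of_card_ge (inf_eq_left.1 e) (by rw [h16, hE.card])).symm
  exfalso
  obtain ⟨f, hf, hfE⟩ : ∃ f ∈ F, f ∉ E := by
    by_contra hno
    push Not at hno
    have h1 := congrArg (fun X : Subgroup G => Nat.card X) (inf_eq_right.2 hno)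
    simp only [e, Nat.card_zpowers, ht, h16] at h1
    omega
  have hfo : orderOf f = 2 := orderOf_eq_prime (by rw [pow_two, helem f hf]) fun e' => hfE (e' ▸ one_mem E)
  have h4 := hE.invol f (hle hf) hfE hfo
  -- commutators with the involution take two values
  have hval : ∀ x : E, f * x * f⁻¹ * (x : G)⁻¹ = 1 ∨ f * x * f⁻¹ * (x : G)⁻¹ = t := by
    intro x
    have h1 : f * x * f⁻¹ * (x : G)⁻¹ ∈ E :=
      mul_mem (conj_mem_of_mem_normalizer (hE.norm (hle hf)) x.2) (inv_mem x.2)
    have h2 : f * x * f⁻¹ * (x : G)⁻¹ ∈ F := by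
      rw [show f * x * f⁻¹ * (x : G)⁻¹ = f * ((x : G) * f⁻¹ * (x : G)⁻¹) by group]
      exact mul_mem hf (conj_mem_of_mem_normalizer (hn (hE.le x.2)) (inv_mem hf))
    have h3 : f * x * f⁻¹ * (x : G)⁻¹ ∈ zpowers t := e ▸ ⟨h1, h2⟩
    obtain ⟨n, hn'⟩ := mem_zpowers_iff.1 h3
    rw [← hn', ← Int.emod_add_mul_ediv n 2, zpow_add, zpow_mul,
      show t ^ (2 : ℤ) = 1 by rw [show (2 : ℤ) = ((2 : ℕ) : ℤ) from rfl, zpow_natCast, pow_two, t2], one_zpow,
      mul_one]
    rcases Int.emod_two_eq_zero_or_one n with e' | e' <;> rw [e'] <;> simp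
  classical
  haveI := Fintype.ofFinite E
  have hsplit : ∀ b : G, (Finset.univ.filter fun x : E => f * x * f⁻¹ * (x : G)⁻¹ = b).card ≤ 4 := by
    intro b
    by_cases hne : (Finset.univ.filter fun x : E => f * x * f⁻¹ * (x : G)⁻¹ = b).Nonempty
    · obtain ⟨x₀, hx₀⟩ := hne
      have hx₀' := (Finset.mem_filter.1 hx₀).2
      haveI := Fintype.ofFinite ↥(E ⊓ centralizer ({f} : Set G))
      have hk : Fintype.card ↥(E ⊓ centralizer ({f} : Set G)) = 4 := by rw [← Nat.card_eq_fintype_card, h4]
      rw [← hk, ← Finset.card_univ]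
      refine Finset.card_le_card_of_injOn
        (fun x => if hx : f * x * f⁻¹ * (x : G)⁻¹ = b then
          (⟨(x₀ : G)⁻¹ * x, E.mul_mem (E.inv_mem x₀.2) x.2, mem_centralizer_singleton_iff.2 ?_⟩ :
            ↥(E ⊓ centralizer ({f} : Set G))) else 1) (fun x _ => Finset.mem_univ _) ?_
      · have h1 : f * x * f⁻¹ = b * x := by rw [← hx]; group
        have h2 : f * x₀ * f⁻¹ = b * x₀ := by rw [← hx₀']; group
        calc (x₀ : G)⁻¹ * x * f = (x₀ : G)⁻¹ * b⁻¹ * (f * x * f⁻¹) * f := by rw [h1]; group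
          _ = (f * x₀ * f⁻¹)⁻¹ * (f * x * f⁻¹) * f := by rw [h2]; group
          _ = f * ((x₀ : G)⁻¹ * x) := by group
      · intro x hx y hy hxy
        have hx' := (Finset.mem_filter.1 hx).2
        have hy' := (Finset.mem_filter.1 hy).2
        simp only [dif_pos hx', dif_pos hy', Subtype.mk.injEq] at hxy
        exact Subtype.ext (mul_left_cancel (congrArg Subtype.val hxy))
    · rw [Finset.not_nonempty_iff_eq_empty.1 hne]; simp
  have hcov : (Finset.univ : Finset E) ⊆ (Finset.univ.filter fun x : E => f * x * f⁻¹ * (x : G)⁻¹ = 1) ∪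
      (Finset.univ.filter fun x : E => f * x * f⁻¹ * (x : G)⁻¹ = t) := fun x _ => by simpa using hval x
  have h5 := (Finset.card_le_card hcov).trans (Finset.card_union_le _ _)
  rw [Finset.card_univ, ← Nat.card_eq_fintype_card, hE.card] at h5
  have := hsplit 1
  have := hsplit t
  omega

theorem IsE.map {t : G} (ht : orderOf t = 2) {E : Subgroup G} (hE : IsE t E) (g : G) :
    IsE (g * t * g⁻¹) (E.map (MulAut.conj g).toMonoidHom) := by
  have ht' : orderOf (g * t * g⁻¹) = 2 := by
    rw [show g * t * g⁻¹ = MulAut.conj g t from rfl, MulEquiv.orderOf_eq, ht]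
  obtain ⟨F, hF'⟩ := exists_isE hF ht'
  have hback : ∀ y ∈ centralizer ({g * t * g⁻¹} : Set G), g⁻¹ * y * g ∈ centralizer ({t} : Set G) := fun y hy => by
    refine mem_centralizer_singleton_iff.2 ?_
    calc g⁻¹ * y * g * t = g⁻¹ * (y * (g * t * g⁻¹)) * g := by group
      _ = g⁻¹ * ((g * t * g⁻¹) * y) * g := by rw [mem_centralizer_singleton_iff.1 hy]
      _ = t * (g⁻¹ * y * g) := by group
  have := hF'.eq_of hF ht' (F := E.map (MulAut.conj g).toMonoidHom)
    (by rw [Subgroup.card_map_of_injective (MulAut.conj g).injective, hE.card])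
    ⟨t, hE.mem, rfl⟩
    (by
      rintro _ ⟨e, he, rfl⟩
      refine mem_centralizer_singleton_iff.2 ?_
      show g * e * g⁻¹ * (g * t * g⁻¹) = g * t * g⁻¹ * (g * e * g⁻¹)
      calc g * e * g⁻¹ * (g * t * g⁻¹) = g * (e * t) * g⁻¹ := by group
        _ = g * (t * e) * g⁻¹ := by rw [mem_centralizer_singleton_iff.1 (hE.le he)]
        _ = _ := by group)
    (fun y hy => mem_normalizer_of_map_mem (by
      rintro _ ⟨e, he, rfl⟩
      refine ⟨g⁻¹ * y * g * e * (g⁻¹ * y * g)⁻¹, conj_mem_of_mem_normalizer (hE.norm (hback y hy)) he, ?_⟩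
      show g * (g⁻¹ * y * g * e * (g⁻¹ * y * g)⁻¹) * g⁻¹ = y * (g * e * g⁻¹) * y⁻¹
      group))
    (by
      rintro _ ⟨e, he, rfl⟩
      show g * e * g⁻¹ * (g * e * g⁻¹) = 1
      calc g * e * g⁻¹ * (g * e * g⁻¹) = g * (e * e) * g⁻¹ := by group
        _ = 1 := by rw [hE.elem e he]; group)
  rw [this]
  exact hF'

end CfsgLib.Char.MTwentyThreeOrder
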